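import Mathlib
import Cfsg.Prelude.Def_Solvable
import Cfsg.Agent.H16.OddOrder

/-!
Centralisers in finite simple groups: orders, coprime products, central elements of Sylow subgroups.
-/

set_option autoImplicit false
set_option linter.unusedSectionVars false

namespace H8.Rank3

universe u

variable {G : Type u} [Group G]

/-- The centraliser of an element. -/
abbrev Cz (x : G) : Subgroup G := Subgroup.centralizer ({x} : Set G)

/-- The order of the centraliser of an element. -/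
noncomputable abbrev cc (x : G) : ℕ := Nat.card (Cz x)

theorem mem_Cz {x g : G} : g ∈ Cz x ↔ g * x = x * g := Subgroup.mem_centralizer_singleton_iff

theorem self_mem_Cz (x : G) : x ∈ Cz x := mem_Cz.2 rfl

theorem mem_Cz_comm {x g : G} : g ∈ Cz x ↔ x ∈ Cz g := by rw [mem_Cz, mem_Cz]; exact eq_comm

theorem Cz_le_of_mem_zpowers {x y : G} (h : y ∈ Subgroup.zpowers x) : Cz x ≤ Cz y := by
  obtain ⟨k, rfl⟩ := h
  intro g hg
  exact mem_Cz.2 (Commute.zpow_right (mem_Cz.1 hg) k)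

theorem Cz_mul_eq {u v : G} (hc : Commute u v) (hco : Nat.Coprime (orderOf u) (orderOf v)) :
    Cz (u * v) = Cz u ⊓ Cz v := by
  apply le_antisymm
  · have hu : u ∈ Subgroup.zpowers (u * v) := by
      obtain ⟨k, hk1, hk2⟩ := Nat.chineseRemainder hco 1 0
      refine ⟨(k : ℤ), ?_⟩
      simp only [zpow_natCast]
      rw [hc.mul_pow, pow_eq_pow_iff_modEq.2 hk1, pow_eq_pow_iff_modEq.2 hk2, pow_one, pow_zero,
        mul_one]
    refine le_inf (Cz_le_of_mem_zpowers hu) (Cz_le_of_mem_zpowers ?_)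
    have h := Subgroup.mul_mem _ (Subgroup.inv_mem _ hu) (Subgroup.mem_zpowers (u * v))
    rwa [inv_mul_cancel_left] at h
  · intro g hg
    exact mem_Cz.2 ((show Commute g u from mem_Cz.1 hg.1).mul_right (mem_Cz.1 hg.2))

theorem Cz_conj (g x : G) : Cz (g * x * g⁻¹) = (Cz x).map (MulAut.conj g).toMonoidHom := by
  ext w
  rw [Subgroup.mem_map]
  constructor
  · intro hw
    refine ⟨g⁻¹ * w * g, mem_Cz.2 ?_, by simp [mul_assoc]⟩
    have := mem_Cz.1 hw
    calc g⁻¹ * w * g * x = g⁻¹ * (w * (g * x * g⁻¹)) * g := by group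
      _ = g⁻¹ * (g * x * g⁻¹ * w) * g := by rw [this]
      _ = x * (g⁻¹ * w * g) := by group
  · rintro ⟨v, hv, rfl⟩
    refine mem_Cz.2 ?_
    have := mem_Cz.1 hv
    show g * v * g⁻¹ * (g * x * g⁻¹) = g * x * g⁻¹ * (g * v * g⁻¹)
    calc g * v * g⁻¹ * (g * x * g⁻¹) = g * (v * x) * g⁻¹ := by group
      _ = g * (x * v) * g⁻¹ := by rw [this]
      _ = g * x * g⁻¹ * (g * v * g⁻¹) := by group

theorem cc_conj (g x : G) : cc (g * x * g⁻¹) = cc x := by
  show Nat.card (Cz (g * x * g⁻¹)) = Nat.card (Cz x)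
  rw [Cz_conj]
  exact Subgroup.card_map_of_injective (MulAut.conj g).injective

theorem orderOf_conj' (g x : G) : orderOf (g * x * g⁻¹) = orderOf x := (MulAut.conj g).orderOf_eq x

variable [Finite G]

theorem orderOf_dvd_cc (x : G) : orderOf x ∣ cc x := (Cz x).orderOf_dvd_natCard (self_mem_Cz x)

theorem cc_pos (x : G) : 0 < cc x := Nat.card_pos

theorem cc_dvd (x : G) : cc x ∣ Nat.card G := (Cz x).card_subgroup_dvd_card

theorem cc_le_of_le {x y : G} (h : Cz x ≤ Cz y) : cc x ∣ cc y := Subgroup.card_dvd_of_le h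

theorem Cz_eq_of_le {x y : G} (h : Cz x ≤ Cz y) (e : cc x = cc y) : Cz x = Cz y :=
  Subgroup.eq_of_le_of_card_ge h e.ge

/-- A nontrivial element has a power of prime order. -/
theorem exists_prime_power_elem {x : G} (hx : x ≠ 1) :
    ∃ (p : ℕ) (y : G), p.Prime ∧ orderOf y = p ∧ y ∈ Subgroup.zpowers x := by
  obtain ⟨p, hp, hd⟩ := Nat.exists_prime_and_dvd (mt orderOf_eq_one_iff.1 hx)
  exact ⟨p, x ^ (orderOf x / p), hp, orderOf_pow_orderOf_div (orderOf_pos x).ne' hd,
    Subgroup.pow_mem _ (Subgroup.mem_zpowers x) _⟩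

theorem exists_central_of_sylow {p : ℕ} [Fact p.Prime] (hp : p ∣ Nat.card G) (P : Sylow p G) :
    ∃ w ∈ (P : Subgroup G), orderOf w = p ∧ (P : Subgroup G) ≤ Cz w := by
  haveI : Nontrivial (P : Subgroup G) :=
    (Subgroup.nontrivial_iff_ne_bot _).2 (P.ne_bot_of_dvd_card hp)
  haveI := P.isPGroup'.center_nontrivial
  have h1 : p ∣ Nat.card (Subgroup.center (P : Subgroup G)) := by
    obtain ⟨k, hk⟩ := (P.isPGroup'.to_subgroup (Subgroup.center _)).exists_card_eq
    have h2 : 1 < Nat.card (Subgroup.center (P : Subgroup G)) := Finite.one_lt_card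
    rw [hk] at h2 ⊢
    exact dvd_pow_self _ (fun h => by rw [h, pow_zero] at h2; omega)
  obtain ⟨⟨⟨w, hwP⟩, hwc⟩, hw⟩ := exists_prime_orderOf_dvd_card' p h1
  refine ⟨w, hwP, ?_, fun g hg => mem_Cz.2 ?_⟩
  · rw [← hw, Subgroup.orderOf_mk, Subgroup.orderOf_mk]
  · exact congrArg Subtype.val (Subgroup.mem_center_iff.1 hwc ⟨g, hg⟩)

theorem exists_sylow_mem {p : ℕ} [Fact p.Prime] {x : G} {k : ℕ} (hx : orderOf x = p ^ k) :
    ∃ P : Sylow p G, x ∈ (P : Subgroup G) := by
  obtain ⟨P, hP⟩ := (IsPGroup.of_card (p := p) (n := k)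
    (G := Subgroup.zpowers x) (by rw [Nat.card_zpowers, hx])).exists_le_sylow
  exact ⟨P, hP (Subgroup.mem_zpowers x)⟩

theorem sylow_card_eq {p : ℕ} [Fact p.Prime] (P Q : Sylow p G) :
    Nat.card (P : Subgroup G) = Nat.card (Q : Subgroup G) := by
  rw [P.card_eq_multiplicity, Q.card_eq_multiplicity]

theorem pow_dvd_sylow_card {p k : ℕ} [Fact p.Prime] (P : Sylow p G) (h : p ^ k ∣ Nat.card G) :
    p ^ k ∣ Nat.card (P : Subgroup G) := by
  rw [P.card_eq_multiplicity]
  exact pow_dvd_pow _ ((Nat.Prime.pow_dvd_iff_le_factorization Fact.out Nat.card_pos.ne').1 h)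

/-- A subgroup whose elements of prime-power order are central in it is abelian. -/
theorem isMulCommutative_of_primePow_central {H : Subgroup G}
    (h : ∀ (p k : ℕ), p.Prime → ∀ v ∈ H, orderOf v = p ^ k → H ≤ Cz v) : IsMulCommutative H := by
  have hc : Subgroup.center H = ⊤ := by
    refine Subgroup.eq_top_of_le_card _ (Nat.le_of_dvd Nat.card_pos ?_)
    refine (Nat.dvd_iff_prime_pow_dvd_dvd _ _).2 fun p k hp hd => ?_
    haveI := Fact.mk hp
    obtain ⟨P⟩ : Nonempty (Sylow p H) := Sylow.nonempty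
    have hP : (P : Subgroup H) ≤ Subgroup.center H := by
      intro v hv
      obtain ⟨j, hj⟩ := (IsPGroup.iff_orderOf.1 P.isPGroup') ⟨v, hv⟩
      rw [Subgroup.orderOf_mk] at hj
      refine Subgroup.mem_center_iff.2 fun g => Subtype.ext ?_
      exact mem_Cz.1 (h p j hp v v.2 (by rw [Subgroup.orderOf_coe, hj]) g.2)
    exact (pow_dvd_sylow_card P hd).trans (Subgroup.card_dvd_of_le hP)
  exact ⟨⟨fun a b => (Subgroup.mem_center_iff.1 (hc ▸ Subgroup.mem_top a) b).symm⟩⟩

theorem mem_Cz_of_comm {H : Subgroup G} (hH : IsMulCommutative H) {a b : G} (ha : a ∈ H)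
    (hb : b ∈ H) : a ∈ Cz b :=
  mem_Cz.2 (congrArg Subtype.val (hH.is_comm.comm ⟨a, ha⟩ ⟨b, hb⟩))

section simple

variable [IsSimpleGroup G]

theorem center_eq_bot (hna : ¬ IsMulCommutative G) : Subgroup.center G = ⊥ :=
  (inferInstance : (Subgroup.center G).Normal).eq_bot_or_eq_top.resolve_right fun h =>
    hna ⟨⟨fun a b => (Subgroup.mem_center_iff.1 (h ▸ Subgroup.mem_top a) b).symm⟩⟩

theorem Cz_ne_top (hna : ¬ IsMulCommutative G) {x : G} (hx : x ≠ 1) : Cz x ≠ ⊤ := fun h =>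
  hx (Subgroup.mem_bot.1 (center_eq_bot hna ▸ Subgroup.mem_center_iff.2 fun g =>
    mem_Cz.1 (h ▸ Subgroup.mem_top g)))

theorem cc_lt (hna : ¬ IsMulCommutative G) {x : G} (hx : x ≠ 1) : cc x < Nat.card G := by
  rcases lt_or_eq_of_le (Nat.le_of_dvd Nat.card_pos (cc_dvd x)) with h | h
  · exact h
  · exact absurd (Subgroup.eq_top_of_card_eq _ h) (Cz_ne_top hna hx)

theorem two_dvd_card (hna : ¬ IsMulCommutative G) : 2 ∣ Nat.card G := by
  by_contra h
  have hodd : Odd (Nat.card G) := Nat.odd_iff.2 (by omega)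
  haveI := H16.FT.oddOrder hodd
  exact hna ⟨⟨fun a b => IsSimpleGroup.comm_iff_isSolvable.2 inferInstance a b⟩⟩

theorem pPrimeCore_eq_bot (hna : ¬ IsMulCommutative G) : Cfsg.pPrimeCore 2 G = ⊥ := by
  rw [Cfsg.pPrimeCore, sSup_eq_bot]
  rintro N ⟨hN, hco⟩
  refine hN.eq_bot_or_eq_top.resolve_right fun h => ?_
  subst h
  rw [Subgroup.card_top, Nat.coprime_two_right] at hco
  have := two_dvd_card (G := G) hna
  rw [Nat.odd_iff] at hco
  omega

end simple

end H8.Rank3
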