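import Mathlib
import Cfsg.Agent.H8.Coprime

/-!
Wielandt's order formula for an elementary abelian group of order `p ^ 2` acting on a group of order
prime to `p` (helper8).
-/

set_option autoImplicit false

namespace H8

open Subgroup H82
open scoped Pointwise

/-- Abelian case of the order formula. -/
theorem order_formula_abelian {V A ι : Type*} [CommGroup V] [Finite V] [CommGroup A] [Finite A]
    [Fintype ι] {p : ℕ} [Fact p.Prime] (hV : ¬ p ∣ Nat.card V) (hA : Nat.card A = p ^ 2)
    (D : ι → Subgroup A) (hDc : ∀ i, Nat.card (D i) = p) (huniq : ∀ a : A, a ≠ 1 → ∃! i, a ∈ D i)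
    (φ : A →* MulAut V) (C : Subgroup V) (hC : ∀ v, v ∈ C ↔ ∀ a, φ a v = v)
    (F : ι → Subgroup V) (hF : ∀ i v, v ∈ F i ↔ ∀ a ∈ D i, φ a v = v) :
    Nat.card V * Nat.card C ^ Fintype.card ι = Nat.card C * ∏ i, Nat.card (F i) := by
  classical
  haveI := Fintype.ofFinite A
  have hp := (Fact.out : p.Prime)
  have hpow : ∀ (W : Subgroup V) (v : V), v ^ p ∈ W → v ∈ W := by
    intro W v hv
    have hco : (orderOf v).Coprime p :=
      ((hp.coprime_iff_not_dvd.2 fun h => hV (h.trans (orderOf_dvd_natCard v)))).symm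
    obtain ⟨m, hm⟩ := exists_pow_eq_self_of_coprime hco.symm
    rw [← hm]
    exact pow_mem hv m
  let T : Subgroup A → V → V := fun S v => ∏ a ∈ Finset.univ.filter (· ∈ S), φ a v
  have hTfix : ∀ (S : Subgroup A) v, ∀ b ∈ S, φ b (T S v) = T S v := by
    intro S v b hb
    show φ b (∏ a ∈ Finset.univ.filter (· ∈ S), φ a v) = _
    rw [map_prod]
    refine Finset.prod_equiv (Equiv.mulLeft b) (fun a => ?_) (fun a _ => ?_)
    · simp [Subgroup.mul_mem_cancel_left S hb]
    · show φ b (φ a v) = φ (b * a) v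
      rw [map_mul]; rfl
  have hCF : ∀ i, C ≤ F i := fun i v hv => (hF i v).2 fun a _ => (hC v).1 hv a
  choose g hg hg' using huniq
  have hU : Finset.univ.erase (1 : A) =
      Finset.univ.biUnion fun i => (Finset.univ.filter (· ∈ D i)).erase 1 := by
    ext a
    simp only [Finset.mem_biUnion, Finset.mem_erase, Finset.mem_filter, Finset.mem_univ, true_and,
      and_true]
    exact ⟨fun h => ⟨g a h, h, hg a h⟩, fun ⟨_, h, _⟩ => h⟩
  have hdisj : ((Finset.univ : Finset ι) : Set ι).PairwiseDisjoint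
      (fun i => (Finset.univ.filter (· ∈ D i)).erase 1) := by
    intro i _ j _ hij
    refine Finset.disjoint_left.2 fun a hai haj => hij ?_
    simp only [Finset.mem_erase, Finset.mem_filter, Finset.mem_univ, true_and] at hai haj
    rw [hg' a hai.1 i hai.2, hg' a hai.1 j haj.2]
  have hDcard : ∀ i, ((Finset.univ.filter (· ∈ D i)).erase 1).card = p - 1 := by
    intro i
    rw [Finset.card_erase_of_mem (by simp), ← hDc i, Nat.card_eq_fintype_card,
      Fintype.card_subtype]
  have hn : Fintype.card ι = p + 1 := by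
    have h1 := congrArg Finset.card hU
    rw [Finset.card_biUnion hdisj, Finset.card_erase_of_mem (Finset.mem_univ _), Finset.card_univ,
      ← Nat.card_eq_fintype_card (α := A), hA] at h1
    simp only [hDcard, Finset.sum_const, Finset.card_univ, smul_eq_mul] at h1
    refine Nat.eq_of_mul_eq_mul_right (Nat.sub_pos_of_lt hp.one_lt) ?_
    rw [← h1, pow_two]
    have := hp.one_lt
    obtain ⟨k, rfl⟩ : ∃ k, p = k + 1 := ⟨p - 1, by omega⟩
    simp only [Nat.add_sub_cancel]
    exact Nat.sub_eq_of_eq_add (by ring)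
  let θ : ((i : ι) → F i) →* V :=
    { toFun := fun x => ∏ i, (x i : V)
      map_one' := by simp
      map_mul' := fun x y => by simp [Finset.prod_mul_distrib] }
  have hsurj : Function.Surjective θ := by
    have hmem : ∀ (i : ι) (v : V), v ∈ F i → v ∈ θ.range := by
      intro i v hv
      refine ⟨fun j => if h : i = j then ⟨v, h ▸ hv⟩ else 1, ?_⟩
      show ∏ j, _ = v
      rw [Finset.prod_eq_single i]
      · simp
      · intro j _ hj
        simp [Ne.symm hj]
      · simp
    intro v
    refine MonoidHom.mem_range.1 (hpow θ.range v ?_)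
    have h1 : ∏ i, T (D i) v = v ^ Fintype.card ι * ∏ a ∈ Finset.univ.erase 1, φ a v := by
      rw [hU, Finset.prod_biUnion hdisj, ← Finset.card_univ, ← Finset.prod_const,
        ← Finset.prod_mul_distrib]
      refine Finset.prod_congr rfl fun i _ => ?_
      show (∏ a ∈ Finset.univ.filter (· ∈ D i), φ a v) = _
      rw [← Finset.mul_prod_erase _ (fun a => φ a v)
        (show (1 : A) ∈ Finset.univ.filter (· ∈ D i) by simp), map_one]
      rfl
    have h2 : T ⊤ v = v * ∏ a ∈ Finset.univ.erase 1, φ a v := by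
      show ∏ a ∈ Finset.univ.filter (· ∈ (⊤ : Subgroup A)), φ a v = _
      rw [Finset.filter_true_of_mem (fun a _ => Subgroup.mem_top a),
        ← Finset.mul_prod_erase _ _ (Finset.mem_univ (1 : A)), map_one]
      rfl
    have h3 : v ^ p = (∏ i, T (D i) v) * (T ⊤ v)⁻¹ := by
      rw [h1, h2, hn, eq_mul_inv_iff_mul_eq, ← mul_assoc, ← pow_succ]
    rw [h3]
    refine mul_mem (prod_mem fun i _ => hmem i _ ((hF i _).2 (hTfix _ v))) (inv_mem ?_)
    obtain ⟨i⟩ : Nonempty ι := Fintype.card_pos_iff.1 (by omega)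
    exact hmem i _ (hCF i ((hC _).2 fun a => hTfix ⊤ v a (Subgroup.mem_top a)))
  have hker : ∀ x : (i : ι) → F i, θ x = 1 → ∀ j, (x j : V) ∈ C := by
    intro x hx j
    have h1 : ∏ i, T (D j) (x i : V) = 1 := by
      show ∏ i, ∏ a ∈ Finset.univ.filter (· ∈ D j), φ a (x i : V) = 1
      rw [Finset.prod_comm]
      refine Finset.prod_eq_one fun a _ => ?_
      rw [← map_prod]
      have hx' : ∏ i, (x i : V) = 1 := hx
      rw [hx', map_one]
    rw [← Finset.mul_prod_erase _ _ (Finset.mem_univ j)] at h1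
    have h2 : T (D j) (x j : V) = (x j : V) ^ p := by
      show ∏ a ∈ Finset.univ.filter (· ∈ D j), φ a (x j : V) = _
      rw [Finset.prod_congr rfl (fun a ha => (hF j _).1 (x j).2 a (Finset.mem_filter.1 ha).2),
        Finset.prod_const, ← Fintype.card_subtype, ← Nat.card_eq_fintype_card, hDc j]
    rw [h2] at h1
    refine hpow C _ ?_
    rw [mul_eq_one_iff_eq_inv.1 h1]
    refine inv_mem (prod_mem fun i hi => (hC _).2 ?_)
    have hij : i ≠ j := (Finset.mem_erase.1 hi).1
    set w := T (D j) (x i : V) with hw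
    let S : Subgroup A :=
      { carrier := {b | φ b w = w}
        one_mem' := by simp
        mul_mem' := fun {a b} ha hb => by
          show φ (a * b) w = w
          rw [map_mul]
          show φ a (φ b w) = w
          rw [hb, ha]
        inv_mem' := fun {a} ha => by
          show φ a⁻¹ w = w
          conv_lhs => rw [← (show φ a w = w from ha)]
          rw [← MulAut.mul_apply, ← map_mul, inv_mul_cancel, map_one]; rfl }
    have hjS : D j ≤ S := fun b hb => hTfix (D j) _ b hb
    have hiS : D i ≤ S := fun b hb => by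
      show φ b (∏ a ∈ Finset.univ.filter (· ∈ D j), φ a (x i : V)) = _
      rw [map_prod]
      refine Finset.prod_congr rfl fun a _ => ?_
      rw [← MulAut.mul_apply, ← map_mul, mul_comm, map_mul, MulAut.mul_apply,
        (hF i _).1 (x i).2 b hb]
    obtain ⟨k, hk2, hk⟩ := (Nat.dvd_prime_pow hp).1 (hA ▸ Subgroup.card_subgroup_dvd_card S)
    have hdvd : p ∣ Nat.card S := hDc j ▸ Subgroup.card_dvd_of_le hjS
    have hk' : k = 2 := by
      interval_cases k
      · rw [pow_zero] at hk
        exact absurd (Nat.dvd_one.1 (hk ▸ hdvd)) hp.one_lt.ne'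
      · exfalso
        have hle : D i ≤ D j := by
          rw [Subgroup.eq_of_le_of_card_ge hjS (by rw [hk, hDc j, pow_one])]
          exact hiS
        have hne : D i ≠ ⊥ := fun h => hp.one_lt.ne' (by rw [← hDc i, h, Subgroup.card_bot])
        obtain ⟨a, ha, ha1⟩ := (Subgroup.ne_bot_iff_exists_ne_one).1 hne |> fun ⟨a, ha⟩ =>
          (⟨a.1, a.2, fun h => ha (Subtype.ext h)⟩ : ∃ a : A, a ∈ D i ∧ a ≠ 1)
        exact hij ((hg' a ha1 i ha).trans (hg' a ha1 j (hle ha)).symm)
      · rfl
    have htop : S = ⊤ := Subgroup.eq_top_of_card_eq _ (by rw [hk, hk', hA])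
    intro a
    have ha : a ∈ S := htop ▸ Subgroup.mem_top a
    exact ha
  let σ : (ι → C) →* V :=
    { toFun := fun x => ∏ i, (x i : V)
      map_one' := by simp
      map_mul' := fun x y => by simp [Finset.prod_mul_distrib] }
  have hσ : σ.range = C := by
    refine le_antisymm ?_ fun c hc => ?_
    · rintro _ ⟨x, rfl⟩
      exact prod_mem fun i _ => (x i).2
    · obtain ⟨i⟩ : Nonempty ι := Fintype.card_pos_iff.1 (by omega)
      refine ⟨fun j => if i = j then ⟨c, hc⟩ else 1, ?_⟩
      show ∏ j, _ = c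
      rw [Finset.prod_eq_single i]
      · simp
      · intro j _ hj
        simp [Ne.symm hj]
      · simp
  let e : θ.ker ≃ σ.ker :=
    { toFun := fun x => ⟨fun i => ⟨x.1 i, hker x.1 x.2 i⟩, x.2⟩
      invFun := fun y => ⟨fun i => ⟨y.1 i, hCF i (y.1 i).2⟩, y.2⟩
      left_inv := fun x => rfl
      right_inv := fun y => rfl }
  have hθ := θ.ker.card_mul_index
  rw [Subgroup.index_ker, MonoidHom.range_eq_top.2 hsurj, Subgroup.card_top, Nat.card_congr e,
    Nat.card_pi] at hθ
  have hσ' := σ.ker.card_mul_index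
  rw [Subgroup.index_ker, hσ, Nat.card_fun, Nat.card_eq_fintype_card (α := ι)] at hσ'
  rw [← hθ, ← hσ']
  ring

variable {G : Type*} [Group G]

/-- The lines of `B` partition its non-identity elements. -/
theorem exists_unique_line {p : ℕ} [Fact p.Prime] {B : Subgroup G} (hB : ∀ b ∈ B, b ^ p = 1)
    [Finite G] (b : G) (hb : b ∈ B) (hb1 : b ≠ 1) :
    ∃! D : {D : Subgroup G // D ≤ B ∧ Nat.card D = p}, b ∈ D.1 := by
  have ho : orderOf b = p := orderOf_eq_prime (hB b hb) hb1
  refine ⟨⟨Subgroup.zpowers b, (Subgroup.zpowers_le (g := b)).2 hb, by rw [Nat.card_zpowers, ho]⟩,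
    Subgroup.mem_zpowers b, fun D hD => Subtype.ext ?_⟩
  exact (Subgroup.eq_of_le_of_card_ge ((Subgroup.zpowers_le (g := b)).2 hD)
    (by rw [Nat.card_zpowers, ho, D.2.2])).symm

/-- Product formula for the cardinality of a product of two subgroups. -/
theorem card_setMul_mul_card_inf [Finite G] (X Y : Subgroup G) :
    Nat.card ↥((X : Set G) * (Y : Set G)) * Nat.card (X ⊓ Y : Subgroup G) = Nat.card X * Nat.card Y := by
  classical
  rw [← Nat.card_prod, ← Nat.card_prod]
  have hex : ∀ s : ↥((X : Set G) * (Y : Set G)), ∃ xy : X × Y, (xy.1 : G) * xy.2 = s := by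
    rintro ⟨_, x, hx, y, hy, rfl⟩
    exact ⟨(⟨x, hx⟩, ⟨y, hy⟩), rfl⟩
  choose f hf using hex
  refine Nat.card_congr
    { toFun := fun sd => (⟨(f sd.1).1 * sd.2, mul_mem (f sd.1).1.2 sd.2.2.1⟩,
        ⟨(sd.2 : G)⁻¹ * (f sd.1).2, mul_mem (inv_mem (Subgroup.mem_inf.1 sd.2.2).2) (f sd.1).2.2⟩)
      invFun := fun xy =>
        (⟨xy.1 * xy.2, Set.mul_mem_mul xy.1.2 xy.2.2⟩,
          ⟨((f ⟨xy.1 * xy.2, Set.mul_mem_mul xy.1.2 xy.2.2⟩).1 : G)⁻¹ * xy.1, by
            refine Subgroup.mem_inf.2 ⟨mul_mem (inv_mem (f _).1.2) xy.1.2, ?_⟩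
            have h := hf ⟨xy.1 * xy.2, Set.mul_mem_mul xy.1.2 xy.2.2⟩
            have e : ((f ⟨xy.1 * xy.2, Set.mul_mem_mul xy.1.2 xy.2.2⟩).1 : G)⁻¹ * xy.1 =
                ((f ⟨xy.1 * xy.2, Set.mul_mem_mul xy.1.2 xy.2.2⟩).2 : G) * (xy.2 : G)⁻¹ := by
              rw [inv_mul_eq_iff_eq_mul, ← mul_assoc, h, mul_inv_cancel_right]
            rw [e]
            exact mul_mem (f _).2.2 (inv_mem xy.2.2)⟩)
      left_inv := ?_
      right_inv := ?_ }
  · rintro ⟨s, d⟩
    have hs : ((f s).1 : G) * d * ((d : G)⁻¹ * (f s).2) = s := by rw [← hf s]; group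
    have hsub : (⟨((f s).1 : G) * d * ((d : G)⁻¹ * (f s).2),
        Set.mul_mem_mul (mul_mem (f s).1.2 d.2.1) (mul_mem (inv_mem (Subgroup.mem_inf.1 d.2).2) (f s).2.2)⟩ :
        ↥((X : Set G) * (Y : Set G))) = s := Subtype.ext hs
    refine Prod.ext hsub (Subtype.ext ?_)
    show ((f ⟨((f s).1 : G) * d * ((d : G)⁻¹ * (f s).2), _⟩).1 : G)⁻¹ * ((f s).1 * d) = d
    rw [hsub]; group
  · rintro ⟨x, y⟩
    have h := hf ⟨(x : G) * y, Set.mul_mem_mul x.2 y.2⟩
    refine Prod.ext (Subtype.ext ?_) (Subtype.ext ?_)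
    · simp
    · simp only at h ⊢
      rw [mul_inv_rev, inv_inv, mul_assoc, h]
      group

variable [Finite G] {p : ℕ} [Fact p.Prime]

section Formula

variable {B : Subgroup G} [Fintype {D : Subgroup G // D ≤ B ∧ Nat.card D = p}]

theorem order_formula_qgroup (hB : Cfsg.IsElementaryAbelian p B) (hB2 : Nat.card B = p ^ 2)
    {q : ℕ} [Fact q.Prime] {L : Subgroup G} (hLq : IsPGroup q L) (hL : ¬ p ∣ Nat.card L)
    (hBL : B ≤ Subgroup.normalizer (L : Set G)) :
    Nat.card L * Nat.card (L ⊓ Subgroup.centralizer (B : Set G) : Subgroup G) ^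
        Fintype.card {D : Subgroup G // D ≤ B ∧ Nat.card D = p} =
      Nat.card (L ⊓ Subgroup.centralizer (B : Set G) : Subgroup G) *
        ∏ D : {D : Subgroup G // D ≤ B ∧ Nat.card D = p},
          Nat.card (L ⊓ Subgroup.centralizer (D.1 : Set G) : Subgroup G) := by
  classical
  induction hn : Nat.card L using Nat.strong_induction_on generalizing L with
  | _ n ih =>
  subst hn
  haveI := hB.1
  by_cases hbot : L = ⊥
  · subst hbot; simp
  have hBp : IsPGroup p B := IsPGroup.of_card hB2
  haveI : Nontrivial L := (Subgroup.nontrivial_iff_ne_bot L).2 hbot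
  haveI : Group.IsNilpotent L := hLq.isNilpotent
  haveI : Group.IsSolvable L := inferInstance
  set N : Subgroup G := (commutator L).map L.subtype with hN
  have hNL : N ≤ L := Subgroup.map_subtype_le _
  have hlt : Nat.card N < Nat.card L := by
    rw [hN, Subgroup.card_map_of_injective L.subtype_injective]
    refine lt_of_le_of_ne (Subgroup.card_le_card_group _) fun e => ?_
    exact (Group.IsSolvable.commutator_lt_top_of_nontrivial L).ne (Subgroup.eq_top_of_card_eq _ e)
  have hBN : B ≤ Subgroup.normalizer (N : Set G) := by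
    intro b hb
    rw [mem_normalizer_iff_map, hN, Subgroup.map_subtype_commutator, Subgroup.map_commutator,
      mem_normalizer_iff_map.1 (hBL hb)]
  let φ : B →* MulAut (Abelianization L) :=
    { toFun := fun b => MulEquiv.abelianizationCongr
        (L.normalizerMonoidHom (Subgroup.inclusion hBL b))
      map_one' := by
        ext v
        obtain ⟨l, rfl⟩ := QuotientGroup.mk_surjective v
        exact congrArg Abelianization.of (Subtype.ext (by simp [Subgroup.normalizerMonoidHom]))
      map_mul' := fun a b => by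
        ext v
        obtain ⟨l, rfl⟩ := QuotientGroup.mk_surjective v
        exact congrArg Abelianization.of (Subtype.ext (by
          show ((a * b : B) : G) * (l : G) * ((a * b : B) : G)⁻¹ =
            (a : G) * ((b : G) * (l : G) * (b : G)⁻¹) * (a : G)⁻¹
          rw [Subgroup.coe_mul]; group)) }
  have hφ : ∀ (b : B) (l : L), φ b (Abelianization.of l) =
      Abelianization.of ⟨(b : G) * l * (b : G)⁻¹, conj_mem_of_le_normalizer hBL b.2 l.2⟩ :=
    fun b l => rfl
  -- the fixed points of a subgroup `S ≤ B` in the abelianization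
  have hfix : ∀ S : Subgroup G, S ≤ B → ∀ Φ : Subgroup (Abelianization L),
      (∀ v, v ∈ Φ ↔ ∀ b : B, (b : G) ∈ S → φ b v = v) →
      Nat.card (L ⊓ Subgroup.centralizer (S : Set G) : Subgroup G) =
        Nat.card (N ⊓ Subgroup.centralizer (S : Set G) : Subgroup G) * Nat.card Φ := by
    intro S hS Φ hΦ
    set P : Subgroup L := (Subgroup.centralizer (S : Set G)).subgroupOf L with hP
    have hPc : Nat.card (L ⊓ Subgroup.centralizer (S : Set G) : Subgroup G) = Nat.card P := by
      rw [hP, ← Subgroup.card_map_of_injective L.subtype_injective, Subgroup.subgroupOf_map_subtype,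
        inf_comm]
    let f : P →* Abelianization L := Abelianization.of.comp P.subtype
    have hrange : f.range = Φ := by
      refine le_antisymm ?_ fun v hv => ?_
      · rintro _ ⟨l, rfl⟩
        refine (hΦ _).2 fun b hb => ?_
        show φ b (Abelianization.of (l : L)) = Abelianization.of (l : L)
        rw [hφ]
        congr 1
        apply Subtype.ext
        show (b : G) * ((l : L) : G) * (b : G)⁻¹ = _
        have h : (b : G) * ((l : L) : G) = ((l : L) : G) * b :=
          Subgroup.mem_centralizer_iff.1 l.2 _ hb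
        rw [h, mul_inv_cancel_right]
      · obtain ⟨l, rfl⟩ := QuotientGroup.mk_surjective v
        have hx : ∀ s ∈ S, (l : G)⁻¹ * (s * l * s⁻¹) ∈ N := by
          intro s hs
          have h := (hΦ _).1 hv ⟨s, hS hs⟩ hs
          have h' : Abelianization.of (⟨s * l * s⁻¹, conj_mem_of_le_normalizer hBL (hS hs) l.2⟩ : L) =
              Abelianization.of l := h
          exact ⟨l⁻¹ * ⟨s * l * s⁻¹, conj_mem_of_le_normalizer hBL (hS hs) l.2⟩,
            (QuotientGroup.eq (s := commutator L) (a := l)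
              (b := ⟨s * l * s⁻¹, conj_mem_of_le_normalizer hBL (hS hs) l.2⟩)).1 h'.symm, rfl⟩
        obtain ⟨c, hc, m, hm, hlm⟩ := exists_centralizer_mul (hBp.to_le hS) (hS.trans hBN) hL hNL l.2 hx
        refine ⟨⟨⟨c, hc.1⟩, hc.2⟩, ?_⟩
        obtain ⟨m', hm', rfl⟩ := hm
        refine QuotientGroup.eq.2 ?_
        have e : (⟨c, hc.1⟩ : L)⁻¹ * l = m' := by
          apply Subtype.ext
          show c⁻¹ * (l : G) = (m' : G)
          rw [hlm]; simp
        show (⟨c, hc.1⟩ : L)⁻¹ * l ∈ commutator L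
        rw [e]
        exact hm' 
    have hker : Nat.card f.ker = Nat.card (N ⊓ Subgroup.centralizer (S : Set G) : Subgroup G) := by
      refine Nat.card_congr
        { toFun := fun x => ⟨((x.1 : L) : G), ⟨(x.1 : L),
            Abelianization.ker_of L ▸ (show (x.1 : L) ∈ Abelianization.of.ker from x.2), rfl⟩, x.1.2⟩
          invFun := fun y => ⟨⟨⟨y.1, hNL y.2.1⟩, y.2.2⟩, by
            obtain ⟨l, hl, hly⟩ := y.2.1
            show Abelianization.of (⟨y.1, hNL y.2.1⟩ : L) = 1
            have e : (⟨y.1, hNL y.2.1⟩ : L) = l := Subtype.ext hly.symm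
            rw [e]
            exact MonoidHom.mem_ker.1 (Abelianization.ker_of L ▸ hl)⟩
          left_inv := fun x => rfl
          right_inv := fun y => rfl }
    rw [hPc, ← f.ker.card_mul_index, Subgroup.index_ker, hrange, hker]
  let fixG : Subgroup B → Subgroup (Abelianization L) := fun S =>
    { carrier := {v | ∀ b ∈ S, φ b v = v}
      one_mem' := fun b _ => map_one _
      mul_mem' := fun {u v} hu hv b hb => by rw [map_mul, hu b hb, hv b hb]
      inv_mem' := fun {v} hv b hb => by rw [map_inv, hv b hb] }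
  have hV : ¬ p ∣ Nat.card (Abelianization L) := fun h =>
    hL (h.trans (Subgroup.card_quotient_dvd_card _))
  letI : CommGroup B := { (inferInstance : Group B) with mul_comm := fun a b => mul_comm' a b }
  have key := order_formula_abelian hV hB2
    (fun D : {D : Subgroup G // D ≤ B ∧ Nat.card D = p} => D.1.subgroupOf B)
    (fun D => (Nat.card_congr (Subgroup.subgroupOfEquivOfLe D.2.1).toEquiv).trans D.2.2)
    (fun a ha => exists_unique_line hB.2 (a : G) a.2 fun h => ha (Subtype.ext h))
    φ (fixG ⊤) (fun v => ⟨fun h a => h a (Subgroup.mem_top a), fun h a _ => h a⟩)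
    (fun D => fixG (D.1.subgroupOf B)) (fun D v => Iff.rfl)
  have hcard : Nat.card L = Nat.card N * Nat.card (Abelianization L) := by
    rw [hN, Subgroup.card_map_of_injective L.subtype_injective]
    exact (commutator L).card_mul_index.symm
  have hCB := hfix B le_rfl (fixG ⊤) fun v =>
    ⟨fun h b _ => h b (Subgroup.mem_top b), fun h b _ => h b b.2⟩
  have hCD : ∀ D : {D : Subgroup G // D ≤ B ∧ Nat.card D = p}, _ := fun D =>
    hfix D.1 D.2.1 (fixG (D.1.subgroupOf B)) fun v => Iff.rfl
  have hIH := ih _ hlt (hLq.to_le hNL) (not_dvd_card_of_le hNL hL) hBN rfl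
  rw [hcard, hCB, Finset.prod_congr rfl (fun D _ => hCD D), Finset.prod_mul_distrib, mul_pow]
  calc Nat.card N * Nat.card (Abelianization L) * (_ * _)
      = (Nat.card N * Nat.card (N ⊓ Subgroup.centralizer (B : Set G) : Subgroup G) ^
          Fintype.card {D : Subgroup G // D ≤ B ∧ Nat.card D = p}) *
        (Nat.card (Abelianization L) * Nat.card (fixG ⊤) ^
          Fintype.card {D : Subgroup G // D ≤ B ∧ Nat.card D = p}) := by ring
    _ = _ := by rw [hIH, key]; ring

/-- Wielandt's order formula. -/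
theorem order_formula (hB : Cfsg.IsElementaryAbelian p B) (hB2 : Nat.card B = p ^ 2)
    {K : Subgroup G} (hK : ¬ p ∣ Nat.card K) (hBK : B ≤ Subgroup.normalizer (K : Set G)) :
    Nat.card K * Nat.card (K ⊓ Subgroup.centralizer (B : Set G) : Subgroup G) ^
        Fintype.card {D : Subgroup G // D ≤ B ∧ Nat.card D = p} =
      Nat.card (K ⊓ Subgroup.centralizer (B : Set G) : Subgroup G) *
        ∏ D : {D : Subgroup G // D ≤ B ∧ Nat.card D = p},
          Nat.card (K ⊓ Subgroup.centralizer (D.1 : Set G) : Subgroup G) := by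
  have hBp : IsPGroup p B := IsPGroup.of_card hB2
  refine Nat.eq_of_factorization_eq (mul_pos Nat.card_pos (pow_pos Nat.card_pos _)).ne'
    (mul_pos Nat.card_pos (Finset.prod_pos fun _ _ => Nat.card_pos)).ne' fun q => ?_
  by_cases hq : q.Prime
  swap
  · rw [Nat.factorization_eq_zero_of_not_prime _ hq, Nat.factorization_eq_zero_of_not_prime _ hq]
  haveI := Fact.mk hq
  obtain ⟨Q, hQ, hBQ⟩ := exists_inv_sylowIn (q := q) hBp hBK hK
  have h := order_formula_qgroup hB hB2 hQ.isPGroup (not_dvd_card_of_le hQ.le hK) hBQ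
  have hC := (sylowIn_centralizer hBp hBK hK hQ hBQ).card_eq
  have hD : ∀ D : {D : Subgroup G // D ≤ B ∧ Nat.card D = p}, _ := fun D =>
    (sylowIn_centralizer (hBp.to_le D.2.1) (D.2.1.trans hBK) hK hQ (D.2.1.trans hBQ)).card_eq
  rw [hQ.card_eq, hC, Finset.prod_congr rfl (fun D _ => hD D), Finset.prod_pow_eq_pow_sum, ← pow_mul,
    ← pow_add, ← pow_add] at h
  have h' := Nat.pow_right_injective hq.two_le h
  rw [Nat.factorization_mul Nat.card_pos.ne' (pow_pos Nat.card_pos _).ne',
    Nat.factorization_mul Nat.card_pos.ne' (Finset.prod_pos fun _ _ => Nat.card_pos).ne',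
    Nat.factorization_pow, Nat.factorization_prod fun _ _ => Nat.card_pos.ne']
  simp only [Finsupp.coe_add, Pi.add_apply, Finsupp.coe_smul, Pi.smul_apply, smul_eq_mul,
    Finsupp.coe_finset_sum, Finset.sum_apply]
  linarith [h']

end Formula

/-- `K = XY` when the factorization holds in the centralizers of the elements of a noncyclic
elementary abelian group. -/
theorem factorization_of_centralizers {A K X Y : Subgroup G} (hA : Cfsg.IsElementaryAbelian p A)
    (hA2 : p ^ 2 ≤ Nat.card A) (hK : ¬ p ∣ Nat.card K) (hAK : A ≤ Subgroup.normalizer (K : Set G))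
    (hX : X ≤ K) (hY : Y ≤ K) (hAX : A ≤ Subgroup.normalizer (X : Set G))
    (hAY : A ≤ Subgroup.normalizer (Y : Set G))
    (hfac : ∀ a ∈ A, a ≠ 1 → ((K ⊓ Subgroup.centralizer {a} : Subgroup G) : Set G) =
      ((X ⊓ Subgroup.centralizer {a} : Subgroup G) : Set G) *
        ((Y ⊓ Subgroup.centralizer {a} : Subgroup G) : Set G)) :
    (K : Set G) = (X : Set G) * (Y : Set G) := by
  classical
  haveI := hA.1
  have hp := (Fact.out : p.Prime)
  haveI : Fintype A := Fintype.ofFinite A
  have hAp : IsPGroup p A := fun a => ⟨1, by apply Subtype.ext; rw [pow_one]; exact hA.2 _ a.2⟩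
  obtain ⟨B', hB'⟩ := Sylow.exists_subgroup_card_pow_prime (G := A) p (n := 2) (by
    obtain ⟨k, hk⟩ := hAp.exists_card_eq
    rw [hk] at hA2 ⊢
    exact pow_dvd_pow p ((Nat.pow_le_pow_iff_right hp.one_lt).1 hA2))
  set B : Subgroup G := B'.map A.subtype with hBdef
  have hBA : B ≤ A := Subgroup.map_subtype_le _
  have hBc : Nat.card B = p ^ 2 := by
    rw [hBdef, Subgroup.card_map_of_injective A.subtype_injective, hB']
  have hB : Cfsg.IsElementaryAbelian p B :=
    ⟨⟨⟨fun a b => Subtype.ext (congrArg (fun z : A => (z : G))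
      (mul_comm' (⟨a, hBA a.2⟩ : A) ⟨b, hBA b.2⟩))⟩⟩, fun b hb => hA.2 b (hBA hb)⟩
  haveI : Fintype {D : Subgroup G // D ≤ B ∧ Nat.card D = p} := Fintype.ofFinite _
  have hBp : IsPGroup p B := IsPGroup.of_card hBc
  have hI : ¬ p ∣ Nat.card (X ⊓ Y : Subgroup G) := not_dvd_card_of_le (inf_le_left.trans hX) hK
  have hBI := hBA.trans (le_normalizer_inf hAX hAY)
  -- factorization in the centralizer of a line
  have hcard : ∀ a ∈ A, a ≠ 1 →
      Nat.card (K ⊓ Subgroup.centralizer {a} : Subgroup G) *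
        Nat.card (X ⊓ Y ⊓ Subgroup.centralizer {a} : Subgroup G) =
      Nat.card (X ⊓ Subgroup.centralizer {a} : Subgroup G) *
        Nat.card (Y ⊓ Subgroup.centralizer {a} : Subgroup G) := by
    intro a ha ha1
    rw [← card_setMul_mul_card_inf (X ⊓ Subgroup.centralizer {a}) (Y ⊓ Subgroup.centralizer {a}),
      ← hfac a ha ha1, inf_inf_distrib_right]
    rfl
  have hDel : ∀ D : {D : Subgroup G // D ≤ B ∧ Nat.card D = p}, ∃ a ∈ A, a ≠ 1 ∧
      Subgroup.centralizer (D.1 : Set G) = Subgroup.centralizer {a} := by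
    intro D
    have hne : D.1 ≠ ⊥ := fun h => hp.one_lt.ne' (by rw [← D.2.2, h, Subgroup.card_bot])
    obtain ⟨⟨a, ha⟩, ha1⟩ := Subgroup.ne_bot_iff_exists_ne_one.1 hne
    have ha1' : a ≠ 1 := fun h => ha1 (Subtype.ext h)
    refine ⟨a, hBA (D.2.1 ha), ha1', ?_⟩
    have e : Subgroup.zpowers a = D.1 := Subgroup.eq_of_le_of_card_ge ((Subgroup.zpowers_le (g := a)).2 ha)
      (by rw [Nat.card_zpowers, orderOf_eq_prime (hA.2 a (hBA (D.2.1 ha))) ha1', D.2.2])
    rw [← e, Subgroup.zpowers_eq_closure, Subgroup.centralizer_closure]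
  have hD : ∀ D : {D : Subgroup G // D ≤ B ∧ Nat.card D = p},
      Nat.card (K ⊓ Subgroup.centralizer (D.1 : Set G) : Subgroup G) *
        Nat.card (X ⊓ Y ⊓ Subgroup.centralizer (D.1 : Set G) : Subgroup G) =
      Nat.card (X ⊓ Subgroup.centralizer (D.1 : Set G) : Subgroup G) *
        Nat.card (Y ⊓ Subgroup.centralizer (D.1 : Set G) : Subgroup G) := by
    intro D
    obtain ⟨a, ha, ha1, e⟩ := hDel D
    rw [e]
    exact hcard a ha ha1
  -- factorization in the centralizer of `B`
  have hC : Nat.card (K ⊓ Subgroup.centralizer (B : Set G) : Subgroup G) *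
        Nat.card (X ⊓ Y ⊓ Subgroup.centralizer (B : Set G) : Subgroup G) =
      Nat.card (X ⊓ Subgroup.centralizer (B : Set G) : Subgroup G) *
        Nat.card (Y ⊓ Subgroup.centralizer (B : Set G) : Subgroup G) := by
    suffices e : ((K ⊓ Subgroup.centralizer (B : Set G) : Subgroup G) : Set G) =
        ((X ⊓ Subgroup.centralizer (B : Set G) : Subgroup G) : Set G) *
          ((Y ⊓ Subgroup.centralizer (B : Set G) : Subgroup G) : Set G) by
      rw [← card_setMul_mul_card_inf (X ⊓ Subgroup.centralizer (B : Set G))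
        (Y ⊓ Subgroup.centralizer (B : Set G)), ← e, inf_inf_distrib_right]
      rfl
    refine Set.Subset.antisymm ?_ ?_
    · intro c hc
      have hne : B ≠ ⊥ := fun h => by
        rw [h, Subgroup.card_bot] at hBc
        exact (Nat.one_lt_pow two_ne_zero hp.one_lt).ne hBc
      obtain ⟨⟨a, ha⟩, ha1⟩ := Subgroup.ne_bot_iff_exists_ne_one.1 hne
      have hc' : c ∈ ((K ⊓ Subgroup.centralizer {a} : Subgroup G) : Set G) :=
        ⟨hc.1, Subgroup.mem_centralizer_iff.2 fun b hb => by
          rw [Set.mem_singleton_iff] at hb; subst hb; exact Subgroup.mem_centralizer_iff.1 hc.2 _ ha⟩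
      rw [hfac a (hBA ha) (fun h => ha1 (Subtype.ext h))] at hc'
      obtain ⟨x, hx, y, hy, rfl⟩ := hc'
      have hxI : ∀ b ∈ B, x⁻¹ * (b * x * b⁻¹) ∈ X ⊓ Y := by
        intro b hb
        refine Subgroup.mem_inf.2
          ⟨mul_mem (inv_mem hx.1) (conj_mem_of_le_normalizer (hBA.trans hAX) hb hx.1), ?_⟩
        have h2 : (b * x * b⁻¹) * (b * y * b⁻¹) = x * y := by
          have := Subgroup.mem_centralizer_iff.1 hc.2 b hb
          calc (b * x * b⁻¹) * (b * y * b⁻¹) = b * (x * y) * b⁻¹ := by group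
            _ = x * y := by rw [this]; group
        have h3 : x⁻¹ * (b * x * b⁻¹) = y * (b * y * b⁻¹)⁻¹ := by
          rw [inv_mul_eq_iff_eq_mul, ← mul_assoc, ← h2, mul_inv_cancel_right]
        rw [h3]
        exact mul_mem hy.1 (inv_mem (conj_mem_of_le_normalizer (hBA.trans hAY) hb hy.1))
      obtain ⟨d, hd, hxd⟩ := exists_fixed_coset hBp hBI hI hxI
      refine ⟨x * d, Subgroup.mem_inf.2 ⟨mul_mem hx.1 hd.1, hxd⟩, d⁻¹ * y,
        Subgroup.mem_inf.2 ⟨mul_mem (inv_mem hd.2) hy.1, ?_⟩, ?_⟩
      · have e : d⁻¹ * y = (x * d)⁻¹ * (x * y) := by group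
        rw [e]
        exact mul_mem (inv_mem hxd) hc.2
      · show x * d * (d⁻¹ * y) = x * y
        group
    · rintro _ ⟨x, hx, y, hy, rfl⟩
      exact mul_mem (Subgroup.mem_inf.2 ⟨hX hx.1, hx.2⟩) (Subgroup.mem_inf.2 ⟨hY hy.1, hy.2⟩)
  have fK := order_formula hB hBc hK (hBA.trans hAK)
  have fX := order_formula hB hBc (not_dvd_card_of_le hX hK) (hBA.trans hAX)
  have fY := order_formula hB hBc (not_dvd_card_of_le hY hK) (hBA.trans hAY)
  have fI := order_formula hB hBc hI hBI
  have hprod := Finset.prod_congr (s₁ := (Finset.univ : Finset {D : Subgroup G // D ≤ B ∧ Nat.card D = p}))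
    rfl (fun D _ => hD D)
  rw [Finset.prod_mul_distrib, Finset.prod_mul_distrib] at hprod
  have hmain : Nat.card K * Nat.card (X ⊓ Y : Subgroup G) = Nat.card X * Nat.card Y := by
    refine Nat.eq_of_mul_eq_mul_right (m := (Nat.card (X ⊓ Subgroup.centralizer (B : Set G) : Subgroup G) *
      Nat.card (Y ⊓ Subgroup.centralizer (B : Set G) : Subgroup G)) ^
        Fintype.card {D : Subgroup G // D ≤ B ∧ Nat.card D = p}) (pow_pos (mul_pos Nat.card_pos Nat.card_pos) _) ?_
    conv_lhs => rw [← hC, mul_pow, mul_mul_mul_comm, fK, fI, mul_mul_mul_comm, hC, hprod]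
    rw [mul_pow, mul_mul_mul_comm (Nat.card X), fX, fY, mul_mul_mul_comm]
  have hsub : (X : Set G) * (Y : Set G) ⊆ (K : Set G) := by
    rintro _ ⟨x, hx, y, hy, rfl⟩
    exact mul_mem (hX hx) (hY hy)
  refine (Set.eq_of_subset_of_ncard_le hsub ?_).symm
  have h1 := card_setMul_mul_card_inf X Y
  rw [← hmain] at h1
  have h2 := Nat.eq_of_mul_eq_mul_right Nat.card_pos h1
  rw [← Nat.card_coe_set_eq, ← Nat.card_coe_set_eq, h2]
  rfl

end H8
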