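import Mathlib
import Cfsg.Agent.H8.Coprime

/-!
A balanced family of fixed subgroups of hyperplanes inside a solvable group of order prime to `p`
generates a subgroup without further fixed points (helper8).
-/

set_option autoImplicit false

namespace H8

open Subgroup
open scoped commutatorElement

variable {G : Type*} [Group G]

/-- `B` is a subgroup of index `p` in `A`. -/
def IsHyperplane (p : ℕ) (A B : Subgroup G) : Prop := B ≤ A ∧ B.relIndex A = p

theorem sup_eq_of_isHyperplane_ne [Finite G] {p : ℕ} [Fact p.Prime] {A B H : Subgroup G}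
    (hB : IsHyperplane p A B) (hH : IsHyperplane p A H) (h : H ≠ B) : H ⊔ B = A := by
  have hp := (Fact.out : p.Prime)
  have hle : H ⊔ B ≤ A := sup_le hH.1 hB.1
  have hmul := Subgroup.relIndex_mul_relIndex B (H ⊔ B) A le_sup_right hle
  rw [hB.2] at hmul
  rcases hp.eq_one_or_self_of_dvd _ (Dvd.intro _ hmul) with h1 | h1
  · exfalso
    rw [Subgroup.relIndex_eq_one] at h1
    have hHB : H ≤ B := le_sup_left.trans h1
    have h2 := Subgroup.relIndex_mul_relIndex H B A hHB hB.1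
    rw [hB.2, hH.2] at h2
    exact h (le_antisymm hHB (Subgroup.relIndex_eq_one.1 ((mul_eq_right₀ hp.ne_zero).1 h2)))
  · rw [h1] at hmul
    exact le_antisymm hle (Subgroup.relIndex_eq_one.1 ((mul_eq_left₀ hp.ne_zero).1 hmul))

theorem le_of_le_sup_commutator {M Y : Subgroup G} [Group.IsSolvable Y] (hM : M ≤ Y)
    (hn : Y ≤ Subgroup.normalizer (M : Set G)) (h : Y ≤ M ⊔ ⁅Y, Y⁆) : Y ≤ M := by
  haveI hMn : (M.subgroupOf Y).Normal := Subgroup.normal_subgroupOf_of_le_normalizer hn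
  haveI : Group.IsSolvable (↥Y ⧸ M.subgroupOf Y) :=
    Group.isSolvable_of_surjective (QuotientGroup.mk'_surjective _)
  have htop : M.subgroupOf Y ⊔ commutator Y = ⊤ := by
    apply Subgroup.map_injective Y.subtype_injective
    rw [Subgroup.map_sup, Subgroup.map_subtype_commutator, Subgroup.subgroupOf_map_subtype,
      ← MonoidHom.range_eq_map, Subgroup.range_subtype, inf_eq_left.2 hM]
    refine le_antisymm (sup_le hM ?_) h
    rw [← Subgroup.map_subtype_commutator]
    exact Subgroup.map_subtype_le _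
  by_contra hne
  haveI : Nontrivial (↥Y ⧸ M.subgroupOf Y) := QuotientGroup.nontrivial_iff.2 fun e =>
    hne (Subgroup.subgroupOf_eq_top.1 e)
  refine (Group.IsSolvable.commutator_lt_top_of_nontrivial (↥Y ⧸ M.subgroupOf Y)).ne ?_
  have := congrArg (Subgroup.map (QuotientGroup.mk' (M.subgroupOf Y))) htop
  rw [Subgroup.map_sup, QuotientGroup.map_mk'_self, bot_sup_eq,
    Subgroup.map_top_of_surjective _ (QuotientGroup.mk'_surjective _)] at this
  rw [← this, commutator_def, commutator_def, Subgroup.map_commutator,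
    Subgroup.map_top_of_surjective _ (QuotientGroup.mk'_surjective _)]

variable [Finite G] {p : ℕ} [Fact p.Prime]

theorem generation_balanced_aux {A : Subgroup G} (hA : Cfsg.IsElementaryAbelian p A) (hA1 : A ≠ ⊥)
    (n : ℕ) : ∀ M Y : Subgroup G, Nat.card Y - Nat.card M = n → M ≤ Y → ¬ p ∣ Nat.card Y →
    Group.IsSolvable Y → A ≤ Subgroup.normalizer (Y : Set G) → A ≤ Subgroup.normalizer (M : Set G) →
    Y ≤ Subgroup.normalizer (M : Set G) → ∀ U : Subgroup G → Subgroup G,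
    (∀ H, IsHyperplane p A H → U H ≤ Subgroup.centralizer (H : Set G) ∧
      A ≤ Subgroup.normalizer (U H : Set G)) →
    (∀ H H', IsHyperplane p A H → IsHyperplane p A H' → ∃ S : Subgroup G, S ≤ Y ∧
      A ≤ Subgroup.normalizer (S : Set G) ∧ U H ≤ S ∧ U H' ≤ S ∧
      ∀ H'', IsHyperplane p A H'' → S ⊓ Subgroup.centralizer (H'' : Set G) ≤ U H'') →
    (Y ≤ M ⊔ ⨆ H : {H : Subgroup G // IsHyperplane p A H}, U H) →
    ∀ H, IsHyperplane p A H → Y ⊓ Subgroup.centralizer (H : Set G) ≤ U H ⊔ M := by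
  haveI := hA.1
  have hAp : IsPGroup p A := fun a => ⟨1, by apply Subtype.ext; rw [pow_one]; exact hA.2 _ a.2⟩
  induction n using Nat.strong_induction_on with
  | _ n ih =>
  intro M Y hn hMY hY hsolv hAY hAM hYM U hU hS hgen H hH
  subst hn
  have hUY : ∀ H, IsHyperplane p A H → U H ≤ Y := fun H hH => by
    obtain ⟨S, hSY, -, h1, -, -⟩ := hS H H hH hH
    exact h1.trans hSY
  by_cases hMY' : Y ≤ M
  · exact inf_le_left.trans (hMY'.trans le_sup_right)
  set D := M ⊔ ⁅Y, Y⁆ with hD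
  have hYY : ⁅Y, Y⁆ ≤ Y := by
    rw [← Subgroup.map_subtype_commutator]; exact Subgroup.map_subtype_le _
  have hDY : D ≤ Y := sup_le hMY hYY
  have hAD : A ≤ Subgroup.normalizer (D : Set G) := by
    intro a ha
    rw [H82.mem_normalizer_iff_map, hD, Subgroup.map_sup, Subgroup.map_commutator,
      H82.mem_normalizer_iff_map.1 (hAM ha), H82.mem_normalizer_iff_map.1 (hAY ha)]
  obtain ⟨N, ⟨hDN, hNY, hNne, hAN⟩, hmax⟩ := Set.Finite.exists_maximal
    (Set.toFinite {N : Subgroup G | D ≤ N ∧ N ≤ Y ∧ ¬ Y ≤ N ∧ A ≤ Subgroup.normalizer (N : Set G)})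
    ⟨D, le_rfl, hDY, fun h => hMY' (le_of_le_sup_commutator hMY hYM h), hAD⟩
  have hMN : M ≤ N := le_sup_left.trans hDN
  have hcomm : ∀ y ∈ Y, ∀ z ∈ Y, ⁅y, z⁆ ∈ N := fun y hy z hz =>
    hDN (le_sup_right (a := M) (Subgroup.commutator_mem_commutator hy hz))
  have hYN : Y ≤ Subgroup.normalizer (N : Set G) := le_normalizer_of_conj_mem fun y hy z hz => by
    have := mul_mem (hcomm y hy z (hNY hz)) hz
    simpa [commutatorElement_def, mul_assoc] using this
  -- the family inside `N`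
  set U' : Subgroup G → Subgroup G := fun H => U H ⊓ N with hU'
  set W := ⨆ H : {H : Subgroup G // IsHyperplane p A H}, U' H with hW
  have hWN : W ≤ N := iSup_le fun H => inf_le_right
  have hnormW : ∀ H, IsHyperplane p A H → U H ≤ Subgroup.normalizer ((M ⊔ W : Subgroup G) : Set G) := by
    intro H₁ hH₁ u hu
    refine H82.mem_normalizer_of_map_le ?_
    rw [Subgroup.map_sup, H82.mem_normalizer_iff_map.1 (hYM (hUY H₁ hH₁ hu)), hW, Subgroup.map_iSup]
    refine sup_le le_sup_left (iSup_le fun H₂ => ?_)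
    rintro _ ⟨z, hz, rfl⟩
    obtain ⟨S, hSY, hAS, h1, h2, h3⟩ := hS H₁ H₂.1 hH₁ H₂.2
    have hmem : u * z * u⁻¹ ∈ S ⊓ N :=
      Subgroup.mem_inf.2 ⟨mul_mem (mul_mem (h1 hu) (h2 hz.1)) (inv_mem (h1 hu)),
        conj_mem_of_le_normalizer hYN (hUY H₁ hH₁ hu) hz.2⟩
    refine Subgroup.mem_sup_right (S := M) ?_
    refine (H8.generation hA hA1 (le_normalizer_inf hAS hAN)
      (not_dvd_card_of_le (inf_le_left.trans hSY) hY) fun B hB hBi => ?_) hmem
    refine le_trans ?_ (le_iSup (fun H : {H : Subgroup G // IsHyperplane p A H} => U' H) ⟨B, hB, hBi⟩)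
    exact le_inf (le_trans (inf_le_inf_right _ inf_le_left) (h3 B ⟨hB, hBi⟩))
      (inf_le_left.trans inf_le_right)
  have hYW : Y ≤ Subgroup.normalizer ((M ⊔ W : Subgroup G) : Set G) :=
    hgen.trans (sup_le ((le_sup_left.trans Subgroup.le_normalizer)) (iSup_le fun H => hnormW H H.2))
  have hAW : A ≤ Subgroup.normalizer ((M ⊔ W : Subgroup G) : Set G) := by
    intro a ha
    rw [H82.mem_normalizer_iff_map, Subgroup.map_sup, H82.mem_normalizer_iff_map.1 (hAM ha),
      H82.mem_normalizer_iff_map.1 (le_normalizer_iSup _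
        (fun H : {H : Subgroup G // IsHyperplane p A H} => le_normalizer_inf (hU H H.2).2 hAN) ha)]
  by_cases hMW : M ⊔ W ≤ M
  swap
  · have hWY : M ⊔ W ≤ Y := sup_le hMY (hWN.trans hNY)
    have hlt1 : Nat.card M < Nat.card (M ⊔ W : Subgroup G) :=
      lt_of_not_ge fun h => hMW (Subgroup.eq_of_le_of_card_ge le_sup_left h).ge
    have hlt2 : Nat.card (M ⊔ W : Subgroup G) < Nat.card Y :=
      lt_of_not_ge fun h => hNne ((Subgroup.eq_of_le_of_card_ge hWY h).ge.trans (sup_le hMN hWN))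
    have h1 := ih _ (by omega) (M ⊔ W) Y rfl hWY hY hsolv hAY hAW hYW U hU hS
      (hgen.trans (sup_le_sup_right le_sup_left _)) H hH
    haveI : Group.IsSolvable (M ⊔ W : Subgroup G) := Group.isSolvable_of_isSolvable_injective (Subgroup.inclusion_injective hWY)
    have h2 := ih _ (by omega) M (M ⊔ W) rfl le_sup_left (not_dvd_card_of_le hWY hY) inferInstance hAW hAM
      (hWY.trans hYM) U'
      (fun H hH => ⟨inf_le_left.trans (hU H hH).1, le_normalizer_inf (hU H hH).2 hAN⟩)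
      (fun H₁ H₂ hH₁ hH₂ => by
        obtain ⟨S, hSY, hAS, h1, h2, h3⟩ := hS H₁ H₂ hH₁ hH₂
        refine ⟨S ⊓ (M ⊔ W), inf_le_right, le_normalizer_inf hAS hAW, le_inf (inf_le_left.trans h1) ?_,
          le_inf (inf_le_left.trans h2) ?_, fun H₃ hH₃ => le_inf
            ((inf_le_inf_right _ inf_le_left).trans (h3 H₃ hH₃))
            ((inf_le_left.trans inf_le_right).trans (sup_le hMN hWN))⟩
        · exact le_sup_of_le_right (le_iSup (fun H : {H : Subgroup G // IsHyperplane p A H} => U' H) ⟨H₁, hH₁⟩)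
        · exact le_sup_of_le_right (le_iSup (fun H : {H : Subgroup G // IsHyperplane p A H} => U' H) ⟨H₂, hH₂⟩))
      le_rfl H hH
    intro x hx
    have hnorm : U H ≤ Subgroup.normalizer ((M ⊔ W : Subgroup G) : Set G) := hnormW H hH
    have hx' : x ∈ ((U H ⊔ (M ⊔ W) : Subgroup G) : Set G) := h1 hx
    rw [Subgroup.coe_mul_of_left_le_normalizer_right _ _ hnorm] at hx'
    obtain ⟨u, hu, m, hm, rfl⟩ := hx'
    refine mul_mem (le_sup_left (b := M) hu) ((sup_le_sup_right inf_le_left M) (h2 ⟨hm, ?_⟩))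
    have := mul_mem (inv_mem ((hU H hH).1 hu)) hx.2
    simpa using this
  -- all `U H ⊓ N` lie in `M`
  have hUN : ∀ H, IsHyperplane p A H → U H ⊓ N ≤ M := fun H hH =>
    (le_iSup (fun H : {H : Subgroup G // IsHyperplane p A H} => U' H) ⟨H, hH⟩).trans
      (le_sup_right.trans hMW)
  -- the fixed points modulo `N` of a subgroup of `A` are trivial or everything
  have hfixN : ∀ B : Subgroup G, B ≤ A → Y ⊓ Subgroup.centralizer (B : Set G) ≤ N ∨
      Y ≤ N ⊔ (Y ⊓ Subgroup.centralizer (B : Set G)) := by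
    intro B hB
    by_cases h : Y ≤ N ⊔ (Y ⊓ Subgroup.centralizer (B : Set G))
    · exact Or.inr h
    · refine Or.inl (le_sup_right.trans (hmax ⟨hDN.trans le_sup_left, sup_le hNY inf_le_left, h, ?_⟩
        (le_sup_left : N ≤ N ⊔ (Y ⊓ Subgroup.centralizer (B : Set G)))))
      intro a ha
      rw [H82.mem_normalizer_iff_map, Subgroup.map_sup, H82.mem_normalizer_iff_map.1 (hAN ha),
        H82.mem_normalizer_iff_map.1 (le_normalizer_inf hAY
          (le_normalizer_centralizer_of_le_normalizer (le_normalizer_of_comm hB)) ha)]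
  obtain ⟨B, hBh, hB⟩ : ∃ B, IsHyperplane p A B ∧ Y ≤ N ⊔ (Y ⊓ Subgroup.centralizer (B : Set G)) := by
    by_contra hcon
    push_neg at hcon
    exact hNne (H8.generation hA hA1 hAY hY fun B hB hBi =>
      (hfixN B hB).resolve_right (hcon B ⟨hB, hBi⟩))
  -- commutators with `B` of elements of `Y` lie in `N`
  have hBN : ∀ a ∈ B, ∀ y ∈ Y, y⁻¹ * (a * y * a⁻¹) ∈ N := by
    intro a ha y hy
    have hyc : y ∈ ((N ⊔ (Y ⊓ Subgroup.centralizer (B : Set G)) : Subgroup G) : Set G) := hB hy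
    rw [Subgroup.coe_mul_of_right_le_normalizer_left _ _ (inf_le_left.trans hYN)] at hyc
    obtain ⟨m, hm, c, hc, rfl⟩ := hyc
    have e : (m * c)⁻¹ * (a * (m * c) * a⁻¹) = c⁻¹ * (m⁻¹ * (a * m * a⁻¹)) * (a * c * a⁻¹) := by group
    rw [e, Subgroup.mem_centralizer_iff.1 hc.2 a ha, mul_inv_cancel_right]
    have h := mul_mem (inv_mem hm) (conj_mem_of_le_normalizer (hBh.1.trans hAN) ha hm)
    have := conj_mem_of_le_normalizer hYN (inv_mem hc.1) h
    simpa [mul_assoc] using this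
  -- all `U H` lie in `M ⊔ U B`
  have hUB : ∀ H, IsHyperplane p A H → U H ≤ M ⊔ U B := by
    intro H₁ hH₁
    by_cases hHB : H₁ = B
    · rw [hHB]; exact le_sup_right
    intro u hu
    let S : Subgroup G :=
      { carrier := {a | a ∈ A ∧ u⁻¹ * (a * u * a⁻¹) ∈ N}
        one_mem' := ⟨one_mem _, by simp⟩
        mul_mem' := fun {a b} ha hb => ⟨mul_mem ha.1 hb.1, by
          have h2 := conj_mem_of_le_normalizer hAN ha.1 hb.2
          have := mul_mem ha.2 h2
          simpa [mul_assoc] using this⟩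
        inv_mem' := fun {a} ha => ⟨inv_mem ha.1, by
          have h2 := inv_mem (conj_mem_of_le_normalizer hAN (inv_mem ha.1) ha.2)
          simpa [mul_assoc] using h2⟩ }
    have hle : A ≤ S := by
      rw [← sup_eq_of_isHyperplane_ne hBh hH₁ hHB]
      refine sup_le (fun a ha => ⟨hH₁.1 ha, ?_⟩) (fun a ha => ⟨hBh.1 ha, hBN a ha u (hUY H₁ hH₁ hu)⟩)
      rw [Subgroup.mem_centralizer_iff.1 ((hU H₁ hH₁).1 hu) a ha, mul_inv_cancel_right, inv_mul_cancel]
      exact one_mem _
    obtain ⟨c, hc, m, hm, rfl⟩ := exists_centralizer_mul hAp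
      (le_normalizer_inf (hU H₁ hH₁).2 hAN) (not_dvd_card_of_le (hUY H₁ hH₁) hY) inf_le_left hu
      (fun a ha => Subgroup.mem_inf.2
        ⟨mul_mem (inv_mem hu) (conj_mem_of_le_normalizer (hU H₁ hH₁).2 ha hu), (hle ha).2⟩)
    refine mul_mem (le_sup_right (a := M) ?_) (le_sup_left (b := U B) (hUN H₁ hH₁ hm))
    obtain ⟨S', -, -, h1, -, h3⟩ := hS H₁ H₁ hH₁ hH₁
    exact h3 B hBh ⟨h1 hc.1, Subgroup.centralizer_le (show (B : Set G) ⊆ (A : Set G) from hBh.1) hc.2⟩
  have hYB : Y ≤ M ⊔ U B := hgen.trans (sup_le le_sup_left (iSup_le fun H => hUB H H.2))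
  intro x hx
  have hx' : x ∈ ((M ⊔ U B : Subgroup G) : Set G) := hYB hx.1
  rw [Subgroup.coe_mul_of_right_le_normalizer_left _ _ ((hUY B hBh).trans hYM)] at hx'
  obtain ⟨m, hm, u, hu, rfl⟩ := hx'
  have hfix : ∀ a ∈ H, u⁻¹ * (a * u * a⁻¹) ∈ U B ⊓ M := by
    intro a ha
    refine Subgroup.mem_inf.2 ⟨mul_mem (inv_mem hu)
      (conj_mem_of_le_normalizer (hU B hBh).2 (hH.1 ha) hu), ?_⟩
    have h := Subgroup.mem_centralizer_iff.1 hx.2 a ha
    have e : a * u * a⁻¹ = (a * m * a⁻¹)⁻¹ * (m * u) := by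
      calc a * u * a⁻¹ = (a * m * a⁻¹)⁻¹ * (a * (m * u) * a⁻¹) := by group
        _ = _ := by rw [h, mul_inv_cancel_right]
    have hm' : (a * m * a⁻¹)⁻¹ * m ∈ M :=
      mul_mem (inv_mem (conj_mem_of_le_normalizer (hH.1.trans hAM) ha hm)) hm
    have := conj_mem_of_le_normalizer hYM (inv_mem (hUY B hBh hu)) hm'
    rw [e]
    simpa [mul_assoc] using this
  obtain ⟨c, hc, m', hm', rfl⟩ := exists_centralizer_mul (hAp.to_le hH.1)
    (le_normalizer_inf (hH.1.trans (hU B hBh).2) (hH.1.trans hAM)) (not_dvd_card_of_le (hUY B hBh) hY)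
    inf_le_left hu hfix
  obtain ⟨S', -, -, h1, -, h3⟩ := hS B B hBh hBh
  exact mul_mem (le_sup_right (a := U H) hm)
    (mul_mem (le_sup_left (b := M) (h3 H hH ⟨h1 hc.1, hc.2⟩)) (le_sup_right (a := U H) hm'.2))

/-- The subgroup generated by a balanced family of fixed subgroups of hyperplanes in a solvable group
of order prime to `p` has no further fixed points. -/
theorem generation_balanced {A Y : Subgroup G} (hA : Cfsg.IsElementaryAbelian p A) (hA1 : A ≠ ⊥)
    (hY : ¬ p ∣ Nat.card Y) [Group.IsSolvable Y] (U : Subgroup G → Subgroup G)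
    (hU : ∀ H, IsHyperplane p A H → U H ≤ Subgroup.centralizer (H : Set G) ∧
      A ≤ Subgroup.normalizer (U H : Set G))
    (hS : ∀ H H', IsHyperplane p A H → IsHyperplane p A H' → ∃ S : Subgroup G, S ≤ Y ∧
      A ≤ Subgroup.normalizer (S : Set G) ∧ U H ≤ S ∧ U H' ≤ S ∧
      ∀ H'', IsHyperplane p A H'' → S ⊓ Subgroup.centralizer (H'' : Set G) ≤ U H'')
    {H : Subgroup G} (hH : IsHyperplane p A H) :
    (⨆ B : {B : Subgroup G // IsHyperplane p A B}, U B) ⊓ Subgroup.centralizer (H : Set G) ≤ U H := by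
  set W := ⨆ B : {B : Subgroup G // IsHyperplane p A B}, U B with hW
  have hUW : ∀ B, IsHyperplane p A B → U B ≤ W := fun B hB =>
    le_iSup (fun B : {B : Subgroup G // IsHyperplane p A B} => U B) ⟨B, hB⟩
  have hWY : W ≤ Y := iSup_le fun B => by
    obtain ⟨S, hSY, -, h1, -, -⟩ := hS B B B.2 B.2
    exact h1.trans hSY
  have hAW : A ≤ Subgroup.normalizer (W : Set G) :=
    le_normalizer_iSup _ fun B => (hU B B.2).2
  have h := generation_balanced_aux hA hA1 _ ⊥ W rfl bot_le (not_dvd_card_of_le hWY hY)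
    (Group.isSolvable_of_isSolvable_injective (Subgroup.inclusion_injective hWY)) hAW
    (le_normalizer_of_conj_mem fun a _ x hx => by simp [Subgroup.mem_bot.1 hx])
    (le_normalizer_of_conj_mem fun a _ x hx => by simp [Subgroup.mem_bot.1 hx]) U hU
    (fun H₁ H₂ h₁ h₂ => by
      obtain ⟨S, -, hAS, k1, k2, k3⟩ := hS H₁ H₂ h₁ h₂
      exact ⟨S ⊓ W, inf_le_right, le_normalizer_inf hAS hAW, le_inf k1 (hUW H₁ h₁), le_inf k2 (hUW H₂ h₂),
        fun H₃ h₃ => (inf_le_inf_right _ inf_le_left).trans (k3 H₃ h₃)⟩)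
    le_sup_right H hH
  rwa [sup_bot_eq] at h

end H8
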