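import Cfsg.Agent.H8.BlockExtGal
import Cfsg.Agent.H14.Averages
import Cfsg.Agent.H1.SchurZassenhausConj
import Mathlib

/-!
Canonical extensions along nilpotent sections: extensions rational at `p` congruent to the degree
on the `p`-regular elements centralizing a Sylow subgroup of the normal subgroup.
-/

set_option autoImplicit false
set_option linter.unusedSectionVars false
set_option linter.style.haveILetI false

open Cfsg
open scoped ComplexConjugate

namespace H8.BlockExt

universe u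

variable {p : ℕ} [hp : Fact p.Prime] {M : Ideal AlgInt} {G : Type u} [Group G] [Finite G]

/-- The relative index in a normal subgroup divides the index. -/
theorem relIndex_dvd_index (C R : Subgroup G) [R.Normal] : C.relIndex R ∣ C.index := by
  have e1 : R.relIndex C * C.index = (C ⊓ R).index := by
    rw [← Subgroup.inf_relIndex_right R C, inf_comm R C]
    exact Subgroup.relIndex_mul_index inf_le_left
  have e2 : C.relIndex R * R.index = (C ⊓ R).index := by
    rw [← Subgroup.inf_relIndex_right C R]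
    exact Subgroup.relIndex_mul_index inf_le_right
  have e3 : R.relIndex C * (R ⊔ C).index = R.index := by
    rw [← Subgroup.relIndex_sup_left]
    exact Subgroup.relIndex_mul_index le_sup_left
  refine ⟨(R ⊔ C).index, Nat.eq_of_mul_eq_mul_left (Nat.pos_of_ne_zero ?_)
    (e1.trans (e2.symm.trans ?_))⟩
  · exact Subgroup.index_ne_zero_of_finite (H := R.subgroupOf C)
  · rw [← e3]; ring

theorem index_dvd_relIndex_mul (C R : Subgroup G) : C.index ∣ C.relIndex R * R.index := by
  rw [← Subgroup.inf_relIndex_right C R, Subgroup.relIndex_mul_index inf_le_right]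
  exact Subgroup.index_dvd_of_le inf_le_left

theorem centralizer_subgroupOf (X : Subgroup G) (x : X) :
    Subgroup.centralizer ({x} : Set X) =
      (Subgroup.centralizer ({(x : G)} : Set G)).subgroupOf X := by
  ext y
  simp [Subgroup.mem_subgroupOf, Subgroup.mem_centralizer_singleton_iff, Subtype.ext_iff]

/-- Restriction of a function on `G` to a subgroup. -/
def res (X : Subgroup G) (f : G → ℂ) : X → ℂ := fun x => f x

theorem res_apply (X : Subgroup G) (f : G → ℂ) (x : X) : res X f x = f x := rfl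

open Classical in
/-- Extension of a function on a subgroup by zero. -/
noncomputable def lift (X : Subgroup G) (χ : X → ℂ) : G → ℂ :=
  fun g => if h : g ∈ X then χ ⟨g, h⟩ else 0

theorem lift_apply (X : Subgroup G) (χ : X → ℂ) (x : X) : lift X χ (x : G) = χ x := by
  rw [lift, dif_pos x.2]

theorem res_lift (X : Subgroup G) (χ : X → ℂ) : res X (lift X χ) = χ :=
  funext (lift_apply X χ)

/-- Elements of `p'`-order whose centralizer has index prime to `p` in `N`. -/
def IsT (p : ℕ) (N : Subgroup G) (t : G) : Prop :=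
  ¬ p ∣ orderOf t ∧ ¬ p ∣ (Subgroup.centralizer ({t} : Set G)).relIndex N

theorem isT_of_index (N : Subgroup G) [N.Normal] {X : Subgroup G} (hNX : N ≤ X) (t : X)
    (ht : ¬ p ∣ orderOf t) (hi : ¬ p ∣ (Subgroup.centralizer ({t} : Set X)).index) :
    IsT p N (t : G) := by
  refine ⟨by rwa [Subgroup.orderOf_coe], fun h => hi (h.trans ?_)⟩
  rw [← Subgroup.relIndex_subgroupOf hNX, ← centralizer_subgroupOf]
  exact relIndex_dvd_index _ _

theorem not_dvd_index_of_isT (N : Subgroup G) {X : Subgroup G} (hNX : N ≤ X)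
    (hX : ¬ p ∣ N.relIndex X) (t : X) (ht : IsT p N (t : G)) :
    ¬ p ∣ (Subgroup.centralizer ({t} : Set X)).index := by
  intro h
  have h1 := h.trans (index_dvd_relIndex_mul _ (N.subgroupOf X))
  rw [centralizer_subgroupOf, Subgroup.relIndex_subgroupOf hNX] at h1
  exact (hp.out.dvd_mul.1 h1).elim ht.2 hX

/-- The data. -/
structure Setup (p : ℕ) (M : Ideal AlgInt) (N : Subgroup G) (θ : G → ℂ) (d : ℕ) : Prop where
  modular : IsPModular p M
  odd : p ≠ 2
  normal : N.Normal
  irr : IsIrrCharacter N (res N θ)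
  one : θ 1 = (d : ℂ)
  pdeg : ¬ p ∣ d
  inv : ∀ g : G, ∀ n ∈ N, θ (g * n * g⁻¹) = θ n
  rat : ∀ n ∈ N, RatOn p θ n
  congr : ∀ n ∈ N, IsT p N n → MemLocalIdeal M (θ n - (d : ℂ))
  gen : ∀ x : G, ¬ p ∣ orderOf x → ∃ t, IsT p N t ∧ t⁻¹ * x ∈ N

/-- Extensions of `θ` congruent to the degree. -/
structure Ext (p : ℕ) (M : Ideal AlgInt) (N : Subgroup G) (θ : G → ℂ) (d : ℕ) (X : Subgroup G)
    (f : G → ℂ) : Prop where
  le : N ≤ X
  irr : IsIrrCharacter X (res X f)
  ext : ∀ n ∈ N, f n = θ n
  congr : ∀ t ∈ X, IsT p N t → MemLocalIdeal M (f t - (d : ℂ))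

/-- Rationality at `p` on a subgroup. -/
def RatSub (p : ℕ) (X : Subgroup G) (f : G → ℂ) : Prop := ∀ g ∈ X, RatOn p f g

variable {N : Subgroup G} {θ : G → ℂ} {d : ℕ}

namespace Ext

variable {X : Subgroup G} {f : G → ℂ}

theorem one (hS : Setup p M N θ d) (h : Ext p M N θ d X f) : f 1 = (d : ℂ) := by
  rw [h.ext 1 (one_mem N), hS.one]

theorem res_irr (hS : Setup p M N θ d) (h : Ext p M N θ d X f) {Z : Subgroup G} (hNZ : N ≤ Z)
    (hZX : Z ≤ X) : IsIrrCharacter Z (res Z f) := by
  refine H15.irr_of_resTo_irr hNZ ?_ ?_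
  · exact H12.IsCharacter.comp (H12.isCharacter_of_isIrrCharacter h.irr) (Subgroup.inclusion hZX)
  · convert hS.irr using 1
    funext n
    exact h.ext n n.2

theorem mono (hS : Setup p M N θ d) (h : Ext p M N θ d X f) {Z : Subgroup G} (hNZ : N ≤ Z)
    (hZX : Z ≤ X) : Ext p M N θ d Z f :=
  ⟨hNZ, h.res_irr hS hNZ hZX, h.ext, fun t ht hT => h.congr t (hZX ht) hT⟩

theorem res_sub_irr (hS : Setup p M N θ d) (h : Ext p M N θ d X f) {Y : Subgroup G} (hNY : N ≤ Y)
    (hYX : Y ≤ X) : IsIrrCharacter (Y.subgroupOf X) (fun y : Y.subgroupOf X => res X f y) :=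
  H12.IsIrrCharacter.comp_surjective (h.res_irr hS hNY hYX)
    (f := (Subgroup.subgroupOfEquivOfLe hYX).toMonoidHom) (Subgroup.subgroupOfEquivOfLe hYX).surjective

theorem twist (hS : Setup p M N θ d) (h : Ext p M N θ d X f) {K : ℕ}
    (hK : Nat.Coprime K (Nat.card G)) (hK1 : K ≡ 1 [MOD ordCompl[p] (Nat.card G)]) :
    Ext p M N θ d X (fun g => f (g ^ K)) := by
  refine ⟨h.le, ?_, fun n hn => ?_, fun t ht hT => ?_⟩
  · exact H25.isIrrCharacter_comp_pow h.irr (hK.coprime_dvd_right (Subgroup.card_subgroup_dvd_card X))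
  · show f (n ^ K) = θ n
    rw [h.ext _ (pow_mem hn K)]
    exact (hS.rat n hn).pow_eq hK hK1
  · show MemLocalIdeal M (f (t ^ K) - (d : ℂ))
    rw [pow_eq_self_of_regular hT.1 hK1]
    exact h.congr t ht hT

/-- Uniqueness of congruent extensions. -/
theorem uniq (hS : Setup p M N θ d) {f' : G → ℂ} (h : Ext p M N θ d X f)
    (h' : Ext p M N θ d X f') (Y : Subgroup G) (hNY : N ≤ Y) (hYX : Y ≤ X)
    [(Y.subgroupOf X).Normal] (hY : ∀ y ∈ Y, f' y = f y)
    (hp' : (∀ x ∈ X, (∃ j : ℕ, orderOf x = p ^ j) → x ∈ Y) ∨ RatSub p X f ∧ RatSub p X f') :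
    ∀ x ∈ X, f' x = f x := by
  haveI := H20.isPrime_of_modular hS.modular
  obtain ⟨μ, hμY, hμ⟩ := exists_linear_quot (Y.subgroupOf X) h.irr h'.irr
    (h.res_sub_irr hS hNY hYX) (fun y => hY _ y.2)
  have hμT : ∀ t : X, IsT p N (t : G) → μ t = 1 := by
    intro t ht
    have h1 := h.congr t t.2 ht
    have h2 := h'.congr t t.2 ht
    have h3 : f' t = (μ t : ℂ) * f t := hμ t
    rw [h3] at h2
    have h4 := H20.memIdeal_add h2 (H20.memIdeal_mul (H20.memRing_neg
      (H20.memRing_of_pow_eq_one (orderOf_pos t) (hom_pow_orderOf μ t))) h1)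
    refine Units.ext (eq_one_of_congr hS.modular (m := orderOf t) (d := d) ?_
      (hom_pow_orderOf μ t) hS.pdeg ?_)
    · rw [← Subgroup.orderOf_coe]; exact ht.1
    · convert h4 using 1
      ring
  have hμp : ∀ x : X, (∃ j : ℕ, orderOf x = p ^ j) → μ x = 1 := by
    intro x hx
    rcases hp' with hp' | ⟨hr, hr'⟩
    · exact hμY x (hp' x x.2 (by simpa [Subgroup.orderOf_coe] using hx))
    · obtain ⟨j, hj⟩ := hx
      have hj' : orderOf (x : G) = p ^ j := by rw [Subgroup.orderOf_coe, hj]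
      have hk : Nat.Coprime 2 (orderOf (x : G)) := by
        rw [hj']
        exact ((Nat.coprime_primes Nat.prime_two hp.out).2 (Ne.symm hS.odd)).pow_right j
      have hk1 : 2 ≡ 1 [MOD ordCompl[p] (orderOf (x : G))] := by
        rw [hj', hp.out.factorization_pow, Finsupp.single_eq_same, Nat.div_self (pow_pos hp.out.pos j)]
        exact Nat.modEq_one
      have h1 : res X f (x ^ 2) = res X f x := by
        simpa [res_apply] using hr x x.2 2 hk hk1
      have h2 : res X f' (x ^ 2) = res X f' x := by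
        simpa [res_apply] using hr' x x.2 2 hk hk1
      rw [hμ, hμ, h1, map_pow, Units.val_pow_eq_pow_val] at h2
      have hne : res X f x ≠ 0 := by
        intro h0
        have hq : H20.qPart p x = 1 := ((H20.isPPart_unique' (p := p) (mul_one x)
          (Commute.one_right x) ⟨j, hj⟩
          (by rw [orderOf_one]; exact fun hd => hp.out.one_lt.ne' (Nat.dvd_one.1 hd))).2).symm
        have hc := H25.memIdeal_apply_sub_qPart (p := p) hS.modular
          (H12.isCharacter_of_isIrrCharacter h.irr) x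
        rw [hq, h0, zero_sub, res_apply, OneMemClass.coe_one, h.one hS] at hc
        have hd := H20.memIdeal_mul (H20.memRing_neg (H20.memRing_natCast (M := M) 1)) hc
        rw [show -((1 : ℕ) : ℂ) * -(d : ℂ) = (d : ℂ) by push_cast; ring,
          H20.natCast_memIdeal_iff hS.modular] at hd
        exact hS.pdeg hd
      have h3 : ((μ x : ℂ)) ^ 2 = μ x := mul_right_cancel₀ hne h2
      rw [pow_two] at h3
      exact Units.ext (mul_left_cancel₀ (μ x).ne_zero (h3.trans (mul_one _).symm))
  intro x hx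
  have hall : ∀ z : X, μ z = 1 := by
    intro z
    rw [← H20.pPart_mul_qPart (p := p) z, map_mul, hμp _ (H20.exists_orderOf_pPart z), one_mul]
    set q := H20.qPart p z
    obtain ⟨t, ht, hd⟩ := hS.gen (q : G) (by
      rw [Subgroup.orderOf_coe]; exact H20.not_dvd_orderOf_qPart z)
    have htX : t ∈ X := by
      have := mul_mem q.2 (inv_mem (h.le hd))
      simpa using this
    rw [show q = ⟨t, htX⟩ * ⟨t⁻¹ * q, h.le hd⟩ from Subtype.ext (by simp), map_mul,
      hμT ⟨t, htX⟩ ht, hμY _ (hNY hd), one_mul]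
  have := hμ ⟨x, hx⟩
  rwa [hall, Units.val_one, one_mul] at this

end Ext

/-- Determinantal order of a character rational at `p` is prime to `p`. -/
theorem not_dvd_detOrder (hodd : p ≠ 2) {χ : G → ℂ} (hχ : IsIrrCharacter G χ)
    (hrat : ∀ g, RatOn p χ g) : ¬ p ∣ detOrder χ := by
  obtain ⟨n, ρ, hρ, hρχ⟩ := hχ
  haveI := hρ
  rw [detOrder, H14.detChar_eq_detHom ρ hρχ, H14.orderOf_coe_hom]
  set fh := H14.detHom ρ with hfh
  have hp1 : ∀ x : G, (∃ j : ℕ, orderOf x = p ^ j) → fh x = 1 := by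
    rintro x ⟨j, hj⟩
    have hk : Nat.Coprime 2 (orderOf x) := by
      rw [hj]
      exact ((Nat.coprime_primes Nat.prime_two hp.out).2 (Ne.symm hodd)).pow_right j
    have hk1 : 2 ≡ 1 [MOD ordCompl[p] (orderOf x)] := by
      rw [hj, hp.out.factorization_pow, Finsupp.single_eq_same, Nat.div_self (pow_pos hp.out.pos j)]
      exact Nat.modEq_one
    obtain ⟨K, hK, hK1, hKx⟩ := exists_exp x 2 hk hk1 Nat.card_pos.ne' (orderOf_dvd_natCard x)
    obtain ⟨σ, hσ⟩ := exists_galois (Nat.card G) Nat.card_pos hK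
    have h1 := det_of_twist ρ σ 1 (fun g => by
      rw [hρχ, H25.map_character_apply (hρχ ▸ H12.isCharacter_character ρ) σ K hσ g,
        (hrat g).pow_eq hK hK1]
      simp) x
    rw [MonoidHom.one_apply, Units.val_one, one_pow, one_mul, ← H14.detHom_apply, ← hfh,
      hσ _ (by rw [← Units.val_pow_eq_pow_val, ← map_pow, pow_card_eq_one', map_one, Units.val_one]),
      ← Units.val_pow_eq_pow_val, ← map_pow, hKx, map_pow, Units.val_pow_eq_pow_val, pow_two] at h1
    exact Units.ext (mul_left_cancel₀ (fh x).ne_zero (h1.trans (mul_one _).symm))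
  have hm : fh ^ ordCompl[p] (Nat.card G) = 1 := by
    refine MonoidHom.ext fun g => ?_
    rw [MonoidHom.pow_apply, MonoidHom.one_apply, ← H20.pPart_mul_qPart (p := p) g, map_mul,
      hp1 _ (H20.exists_orderOf_pPart g), one_mul, ← map_pow]
    obtain ⟨c, hc⟩ := Nat.ordCompl_dvd_ordCompl_of_dvd (orderOf_dvd_natCard g) p
    rw [hc, pow_mul, H20.qPart_pow_ordCompl, one_pow, map_one]
  exact fun h => Nat.not_dvd_ordCompl hp.out Nat.card_pos.ne' (h.trans (orderOf_dvd_of_pow_eq_one hm))

theorem conj_mem_iff (X : Subgroup G) {a : G} (ha : a ∈ X) {g : G} :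
    a * g * a⁻¹ ∈ X ↔ g ∈ X := by
  constructor
  · intro h
    have := mul_mem (mul_mem (inv_mem ha) h) ha
    simpa [mul_assoc] using this
  · exact fun h => mul_mem (mul_mem ha h) (inv_mem ha)

theorem isT_conj (N : Subgroup G) [N.Normal] (a : G) {t : G} (ht : IsT p N t) :
    IsT p N (a * t * a⁻¹) := by
  refine ⟨by rw [← MulAut.conj_apply, MulEquiv.orderOf_eq]; exact ht.1, ?_⟩
  have h1 : (Subgroup.centralizer ({t} : Set G)).map (MulAut.conj a).toMonoidHom =
      Subgroup.centralizer ({a * t * a⁻¹} : Set G) := by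
    ext x
    rw [Subgroup.mem_map_equiv, Subgroup.mem_centralizer_singleton_iff,
      Subgroup.mem_centralizer_singleton_iff]
    constructor
    · intro h
      apply (MulAut.conj a).symm.injective
      simpa [mul_assoc] using h
    · intro h
      have := congrArg (MulAut.conj a).symm h
      simpa [mul_assoc] using this
  have h2 : N.map (MulAut.conj a).toMonoidHom = N := by
    ext x
    rw [Subgroup.mem_map_equiv]
    constructor
    · intro h
      have := ‹N.Normal›.conj_mem _ h a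
      simpa [mul_assoc] using this
    · intro h
      have := ‹N.Normal›.conj_mem _ h a⁻¹
      simpa [mul_assoc] using this
  rw [← h1, ← h2, Subgroup.relIndex_map_map_of_injective _ _ (MulAut.conj a).injective]
  exact ht.2

/-- Conjugates of congruent extensions. -/
theorem Ext.conj (hS : Setup p M N θ d) {X : Subgroup G} {f : G → ℂ} (h : Ext p M N θ d X f)
    (a : G) (Z : Subgroup G) (hNZ : N ≤ Z) (hZ : ∀ g, g ∈ Z ↔ a * g * a⁻¹ ∈ X) :
    Ext p M N θ d Z (fun g => f (a * g * a⁻¹)) := by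
  haveI := hS.normal
  refine ⟨hNZ, ?_, fun n hn => ?_, fun t ht hT => h.congr _ ((hZ t).1 ht) (isT_conj N a hT)⟩
  · let e : Z →* X :=
      { toFun := fun z => ⟨a * z * a⁻¹, (hZ z).1 z.2⟩
        map_one' := Subtype.ext (by simp)
        map_mul' := fun z w => Subtype.ext (by simp [mul_assoc]) }
    exact H12.IsIrrCharacter.comp_surjective h.irr (f := e) (fun x =>
      ⟨⟨a⁻¹ * x * a, (hZ _).2 (by simp [mul_assoc])⟩, Subtype.ext (by simp [e, mul_assoc])⟩)
  · show f (a * n * a⁻¹) = θ n
    rw [h.ext _ (hS.normal.conj_mem n hn a), hS.inv a n hn]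

theorem ratOn_conj {f : G → ℂ} {a g : G} (h : RatOn p f (a * g * a⁻¹)) :
    RatOn p (fun x => f (a * x * a⁻¹)) g := by
  intro k hk hk1
  show f (a * g ^ k * a⁻¹) = f (a * g * a⁻¹)
  rw [← conj_pow]
  refine h k ?_ ?_
  · rwa [← MulAut.conj_apply, MulEquiv.orderOf_eq]
  · rwa [← MulAut.conj_apply, MulEquiv.orderOf_eq]

/-- A step of prime index `q ≠ p`. -/
theorem step_prime (hS : Setup p M N θ d) {X Y : Subgroup G} {f : G → ℂ}
    (h : Ext p M N θ d Y f) (hr : RatSub p Y f) (hYX : Y ≤ X) [(Y.subgroupOf X).Normal] {q : ℕ}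
    (hq : q.Prime) (hXY : Y.relIndex X = q) (hqp : q ≠ p) (hpY : ¬ p ∣ N.relIndex Y) :
    ∃ f' : G → ℂ, Ext p M N θ d X f' ∧ RatSub p X f' := by
  haveI := H20.isPrime_of_modular hS.modular
  haveI := hS.normal
  set Y' := Y.subgroupOf X
  have hNY := h.le
  let e : Y' ≃* Y := Subgroup.subgroupOfEquivOfLe hYX
  let θY : IrrCharacter Y' := ⟨fun y => f ((y : X) : G),
    H12.IsIrrCharacter.comp_surjective h.irr (f := e.toMonoidHom) e.surjective⟩
  have hY'idx : Y'.index = q := hXY
  have hθY1 : (θY : Y' → ℂ) 1 = (d : ℂ) := by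
    show f (((1 : Y') : X) : G) = _
    simpa using Ext.one hS h
  have hθY : θY ∈ principalBlock M Y' := by
    rw [mem_principal_iff hS.modular θY hθY1 hS.pdeg]
    intro y hy hyi
    rw [hθY1]
    refine h.congr _ y.2 ?_
    refine isT_of_index N hNY (e y) ?_ ?_
    · rwa [MulEquiv.orderOf_eq]
    · rwa [show Subgroup.centralizer ({e y} : Set Y) =
        (Subgroup.centralizer ({y} : Set Y')).map (e : Y' →* Y) from ?_,
        Subgroup.index_map_equiv]
      ext z
      rw [← MulEquiv.toMonoidHom_eq_coe, Subgroup.mem_map_equiv, Subgroup.mem_centralizer_singleton_iff,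
        Subgroup.mem_centralizer_singleton_iff]
      constructor
      · intro hz
        apply e.injective
        simpa using hz
      · intro hz
        have := congrArg e hz
        simpa using this
  have hpX : ¬ p ∣ N.relIndex X := by
    rw [← Subgroup.relIndex_mul_relIndex N Y X hNY hYX, hXY]
    intro hd
    exact (hp.out.dvd_mul.1 hd).elim hpY fun h2 =>
      hqp ((Nat.prime_dvd_prime_iff_eq hp.out hq).1 h2).symm
  have hpmem : ∀ x : G, x ∈ X → (∃ j : ℕ, orderOf x = p ^ j) → x ∈ Y := by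
    rintro x hx ⟨j, hj⟩
    have h0 : (((⟨x, hx⟩ : X)) : X ⧸ Y') = 1 := by
      rw [← orderOf_eq_one_iff]
      refine Nat.eq_one_of_dvd_coprimes (((Nat.coprime_primes hp.out hq).2 (Ne.symm hqp)).pow_left j)
        ?_ ((orderOf_dvd_natCard _).trans ?_)
      · rw [← hj]
        exact (orderOf_map_dvd (QuotientGroup.mk' Y') (⟨x, hx⟩ : X)).trans (by rw [← Subgroup.orderOf_coe])
      · rw [← Subgroup.index_eq_card, hY'idx]
    exact (QuotientGroup.eq_one_iff (⟨x, hx⟩ : X)).1 h0
  obtain ⟨x, hxX, hxY⟩ : ∃ x : G, x ∈ X ∧ x ∉ Y := by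
    by_contra hno
    simp only [not_exists, not_and, not_not] at hno
    exact hq.one_lt.ne' (hXY.symm.trans (Subgroup.relIndex_eq_one.2 hno))
  obtain ⟨t, ht, hd⟩ := hS.gen ((H20.qPart p (⟨x, hxX⟩ : X) : X) : G) (by
    rw [Subgroup.orderOf_coe]; exact H20.not_dvd_orderOf_qPart _)
  have htX : t ∈ X := by
    have := mul_mem (H20.qPart p (⟨x, hxX⟩ : X)).2 (inv_mem (hYX (hNY hd)))
    simpa using this
  have htY : (⟨t, htX⟩ : X) ∉ Y' := by
    intro htY
    apply hxY
    have hq1 : ((H20.qPart p (⟨x, hxX⟩ : X) : X) : G) ∈ Y := by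
      have := mul_mem (show t ∈ Y from htY) (hNY hd)
      simpa using this
    have hp1 := hpmem _ (H20.pPart p (⟨x, hxX⟩ : X)).2 (by
      simpa [Subgroup.orderOf_coe] using H20.exists_orderOf_pPart (p := p) (⟨x, hxX⟩ : X))
    have := mul_mem hp1 hq1
    rwa [← Subgroup.coe_mul, H20.pPart_mul_qPart] at this
  obtain ⟨χ, hχB, hχY⟩ := prime_step hS.modular Y' hq hY'idx θY hθY htY
    (by rw [← Subgroup.orderOf_coe]; exact ht.1)
    (not_dvd_index_of_isT N (hNY.trans hYX) hpX ⟨t, htX⟩ ht)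
  set f' := lift X (χ : X → ℂ) with hf'
  have hYf : ∀ y ∈ Y, f' y = f y := fun y hy => by
    have := hχY ⟨⟨y, hYX hy⟩, hy⟩
    rw [hf', show y = ((⟨y, hYX hy⟩ : X) : G) from rfl, lift_apply]
    exact this
  have hχ1 : (χ : X → ℂ) 1 = (d : ℂ) := (hχY 1).trans hθY1
  have hf'E : Ext p M N θ d X f' := by
    refine ⟨hNY.trans hYX, ?_, fun n hn => (hYf n (hNY hn)).trans (h.ext n hn), fun s hs hT => ?_⟩
    · rw [hf', res_lift]; exact χ.2
    · rw [hf', show s = ((⟨s, hs⟩ : X) : G) from rfl, lift_apply, ← hχ1]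
      exact (mem_principal_iff hS.modular χ hχ1 hS.pdeg).1 hχB _
        (by rw [← Subgroup.orderOf_coe]; exact hT.1)
        (not_dvd_index_of_isT N (hNY.trans hYX) hpX ⟨s, hs⟩ hT)
  refine ⟨f', hf'E, fun g hg => ratOn_of_forall g fun K hK hK1 => ?_⟩
  exact hf'E.uniq hS (hf'E.twist hS hK hK1) Y hNY hYX (fun y hy => by
    show f' (y ^ K) = f' y
    rw [hYf _ (pow_mem hy K), hYf _ hy, (hr y hy).pow_eq hK hK1]) (Or.inl hpmem) g hg

/-- A step of index `p`. -/
theorem step_p (hS : Setup p M N θ d) {X Y : Subgroup G} {f : G → ℂ}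
    (h : Ext p M N θ d Y f) (hr : RatSub p Y f) (hYX : Y ≤ X) [(Y.subgroupOf X).Normal]
    (hXY : Y.relIndex X = p) :
    ∃ f' : G → ℂ, Ext p M N θ d X f' ∧ RatSub p X f' := by
  haveI := H20.isPrime_of_modular hS.modular
  haveI := hS.normal
  set Y' := Y.subgroupOf X
  have hNY := h.le
  let e : Y' ≃* Y := Subgroup.subgroupOfEquivOfLe hYX
  let φ : Y' → ℂ := fun y => f ((y : X) : G)
  have hφ : IsIrrCharacter Y' φ :=
    H12.IsIrrCharacter.comp_surjective h.irr (f := e.toMonoidHom) e.surjective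
  haveI hNY' : (N.subgroupOf Y).Normal := inferInstance
  have hinv : ∀ (g : X) (y : Y'),
      φ ⟨g * y * g⁻¹, Subgroup.Normal.conj_mem inferInstance (y : X) y.2 g⟩ = φ y := by
    intro g y
    have hc := h.conj hS (g : G) Y hNY (fun z => by
      constructor
      · intro hz
        exact (‹(Y.subgroupOf X).Normal›.conj_mem (⟨z, hYX hz⟩ : X) hz g :)
      · intro hz
        have hzX : z ∈ X := by
          have := (conj_mem_iff X g.2).1 (hYX hz)
          exact this
        have := ‹(Y.subgroupOf X).Normal›.conj_mem (⟨(g : G) * z * (g : G)⁻¹, hYX hz⟩ : X) hz g⁻¹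
        simpa [Subgroup.mem_subgroupOf, mul_assoc] using this)
    have := Ext.uniq hS h hc N le_rfl hNY
      (fun n hn => by rw [hc.ext n hn, h.ext n hn])
      (Or.inr ⟨hr, fun z hz => ratOn_conj (hr _ (by
        exact (‹(Y.subgroupOf X).Normal›.conj_mem (⟨z, hYX hz⟩ : X) hz g :)))⟩) ((y : X) : G) y.2
    exact this
  have hφrat : ∀ y : Y', RatOn p φ y := fun y k hk hk1 => by
    rw [← Subgroup.orderOf_coe, ← Subgroup.orderOf_coe] at hk hk1
    simpa [φ] using hr _ y.2 k hk hk1
  have hdet := not_dvd_detOrder hS.odd hφ hφrat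
  have hφ1 : φ 1 = (d : ℂ) := by
    show f (((1 : Y') : X) : G) = _
    simpa using Ext.one hS h
  have hcop : Nat.Coprime Y'.index (detOrder φ * d) := by
    rw [show Y'.index = p from hXY]
    exact (hp.out.coprime_iff_not_dvd.2 fun hd => (hp.out.dvd_mul.1 hd).elim hdet hS.pdeg)
  obtain ⟨χ, ⟨hχ, hχY, hχdet⟩, -⟩ := H14.exists_canonical_extension Y' φ hφ hinv d hφ1 hcop
  set f' := lift X χ with hf'
  have hYf : ∀ y ∈ Y, f' y = f y := fun y hy => by
    rw [hf', show y = ((⟨y, hYX hy⟩ : X) : G) from rfl, lift_apply]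
    exact hχY ⟨⟨y, hYX hy⟩, hy⟩
  have hf'E : Ext p M N θ d X f' := by
    refine ⟨hNY.trans hYX, ?_, fun n hn => (hYf n (hNY hn)).trans (h.ext n hn), fun s hs hT => ?_⟩
    · rw [hf', res_lift]; exact hχ
    · have hsY : s ∈ Y := by
        have h0 : ((⟨s, hs⟩ : X) : X ⧸ Y') = 1 := by
          rw [← orderOf_eq_one_iff]
          refine Nat.eq_one_of_dvd_coprimes (hp.out.coprime_iff_not_dvd.2 hT.1)
            ((orderOf_dvd_natCard _).trans ?_) ?_
          · rw [← Subgroup.index_eq_card, show Y'.index = p from hXY]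
          · exact (orderOf_map_dvd (QuotientGroup.mk' Y') _).trans (by rw [Subgroup.orderOf_mk])
        exact (QuotientGroup.eq_one_iff (⟨s, hs⟩ : X)).1 h0
      rw [hYf s hsY]
      exact h.congr s hsY hT
  refine ⟨f', hf'E, fun g hg => ratOn_of_forall g fun K hK hK1 => ?_⟩
  have hKX : Nat.Coprime K (Nat.card X) :=
    hK.coprime_dvd_right (Subgroup.card_subgroup_dvd_card X)
  obtain ⟨n, ρ, hρ, hρχ⟩ := hχ
  haveI := hρ
  have hχ' : IsIrrCharacter X χ := ⟨n, ρ, hρ, hρχ⟩
  obtain ⟨μ, hμY, hμ⟩ := exists_linear_quot Y' hχ' (H25.isIrrCharacter_comp_pow hχ' hKX)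
    (by rw [show (fun y : Y' => χ y) = φ from funext hχY]; exact hφ) (fun y => by
      rw [hχY]
      have h1 := hχY (y ^ K)
      rw [Subgroup.coe_pow] at h1
      rw [h1]
      have hy := (hr ((y : X) : G) y.2).pow_eq hK hK1
      simpa [φ] using hy)
  obtain ⟨σ, hσ⟩ := exists_galois (Nat.card G) Nat.card_pos hK
  have hμ1 : ∀ x : X, μ x = 1 := by
    intro x
    have h1 := det_of_twist ρ σ μ (fun z => by
      rw [hρχ, H25.map_character_apply (hρχ ▸ H12.isCharacter_character ρ) σ K
        (fun w hw => hσ w (by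
          obtain ⟨c, hc⟩ := Subgroup.card_subgroup_dvd_card X
          rw [hc, pow_mul, hw, one_pow])) z]
      exact hμ z) x
    set δ := LinearMap.det (ρ x)
    have hδm : δ ^ detOrder φ = 1 := by
      have h2 : detChar χ ^ detOrder χ = 1 := pow_orderOf_eq_one _
      have h3 := congrFun h2 x
      rwa [Pi.pow_apply, Pi.one_apply, H14.detChar_eq ρ hρχ, hχdet] at h3
    have hδG : δ ^ Nat.card G = 1 := by
      obtain ⟨c, hc⟩ := Subgroup.card_subgroup_dvd_card X
      have hX : δ ^ Nat.card X = 1 := by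
        rw [← map_pow, ← map_pow, pow_card_eq_one', map_one, map_one]
      rw [hc, pow_mul, hX, one_pow]
    have hfix : σ δ = δ := by
      rw [hσ δ hδG]
      conv_rhs => rw [← pow_one δ]
      rw [← pow_mod_orderOf δ K, ← pow_mod_orderOf δ 1]
      refine congrArg (δ ^ ·) (hK1.of_dvd ?_)
      have h5 : ¬ p ∣ orderOf δ := fun hd => hdet (hd.trans (orderOf_dvd_of_pow_eq_one hδm))
      have := Nat.ordCompl_dvd_ordCompl_of_dvd (orderOf_dvd_of_pow_eq_one hδG) p
      rwa [Nat.factorization_eq_zero_of_not_dvd h5, pow_zero, Nat.div_one] at this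
    rw [hfix] at h1
    have hδ0 : δ ≠ 0 := by
      intro h0
      rw [h0, zero_pow Nat.card_pos.ne'] at hδG
      exact zero_ne_one hδG
    have hμd : (μ x : ℂ) ^ Module.finrank ℂ (Fin n → ℂ) = 1 :=
      mul_right_cancel₀ hδ0 (h1.symm.trans (one_mul δ).symm)
    have hnd : Module.finrank ℂ (Fin n → ℂ) = d := by
      have := hχY 1
      rw [OneMemClass.coe_one, hφ1, ← hρχ, Representation.char_one] at this
      exact_mod_cast this
    have hμp : μ x ^ p = 1 := by
      rw [← map_pow]
      refine hμY _ ?_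
      rw [← QuotientGroup.eq_one_iff, QuotientGroup.mk_pow,
        show p = Nat.card (X ⧸ Y') from (hXY.symm.trans (Subgroup.index_eq_card Y') :), pow_card_eq_one']
    have hμd' : μ x ^ d = 1 := Units.ext (by rw [Units.val_pow_eq_pow_val, ← hnd, hμd, Units.val_one])
    rw [← orderOf_eq_one_iff]
    exact Nat.eq_one_of_dvd_coprimes (hp.out.coprime_iff_not_dvd.2 hS.pdeg)
      (orderOf_dvd_of_pow_eq_one hμp) (orderOf_dvd_of_pow_eq_one hμd')
  have := hμ ⟨g, hg⟩
  rw [hμ1, Units.val_one, one_mul] at this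
  calc f' (g ^ K) = χ (⟨g, hg⟩ ^ K) := lift_apply X χ (⟨g, hg⟩ ^ K)
    _ = χ ⟨g, hg⟩ := this
    _ = f' g := (lift_apply X χ ⟨g, hg⟩).symm

/-- A nilpotent group has normal subgroups of index each prime divisor of its order. -/
theorem exists_normal_index {H : Type u} [Group H] [Finite H] [hH : Group.IsNilpotent H] {r : ℕ}
    [Fact r.Prime] (hr : r ∣ Nat.card H) : ∃ U : Subgroup H, U.Normal ∧ U.index = r := by
  let e := Sylow.directProductOfNormal (G := H) fun {q} _ P => (inferInstance : P.Normal)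
  obtain ⟨P⟩ : Nonempty (Sylow r H) := inferInstance
  have hmem : r ∈ (Nat.card H).primeFactors :=
    Nat.mem_primeFactors.2 ⟨Fact.out, hr, Nat.card_pos.ne'⟩
  let f : H →* P := (((Pi.evalMonoidHom (fun Q : Sylow r H => (Q : Subgroup H)) P).comp
    (Pi.evalMonoidHom (fun q : (Nat.card H).primeFactors => ∀ Q : Sylow q H, Q) ⟨r, hmem⟩)).comp
    e.symm.toMonoidHom)
  have hf : Function.Surjective f := by
    intro x
    classical
    refine ⟨e (Pi.mulSingle ⟨r, hmem⟩ (Pi.mulSingle P x)), ?_⟩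
    simp [f]
  haveI : Nontrivial (P : Subgroup H) :=
    (Subgroup.nontrivial_iff_ne_bot _).2 (P.ne_bot_of_dvd_card hr)
  haveI : Group.IsSolvable (P : Subgroup H) := inferInstance
  obtain ⟨V, q, hq, hV, hVq⟩ := H1.exists_normal_index_prime (P : Subgroup H)
  obtain ⟨k, hk⟩ := IsPGroup.exists_card_eq P.isPGroup'
  have hqr : q = r := (Nat.prime_dvd_prime_iff_eq hq Fact.out).1 (hq.dvd_of_dvd_pow
    (hk ▸ hVq ▸ Subgroup.index_dvd_card V))
  exact ⟨V.comap f, hV.comap f, by rw [Subgroup.index_comap_of_surjective V hf, hVq, hqr]⟩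

/-- Rational congruent extensions along nilpotent sections. -/
theorem exists_good (hS : Setup p M N θ d) (hθ : Ext p M N θ d N θ) :
    ∀ X : Subgroup G, N ≤ X →
      (haveI := hS.normal; Group.IsNilpotent ↥(X.map (QuotientGroup.mk' N))) →
      ∃ f : G → ℂ, Ext p M N θ d X f ∧ RatSub p X f := by
  haveI := hS.normal
  set π := QuotientGroup.mk' N with hπ
  suffices hsuff : ∀ m (X : Subgroup G), Nat.card X = m → N ≤ X → Group.IsNilpotent ↥(X.map π) →
      ∃ f : G → ℂ, Ext p M N θ d X f ∧ RatSub p X f from fun X => hsuff _ X rfl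
  intro m
  induction m using Nat.strong_induction_on with
  | _ m ih =>
    intro X hm hNX hnil
    by_cases hXN : X ≤ N
    · obtain rfl : X = N := le_antisymm hXN hNX
      exact ⟨θ, hθ, hS.rat⟩
    haveI : Nontrivial ↥(X.map π) := by
      rw [Subgroup.nontrivial_iff_ne_bot]
      intro h0
      exact hXN fun x hx => (QuotientGroup.eq_one_iff x).1
        (Subgroup.mem_bot.1 (h0 ▸ Subgroup.mem_map_of_mem π hx))
    haveI := hnil
    obtain ⟨r, hr, hrdvd, hrp⟩ : ∃ r : ℕ, r.Prime ∧ r ∣ Nat.card ↥(X.map π) ∧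
        (p ∣ Nat.card ↥(X.map π) → r = p) := by
      by_cases hpd : p ∣ Nat.card ↥(X.map π)
      · exact ⟨p, hp.out, hpd, fun _ => rfl⟩
      · exact ⟨_, Nat.minFac_prime (Finite.one_lt_card).ne', Nat.minFac_dvd _,
          fun h => absurd h hpd⟩
    haveI := Fact.mk hr
    obtain ⟨U, hUn, hUr⟩ := exists_normal_index hrdvd
    set j : X →* ↥(X.map π) := π.subgroupMap X with hj
    have hjs : Function.Surjective j := π.subgroupMap_surjective X
    set Y' : Subgroup X := U.comap j with hY'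
    set Y : Subgroup G := Y'.map X.subtype with hYdef
    have hYX : Y ≤ X := Subgroup.map_subtype_le _
    have hsub : Y.subgroupOf X = Y' := Subgroup.comap_map_eq_self_of_injective X.subtype_injective _
    haveI : (Y.subgroupOf X).Normal := by rw [hsub]; exact hUn.comap j
    have hNY : N ≤ Y := fun n hn => ⟨⟨n, hNX hn⟩, by
      show j ⟨n, hNX hn⟩ ∈ U
      rw [show j ⟨n, hNX hn⟩ = 1 from Subtype.ext ((QuotientGroup.eq_one_iff n).2 hn)]
      exact one_mem U, rfl⟩
    have hq : U.index.Prime := hUr ▸ hr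
    have hidx : Y.relIndex X = U.index := by
      rw [Subgroup.relIndex, hsub, hY', Subgroup.index_comap_of_surjective U hjs]
    have hlt : Nat.card Y < m := by
      rw [← hm]
      refine lt_of_le_of_ne (Subgroup.card_le_of_le hYX) fun heq => ?_
      have : Y = X := Subgroup.eq_of_le_of_card_ge hYX heq.ge
      rw [this, Subgroup.relIndex_self] at hidx
      exact hq.one_lt.ne hidx
    have hnilY : Group.IsNilpotent ↥(Y.map π) :=
      Group.nilpotent_of_mulEquiv (Subgroup.subgroupOfEquivOfLe (Subgroup.map_mono hYX (f := π)))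
    obtain ⟨f, hf, hfr⟩ := ih _ hlt Y rfl hNY hnilY
    by_cases hqp : U.index = p
    · exact step_p hS hf hfr hYX (hidx.trans hqp)
    · refine step_prime hS hf hfr hYX hq hidx hqp fun hpY => hqp (hUr.trans (hrp (hpY.trans ?_)))
      refine (dvd_mul_right _ (Y.relIndex X)).trans (dvd_of_eq ?_)
      rw [Subgroup.relIndex_mul_relIndex N Y X hNY hYX]
      have hker : j.ker = N.subgroupOf X := by
        ext x
        simp [hj, MonoidHom.mem_ker, Subgroup.mem_subgroupOf, Subtype.ext_iff, π]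
      rw [Subgroup.relIndex, ← hker, Subgroup.index_ker, MonoidHom.range_eq_top.2 hjs,
        Subgroup.card_top]

end H8.BlockExt
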