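import Cfsg.Agent.H8.BlockExtGen
import Mathlib

/-!
Galois action on the `p`-parts: twists, determinants and rationality.
-/

set_option autoImplicit false
set_option linter.unusedSectionVars false
set_option linter.style.haveILetI false

open Cfsg
open scoped ComplexConjugate

namespace H8.BlockExt

universe u

variable {p : ℕ} [hp : Fact p.Prime] {G : Type u} [Group G] [Finite G]

/-- Exponents extending a given one on a single element and acting trivially on `p'`-roots of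
unity. -/
theorem exists_exp (g : G) (k : ℕ) (hk : Nat.Coprime k (orderOf g))
    (hk1 : k ≡ 1 [MOD ordCompl[p] (orderOf g)]) {n : ℕ} (hn : n ≠ 0) (hgn : orderOf g ∣ n) :
    ∃ K : ℕ, Nat.Coprime K n ∧ K ≡ 1 [MOD ordCompl[p] n] ∧ g ^ K = g ^ k := by
  have hp' : p.Prime := hp.out
  set P := ordProj[p] n with hP
  set m := ordCompl[p] n with hm
  have hPm : Nat.Coprime P m := (Nat.coprime_ordCompl hp' hn).pow_left _
  set k' := if p ∣ orderOf g then k else 1 with hk'
  obtain ⟨K, hK1, hK2⟩ := Nat.chineseRemainder hPm k' 1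
  have hk'p : ¬ p ∣ k' := by
    rw [hk']
    split_ifs with h
    · intro hd
      exact hp'.one_lt.ne' (Nat.eq_one_of_dvd_coprimes hk hd h)
    · exact fun hd => hp'.one_lt.ne' (Nat.dvd_one.1 hd)
  refine ⟨K, ?_, hK2, ?_⟩
  · rw [show n = P * m from (Nat.ordProj_mul_ordCompl_eq_self n p).symm]
    refine Nat.Coprime.mul_right ?_ ?_
    · rw [Nat.coprime_iff_gcd_eq_one, Nat.ModEq.gcd_eq hK1]
      exact ((hp'.coprime_iff_not_dvd.2 hk'p).pow_left _).symm
    · rw [Nat.coprime_iff_gcd_eq_one, Nat.ModEq.gcd_eq hK2, Nat.gcd_one_left]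
  · rw [pow_eq_pow_iff_modEq]
    have hcop := H20.coprime_ordProj (p := p) g
    rw [← Nat.ordProj_mul_ordCompl_eq_self (orderOf g) p, ← Nat.modEq_and_modEq_iff_modEq_mul hcop]
    refine ⟨?_, ?_⟩
    · by_cases h : p ∣ orderOf g
      · refine (hK1.of_dvd (Nat.ordProj_dvd_ordProj_of_dvd hn hgn p)).trans ?_
        rw [hk', if_pos h]
      · rw [Nat.factorization_eq_zero_of_not_dvd h, pow_zero]
        exact Nat.modEq_one
    · exact (hK2.of_dvd (Nat.ordCompl_dvd_ordCompl_of_dvd hgn p)).trans hk1.symm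

/-- The power of an element of order prime to `p` under an exponent fixing `p'`-roots of unity. -/
theorem pow_eq_self_of_regular {g : G} (hg : ¬ p ∣ orderOf g) {K : ℕ}
    (hK : K ≡ 1 [MOD ordCompl[p] (Nat.card G)]) : g ^ K = g := by
  conv_rhs => rw [← pow_one g]
  rw [pow_eq_pow_iff_modEq]
  refine hK.of_dvd ?_
  have := Nat.ordCompl_dvd_ordCompl_of_dvd (orderOf_dvd_natCard g) p
  rwa [Nat.factorization_eq_zero_of_not_dvd hg, pow_zero, Nat.div_one] at this

/-- Rationality at `p`: fixed by all exponents acting trivially on `p'`-roots of unity. -/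
def RatOn (p : ℕ) (f : G → ℂ) (g : G) : Prop :=
  ∀ k : ℕ, Nat.Coprime k (orderOf g) → k ≡ 1 [MOD ordCompl[p] (orderOf g)] → f (g ^ k) = f g

theorem ratOn_of_forall {f : G → ℂ} (g : G)
    (h : ∀ K : ℕ, Nat.Coprime K (Nat.card G) → K ≡ 1 [MOD ordCompl[p] (Nat.card G)] →
      f (g ^ K) = f g) : RatOn p f g := by
  intro k hk hk1
  obtain ⟨K, hK, hK1, hKg⟩ := exists_exp g k hk hk1 Nat.card_pos.ne' (orderOf_dvd_natCard g)
  rw [← hKg]
  exact h K hK hK1

theorem RatOn.pow_eq {f : G → ℂ} {g : G} (h : RatOn p f g) {K : ℕ}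
    (hK : Nat.Coprime K (Nat.card G)) (hK1 : K ≡ 1 [MOD ordCompl[p] (Nat.card G)]) :
    f (g ^ K) = f g :=
  h K (hK.coprime_dvd_right (orderOf_dvd_natCard g))
    (hK1.of_dvd (Nat.ordCompl_dvd_ordCompl_of_dvd (orderOf_dvd_natCard g) p))

/-- Galois conjugates of representations and their determinants. -/
theorem det_of_twist {V : Type} [AddCommGroup V] [Module ℂ V] [FiniteDimensional ℂ V]
    (ρ : Representation ℂ G V) [ρ.IsIrreducible] (σ : ℂ ≃+* ℂ) (f : G →* ℂˣ)
    (h : ∀ g, σ (ρ.character g) = (f g : ℂ) * ρ.character g) (g : G) :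
    σ (LinearMap.det (ρ g)) = (f g : ℂ) ^ Module.finrank ℂ V * LinearMap.det (ρ g) := by
  classical
  set b := Module.finBasis ℂ V
  set n := Module.finrank ℂ V
  let φ : Matrix (Fin n) (Fin n) ℂ →+* Matrix (Fin n) (Fin n) ℂ := (σ : ℂ →+* ℂ).mapMatrix
  let S : Representation ℂ G V :=
    (((LinearMap.toMatrixAlgEquiv b).symm : Matrix (Fin n) (Fin n) ℂ →* Module.End ℂ V).comp
      φ.toMonoidHom).comp (((LinearMap.toMatrixAlgEquiv b) :
        Module.End ℂ V →* Matrix (Fin n) (Fin n) ℂ).comp ρ)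
  have hS : ∀ x, LinearMap.toMatrixAlgEquiv b (S x) = φ (LinearMap.toMatrixAlgEquiv b (ρ x)) :=
    fun x => AlgEquiv.apply_symm_apply _ _
  have hchar : S.character = (H14.twistRep f ρ).character := by
    funext x
    rw [H14.twistRep_character, Pi.mul_apply, ← h x]
    simp only [Representation.character]
    rw [LinearMap.trace_eq_matrix_trace ℂ b, LinearMap.trace_eq_matrix_trace ℂ b]
    show (LinearMap.toMatrixAlgEquiv b (S x)).trace = σ ((LinearMap.toMatrixAlgEquiv b (ρ x)).trace)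
    rw [hS, Matrix.trace, Matrix.trace, map_sum]
    rfl
  haveI := H14.twistRep_isIrreducible f ρ
  have hd := H14.det_eq_of_char_eq (H14.twistRep f ρ) S hchar g
  have h2 : LinearMap.det (H14.twistRep f ρ g) = (f g : ℂ) ^ n * LinearMap.det (ρ g) := by
    have := congrArg Units.val (H14.twistRep_det f ρ g)
    simpa [H14.detHom_apply] using this
  rw [← h2, ← hd, ← LinearMap.det_toMatrix b, ← LinearMap.det_toMatrix b]
  show σ ((LinearMap.toMatrixAlgEquiv b (ρ g)).det) = (LinearMap.toMatrixAlgEquiv b (S g)).det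
  rw [hS]
  exact RingHom.map_det (σ : ℂ →+* ℂ) _

/-- A Galois automorphism for an exponent, fixing `p'`-roots of unity. -/
theorem exists_galois {K : ℕ} (n : ℕ) (hn : 0 < n) (hK : Nat.Coprime K n) :
    ∃ σ : ℂ ≃+* ℂ, ∀ z : ℂ, z ^ n = 1 → σ z = z ^ K :=
  H25.exists_ringEquiv_pow_rootOfUnity n K hn hK

/-- Characters with values in a `p'`-cyclotomic field are rational at `p`. -/
theorem ratOn_of_adjoin {χ : G → ℂ} (hχ : IsCharacter G χ) {m : ℕ} (hpm : ¬ p ∣ m)
    (g : G) (h : χ g ∈ IntermediateField.adjoin ℚ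
      ({Complex.exp (2 * Real.pi * Complex.I / m)} : Set ℂ)) : RatOn p χ g := by
  intro k hk hk1
  have hm0 : m ≠ 0 := fun e => hpm (e ▸ dvd_zero p)
  have hn : Nat.card G * m ≠ 0 := mul_ne_zero Nat.card_pos.ne' hm0
  obtain ⟨K, hK, hK1, hKg⟩ := exists_exp g k hk hk1 hn
    ((orderOf_dvd_natCard g).trans (Dvd.intro m rfl))
  obtain ⟨σ, hσ⟩ := exists_galois (K := K) _ (Nat.pos_of_ne_zero hn) hK
  rw [← hKg, ← H25.map_character_apply hχ σ K (fun z hz => hσ z (by rw [pow_mul, hz, one_pow])) g]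
  refine H17.SchurBound.galois_fixed_of_mem_adjoin σ _ ?_ h
  set ζ := Complex.exp (2 * Real.pi * Complex.I / m)
  have hζ : ζ ^ m = 1 := (Complex.isPrimitiveRoot_exp m hm0).pow_eq_one
  rw [hσ ζ (by rw [mul_comm, pow_mul, hζ, one_pow])]
  have hdvd : m ∣ ordCompl[p] (Nat.card G * m) := by
    have := Nat.ordCompl_dvd_ordCompl_of_dvd (Dvd.intro_left (Nat.card G) rfl : m ∣ Nat.card G * m) p
    rwa [Nat.factorization_eq_zero_of_not_dvd hpm, pow_zero, Nat.div_one] at this
  rw [pow_eq_pow_mod K hζ, show K % m = 1 % m from hK1.of_dvd hdvd, ← pow_eq_pow_mod 1 hζ, pow_one]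

/-- Sums of powers of a root of unity over exponents prime to `p` are rational. -/
theorem sum_prime_exponents {a : ℕ} {β : ℂ} (hβ : β ^ p ^ (a + 1) = 1) :
    ∃ z : ℤ, ∑ j ∈ (Finset.range (p ^ (a + 1))).filter (fun j => ¬ p ∣ j), β ^ j = (z : ℂ) := by
  have hgeom : ∀ (c : ℂ) (n : ℕ), c ^ n = 1 → ∃ z : ℤ, ∑ j ∈ Finset.range n, c ^ j = (z : ℂ) := by
    intro c n hc
    by_cases h1 : c = 1
    · exact ⟨n, by simp [h1]⟩
    · refine ⟨0, ?_⟩
      rw [geom_sum_eq h1, hc, sub_self, zero_div, Int.cast_zero]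
  obtain ⟨z1, hz1⟩ := hgeom β _ hβ
  obtain ⟨z2, hz2⟩ := hgeom (β ^ p) (p ^ a) (by rw [← pow_mul, ← pow_succ', hβ])
  refine ⟨z1 - z2, ?_⟩
  rw [Int.cast_sub, ← hz1, ← hz2, eq_sub_iff_add_eq]
  rw [← Finset.sum_filter_add_sum_filter_not (Finset.range (p ^ (a + 1))) (fun j => ¬ p ∣ j)]
  congr 1
  simp only [not_not]
  refine Finset.sum_bij' (fun j _ => p * j) (fun j _ => j / p) ?_ ?_ ?_ ?_ ?_
  · intro j hj
    simp only [Finset.mem_filter, Finset.mem_range] at hj ⊢
    refine ⟨?_, dvd_mul_right _ _⟩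
    rw [pow_succ']
    exact Nat.mul_lt_mul_of_pos_left hj hp.out.pos
  · intro j hj
    simp only [Finset.mem_filter, Finset.mem_range] at hj ⊢
    rw [Nat.div_lt_iff_lt_mul hp.out.pos]
    calc j < p ^ (a + 1) := hj.1
      _ = p ^ a * p := pow_succ _ _
  · intro j _
    exact Nat.mul_div_cancel_left j hp.out.pos
  · intro j hj
    simp only [Finset.mem_filter] at hj
    exact Nat.mul_div_cancel' hj.2
  · intro j _
    rw [← pow_mul]

/-- A character rational at `p` at `g` takes its value in the `p'`-cyclotomic field. -/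
theorem adjoin_of_ratOn {χ : G → ℂ} (hχ : IsCharacter G χ) (g : G) (h : RatOn p χ g) :
    χ g ∈ IntermediateField.adjoin ℚ
      ({Complex.exp (2 * Real.pi * Complex.I / ((ordCompl[p] (Nat.card G) : ℕ) : ℂ))} : Set ℂ) := by
  classical
  obtain ⟨n, ρ, rfl⟩ := hχ
  set N := ordCompl[p] (Nat.card G) with hN
  set ζ := Complex.exp (2 * Real.pi * Complex.I / ((N : ℕ) : ℂ))
  set L := IntermediateField.adjoin ℚ ({ζ} : Set ℂ)
  have hN0 : N ≠ 0 := (Nat.ordCompl_pos p Nat.card_pos.ne').ne'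
  haveI : NeZero N := ⟨hN0⟩
  have hprim : IsPrimitiveRoot ζ N := Complex.isPrimitiveRoot_exp N hN0
  have hroot : ∀ z : ℂ, z ^ N = 1 → z ∈ L := by
    intro z hz
    obtain ⟨j, -, hj⟩ := hprim.eq_pow_of_pow_eq_one hz
    rw [← hj]
    exact pow_mem (IntermediateField.mem_adjoin_simple_self ℚ ζ) j
  obtain ⟨μ, hμ, hk, -⟩ := H12.exists_char_eigenvalues ρ g
  have hmN : ordCompl[p] (orderOf g) ∣ N := Nat.ordCompl_dvd_ordCompl_of_dvd (orderOf_dvd_natCard g) p
  rcases Nat.eq_zero_or_pos ((orderOf g).factorization p) with h0 | hpos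
  · have hoN : (orderOf g) ∣ N := by
      rw [h0, pow_zero, Nat.div_one] at hmN
      exact hmN
    rw [← pow_one g, hk 1]
    refine sum_mem fun i _ => pow_mem (hroot _ ?_) _
    obtain ⟨c, hc⟩ := hoN
    rw [hc, pow_mul, hμ i, one_pow]
  obtain ⟨a, ha⟩ : ∃ a, (orderOf g).factorization p = a + 1 := ⟨(orderOf g).factorization p - 1, by omega⟩
  have hP : ordProj[p] (orderOf g) = p ^ (a + 1) := by rw [ha]
  set e := H20.qExp p (orderOf g)
  set f := H20.pExp p (orderOf g)
  obtain ⟨he1, he2⟩ := H20.qExp_spec (p := p) g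
  obtain ⟨hf1, hf2⟩ := H20.pExp_spec (p := p) g
  set s := (Finset.range (p ^ (a + 1))).filter (fun j => ¬ p ∣ j) with hs
  have hterm : ∀ j ∈ s, ρ.character (g ^ (e + f * j)) = ρ.character g := by
    intro j hj
    have hjp : ¬ p ∣ j := (Finset.mem_filter.1 hj).2
    refine h _ ?_ ?_
    · rw [← Nat.ordProj_mul_ordCompl_eq_self (orderOf g) p]
      refine Nat.Coprime.mul_right ?_ ?_
      · rw [Nat.coprime_iff_gcd_eq_one, Nat.ModEq.gcd_eq (he1.add (hf1.mul_right j)), zero_add,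
          one_mul]
        exact ((hp.out.coprime_iff_not_dvd.2 hjp).pow_left _).symm
      · rw [Nat.coprime_iff_gcd_eq_one, Nat.ModEq.gcd_eq (he2.add (hf2.mul_right j)), zero_mul,
          add_zero, Nat.gcd_one_left]
    · have := he2.add (hf2.mul_right j)
      rwa [zero_mul, add_zero] at this
  have hsum : (s.card : ℂ) * ρ.character g = ∑ i, μ i ^ e * ∑ j ∈ s, (μ i ^ f) ^ j := by
    rw [← nsmul_eq_mul, ← Finset.sum_const, Finset.sum_congr rfl fun j hj => (hterm j hj).symm,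
      Finset.sum_congr rfl fun j _ => hk (e + f * j), Finset.sum_comm]
    refine Finset.sum_congr rfl fun i _ => ?_
    rw [Finset.mul_sum]
    exact Finset.sum_congr rfl fun j _ => by rw [pow_add, pow_mul]
  have hs0 : (s.card : ℂ) ≠ 0 := by
    refine Nat.cast_ne_zero.2 (Finset.card_ne_zero.2 ⟨1, ?_⟩)
    simp only [hs, Finset.mem_filter, Finset.mem_range]
    exact ⟨Nat.one_lt_pow (Nat.succ_ne_zero a) hp.out.one_lt, fun hd =>
      hp.out.one_lt.ne' (Nat.dvd_one.1 hd)⟩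
  rw [show ρ.character g = (s.card : ℂ)⁻¹ * ((s.card : ℂ) * ρ.character g) by
    rw [← mul_assoc, inv_mul_cancel₀ hs0, one_mul], hsum]
  refine mul_mem (inv_mem (natCast_mem L _)) (sum_mem fun i _ => mul_mem (hroot _ ?_) ?_)
  · rw [← pow_mul, ← orderOf_dvd_iff_pow_eq_one]
    refine (orderOf_dvd_of_pow_eq_one (hμ i)).trans ?_
    rw [← Nat.ordProj_mul_ordCompl_eq_self (orderOf g) p]
    exact mul_dvd_mul (Nat.modEq_zero_iff_dvd.1 he1) hmN
  · obtain ⟨z, hz⟩ := sum_prime_exponents (p := p) (a := a) (β := μ i ^ f) (by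
      rw [← pow_mul, ← orderOf_dvd_iff_pow_eq_one]
      refine (orderOf_dvd_of_pow_eq_one (hμ i)).trans ?_
      rw [← hP]
      conv_lhs => rw [← Nat.ordProj_mul_ordCompl_eq_self (orderOf g) p, mul_comm]
      exact mul_dvd_mul (Nat.modEq_zero_iff_dvd.1 hf2) dvd_rfl)
    rw [hz]
    exact intCast_mem L z

end H8.BlockExt
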