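import Cfsg.Agent.H25.ValueCongr
import Cfsg.Agent.H25.Galois
import Cfsg.Agent.H25.GaloisExtend
import Cfsg.Agent.H25.PrincipalSum
import Cfsg.Agent.H21.Covering
import Cfsg.Agent.H21.IndChar
import Cfsg.Agent.H22.BlockClasses
import Cfsg.Agent.H12.Linear
import Cfsg.Agent.H14.GallagherExt
import Cfsg.Agent.H14.GoingDown
import Cfsg.Agent.H13.Gallagher
import Cfsg.Agent.H15.HomogeneousMain
import Cfsg.Agent.H17.SchurBound
import Mathlib

/-!
General facts for p-rational extensions in the principal block: the congruence criterion for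
characters of degree prime to `p`, the prime index step and Galois action on determinants.
-/

set_option autoImplicit false
set_option linter.unusedSectionVars false
set_option linter.style.haveILetI false

open Cfsg
open scoped ComplexConjugate

namespace H8.BlockExt

universe u

variable {p : ℕ} [hp : Fact p.Prime] {M : Ideal AlgInt} {G : Type u} [Group G] [Finite G]

/-- Principal block membership in degree prime to `p`. -/
theorem mem_principal_iff (hM : IsPModular p M) (χ : IrrCharacter G) {d : ℕ}
    (hd : (χ : G → ℂ) 1 = (d : ℂ)) (hpd : ¬ p ∣ d) :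
    χ ∈ principalBlock M G ↔ ∀ y : G, ¬ p ∣ orderOf y →
      ¬ p ∣ (Subgroup.centralizer ({y} : Set G)).index →
      MemLocalIdeal M ((χ : G → ℂ) y - (χ : G → ℂ) 1) := by
  haveI := H20.isPrime_of_modular hM
  haveI := Fintype.ofFinite G
  have hone : ∀ g : G, centralChar (fun _ : G => (1 : ℂ)) g =
      ((Subgroup.centralizer ({g} : Set G)).index : ℂ) := fun g => by simp [centralChar]
  have hd0 : (d : ℂ) ≠ 0 := by
    rw [← hd]; exact H12.irr_apply_one_ne_zero χ
  have hdi : MemLocalRing M (d : ℂ)⁻¹ := H20.inv_natCast_memRing hM hpd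
  constructor
  · intro h y _ hyi
    have h1 := h y
    rw [hone, centralChar, hd] at h1
    have h2 := H20.memIdeal_mul (H20.memRing_neg (H20.memRing_mul
      (H20.memRing_natCast (M := M) d) (H20.inv_natCast_memRing hM hyi))) h1
    convert h2 using 1
    have hn : ((Subgroup.centralizer ({y} : Set G)).index : ℂ) ≠ 0 := by
      exact_mod_cast Subgroup.index_ne_zero_of_finite
    rw [hd]
    field_simp
    ring
  · intro h g
    rw [hone, centralChar, hd]
    set c := (Subgroup.centralizer ({g} : Set G)).index with hc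
    have key : MemLocalIdeal M ((c : ℂ) * ((χ : G → ℂ) g - (d : ℂ))) := by
      by_cases hC : p ∣ c
      · have hI := (H20.natCast_memIdeal_iff hM _).2 hC
        have := H20.memIdeal_mul (H20.memRing_add (H20.memRing_irr (M := M) χ g)
          (H20.memRing_neg (H20.memRing_natCast d))) hI
        convert this using 1
        ring
      · have hq := h (H20.qPart p g) (H20.not_dvd_orderOf_qPart g) (fun hh =>
          hC (hh.trans (Subgroup.index_dvd_of_le (H25.centralizer_le_qPart g))))
        rw [hd] at hq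
        have h2 := H20.memIdeal_add hq
          (H25.memIdeal_apply_sub_qPart (p := p) hM (H12.isCharacter_irr χ) g)
        have h3 := H20.memIdeal_mul (H20.memRing_natCast (M := M) c) h2
        convert h3 using 1
        ring
    have h4 := H20.memIdeal_mul (H20.memRing_neg hdi) key
    convert h4 using 1
    field_simp
    ring

/-- The roots of unity of order prime to `p` are distinct modulo `M`. -/
theorem eq_one_of_congr (hM : IsPModular p M) {z : ℂ} {m d : ℕ} (hm : ¬ p ∣ m) (hz : z ^ m = 1)
    (hpd : ¬ p ∣ d) (h : MemLocalIdeal M (z * (d : ℂ) - (d : ℂ))) : z = 1 := by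
  haveI := H20.isPrime_of_modular hM
  have hm0 : 0 < m := Nat.pos_of_ne_zero fun h => hm (h ▸ dvd_zero p)
  refine H20.eq_one_of_pow_eq_one hM hm hz ?_
  have := H20.memIdeal_mul (H20.inv_natCast_memRing hM hpd) h
  have hd0 : (d : ℂ) ≠ 0 := by
    exact_mod_cast fun h0 : d = 0 => hpd (h0 ▸ dvd_zero p)
  convert this using 1
  field_simp

/-- A linear character takes root of unity values. -/
theorem hom_pow_orderOf (f : G →* ℂˣ) (g : G) : (f g : ℂ) ^ orderOf g = 1 := by
  rw [← Units.val_pow_eq_pow_val, ← map_pow, pow_orderOf_eq_one, map_one, Units.val_one]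

/-- Two extensions of an irreducible restriction differ by a linear character. -/
theorem exists_linear_quot (Y : Subgroup G) [Y.Normal] {χ χ' : G → ℂ}
    (hχ : IsIrrCharacter G χ) (hχ' : IsIrrCharacter G χ')
    (hres : IsIrrCharacter Y (fun y : Y => χ y)) (heq : ∀ y : Y, χ' y = χ y) :
    ∃ μ : G →* ℂˣ, (∀ y ∈ Y, μ y = 1) ∧ ∀ g, χ' g = (μ g : ℂ) * χ g := by
  classical
  haveI := Fintype.ofFinite G
  haveI := Fintype.ofFinite Y
  haveI := Fintype.ofFinite (G ⧸ Y)
  have hne : classInner (fun n : Y => χ' n) (fun n : Y => χ n) ≠ 0 := by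
    rw [show (fun n : Y => χ' n) = fun n : Y => χ n from funext heq]
    rw [show classInner (fun n : Y => χ n) (fun n : Y => χ n) = 1 from
      H12.classInner_irr_self (⟨_, hres⟩ : IrrCharacter Y)]
    exact one_ne_zero
  obtain ⟨β, hβ⟩ := H13.gallagher_exists Y (H12.isCharacter_of_isIrrCharacter hχ) hres hχ' hne
  have h1 : χ 1 ≠ 0 := H12.irr_apply_one_ne_zero (⟨χ, hχ⟩ : IrrCharacter G)
  have hb1 : (β : G ⧸ Y → ℂ) 1 = 1 := by
    have e := congrFun hβ 1
    rw [Pi.mul_apply, H13.inflateIrr_apply, QuotientGroup.mk_one] at e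
    have e2 : χ' 1 = χ 1 := by simpa using heq 1
    rw [e2] at e
    exact mul_right_cancel₀ h1 (e.symm.trans (one_mul _).symm)
  obtain ⟨f, hf⟩ := H12.exists_monoidHom_of_apply_one_eq_one (H12.isCharacter_irr β) hb1
  refine ⟨f.comp (QuotientGroup.mk' Y), fun y hy => ?_, fun g => ?_⟩
  · show f ((y : G) : G ⧸ Y) = 1
    rw [(QuotientGroup.eq_one_iff y).2 hy, map_one]
  · rw [congrFun hβ g, Pi.mul_apply, H13.inflateIrr_apply, ← hf]
    rfl

/-- Linear characters of a quotient of prime order. -/
theorem exists_hom_of_irr (Y : Subgroup G) [Y.Normal] {q : ℕ} (hq : q.Prime) (hY : Y.index = q)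
    (β : IrrCharacter (G ⧸ Y)) :
    ∃ f : G ⧸ Y →* ℂˣ, (β : G ⧸ Y → ℂ) = fun x => (f x : ℂ) := by
  haveI : Fintype (G ⧸ Y) := Fintype.ofFinite _
  haveI := Fact.mk hq
  have hc : Nat.card (G ⧸ Y) = q := by rw [← Subgroup.index_eq_card, hY]
  haveI : IsCyclic (G ⧸ Y) := isCyclic_of_prime_card hc
  have hb1 : (β : G ⧸ Y → ℂ) 1 = 1 :=
    H12.irr_apply_one_of_comm (fun a b => by letI := IsCyclic.commGroup (α := G ⧸ Y); exact mul_comm a b) β
  obtain ⟨f, hf⟩ := H12.exists_monoidHom_of_apply_one_eq_one (H12.isCharacter_irr β) hb1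
  exact ⟨f, by rw [hf]⟩

/-- An element outside a normal subgroup of prime index generates the quotient. -/
theorem hom_eq_one_of_prime (Y : Subgroup G) [Y.Normal] {q : ℕ} (hq : q.Prime) (hY : Y.index = q)
    {t : G} (ht : t ∉ Y) (f : G ⧸ Y →* ℂˣ) (hf : f (t : G ⧸ Y) = 1) : f = 1 := by
  haveI := Fact.mk hq
  have hc : Nat.card (G ⧸ Y) = q := by rw [← Subgroup.index_eq_card, hY]
  refine MonoidHom.ext fun x => ?_
  have hx : x ∈ Subgroup.zpowers (t : G ⧸ Y) := by
    rw [zpowers_eq_top_of_prime_card hc (by rwa [Ne, QuotientGroup.eq_one_iff])]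
    trivial
  obtain ⟨n, rfl⟩ := Subgroup.mem_zpowers_iff.1 hx
  rw [map_zpow, hf, one_zpow]
  rfl

open Classical in
/-- The Alperin–Dade step: a principal block character of degree prime to `p` of a normal
subgroup of prime index extends to the principal block of the group, provided an
outside `p`-regular class has size prime to `p`. -/
theorem prime_step (hM : IsPModular p M) (Y : Subgroup G) [Y.Normal] {q : ℕ} (hq : q.Prime)
    (hY : Y.index = q) (θ : IrrCharacter Y) (hθ : θ ∈ principalBlock M Y) {t : G}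
    (htY : t ∉ Y) (ht : ¬ p ∣ orderOf t) (hti : ¬ p ∣ (Subgroup.centralizer ({t} : Set G)).index) :
    ∃ χ : IrrCharacter G, χ ∈ principalBlock M G ∧ ∀ y : Y, (χ : G → ℂ) y = (θ : Y → ℂ) y := by
  haveI := H20.isPrime_of_modular hM
  haveI := Fintype.ofFinite G
  haveI := Fintype.ofFinite Y
  haveI : Fintype (G ⧸ Y) := Fintype.ofFinite _
  haveI : Fintype (ConjClasses G) := Fintype.ofFinite _
  set B := principalBlock M G with hBdef
  have hB : IsPBlock M B := H20.isPBlock_principalBlock
  set ι := IrrCharacter (G ⧸ Y)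
  have hfi : ∀ β : ι, ∃ f : G ⧸ Y →* ℂˣ, (β : G ⧸ Y → ℂ) = fun x => (f x : ℂ) :=
    fun β => exists_hom_of_irr Y hq hY β
  choose f hf using hfi
  let lam : ι → (G →* ℂˣ) := fun β => (f β).comp (QuotientGroup.mk' Y)
  have hlamY : ∀ β, ∀ y ∈ Y, lam β y = 1 := fun β y hy => by
    show f β ((y : G) : G ⧸ Y) = 1
    rw [(QuotientGroup.eq_one_iff y).2 hy, map_one]
  have hlaminj : ∀ β β' : ι, lam β t = lam β' t → β = β' := by
    intro β β' e
    have h1 := hom_eq_one_of_prime Y hq hY htY (f β * (f β')⁻¹) (by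
      show f β (t : G ⧸ Y) * (f β' (t : G ⧸ Y))⁻¹ = 1
      rw [show f β (t : G ⧸ Y) = f β' (t : G ⧸ Y) from e, mul_inv_cancel])
    have h2 : f β = f β' := mul_inv_eq_one.1 h1
    exact Subtype.ext (by rw [hf, hf, h2])
  have hregsum : ∀ x : G, ∑ β : ι, (lam β x : ℂ) = if x ∈ Y then (q : ℂ) else 0 := by
    intro x
    have h1 := H12.regular_eq_sum (G := G ⧸ Y) (x : G ⧸ Y)
    simp only [hf, map_one, Units.val_one, one_mul] at h1
    show ∑ β : ι, (f β (x : G ⧸ Y) : ℂ) = _
    rw [h1, show Nat.card (G ⧸ Y) = q from by rw [← Subgroup.index_eq_card, hY]]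
    by_cases hx : x ∈ Y
    · rw [if_pos hx, if_pos ((QuotientGroup.eq_one_iff x).2 hx)]
    · rw [if_neg hx, if_neg (mt (QuotientGroup.eq_one_iff x).1 hx)]
  let tw : IrrCharacter G → ι → IrrCharacter G := fun χ β =>
    ⟨fun x => (lam β x : ℂ) * (χ : G → ℂ) x, H14.linear_mul_irr (lam β) χ.2⟩
  have htw : ∀ χ β x, ((tw χ β : IrrCharacter G) : G → ℂ) x = (lam β x : ℂ) * (χ : G → ℂ) x :=
    fun χ β x => rfl
  have hcc : ∀ χ β x, centralChar ((tw χ β : IrrCharacter G) : G → ℂ) x =
      (lam β x : ℂ) * centralChar (χ : G → ℂ) x := fun χ β x => by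
    simp only [centralChar, htw, map_one, Units.val_one, one_mul]
    ring
  -- the number of twists in the block, modulo `p`
  have hcount : ∀ χ : IrrCharacter G, ((Finset.univ.filter fun β => tw χ β ∈ B).card : H20.k M) =
      ∑ C : ConjClasses G, H20.redC M (blockCoeff B C.out) *
        H20.redC M ((if C.out ∈ Y then (q : ℂ) else 0) * centralChar (χ : G → ℂ) C.out) := by
    intro χ
    rw [← Finset.sum_boole, Finset.sum_congr rfl fun β _ =>
      (H22.sum_redC_coeff_mul hB (tw χ β)).symm, Finset.sum_comm]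
    refine Finset.sum_congr rfl fun C _ => ?_
    rw [← Finset.mul_sum, ← H20.redC_sum _ _ (fun β _ =>
      H20.memRing_of_isIntegral (H20.isIntegral_centralChar (tw χ β) _))]
    congr 2
    rw [Finset.sum_congr rfl fun β _ => hcc χ β C.out, ← Finset.sum_mul, hregsum]
  obtain ⟨χ0, hχ0⟩ : ∃ χ : IrrCharacter G,
      classInner (fun y : Y => (χ : G → ℂ) y) (θ : Y → ℂ) ≠ 0 := by
    by_contra hno
    simp only [not_exists, not_not] at hno
    have hz := H12.eq_zero_of_classInner_irr_eq_zero
      (H12.IsCharacter.isClassFunction (H21.indFun_isCharacter Y (H12.isCharacter_irr θ)))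
      (fun χ => by
        rw [← H12.conj_classInner, H12.classInner_indFun_right Y _ (H12.irr_isClassFunction χ),
          hno χ, map_zero])
    have h1 := congrFun hz 1
    rw [H12.indFun_one, Pi.zero_apply, mul_eq_zero] at h1
    rcases h1 with h1 | h1
    · exact Subgroup.index_ne_zero_of_finite (by exact_mod_cast h1)
    · exact H12.irr_apply_one_ne_zero θ h1
  set one := H12.oneIrr G with hone
  have hone' : ∀ x, (one : G → ℂ) x = 1 := fun x => rfl
  have hagree : ∀ x ∈ Y, H20.redC M (centralChar (one : G → ℂ) x) =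
      H20.redC M (centralChar (χ0 : G → ℂ) x) := by
    intro x hx
    have h1c : classInner (fun y : Y => (one : G → ℂ) y) (H12.oneIrr Y : Y → ℂ) ≠ 0 := by
      rw [show (fun y : Y => (one : G → ℂ) y) = (H12.oneIrr Y : Y → ℂ) from rfl,
        H12.classInner_irr_self]
      exact one_ne_zero
    rw [show x = ((⟨x, hx⟩ : Y) : G) from rfl, H21.centralChar_eq_induced Y one _ h1c,
      H21.centralChar_eq_induced Y χ0 θ hχ0]
    exact (H21.redC_induced_of_sameBlock Y
      (show SameBlock M (H12.oneIrr Y : Y → ℂ) (θ : Y → ℂ) from hθ) ⟨x, hx⟩).2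
  have hcounteq : ((Finset.univ.filter fun β => tw one β ∈ B).card : H20.k M) =
      ((Finset.univ.filter fun β => tw χ0 β ∈ B).card : H20.k M) := by
    rw [hcount, hcount]
    refine Finset.sum_congr rfl fun C _ => ?_
    congr 1
    by_cases hC : C.out ∈ Y
    · rw [if_pos hC, H20.redC_mul (H20.memRing_natCast q)
        (H20.memRing_of_isIntegral (H20.isIntegral_centralChar one _)),
        H20.redC_mul (H20.memRing_natCast q)
        (H20.memRing_of_isIntegral (H20.isIntegral_centralChar χ0 _)), hagree _ hC]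
    · rw [if_neg hC, zero_mul, zero_mul]
  set β0 : ι := H12.oneIrr (G ⧸ Y) with hβ0
  have hlam0 : ∀ x, (lam β0 x : ℂ) = 1 := fun x => by
    have := congrFun (hf β0) (x : G ⧸ Y)
    exact this.symm
  have h1B : one ∈ B := by
    show SameBlock M _ _
    exact H20.sameBlock_refl _
  have hsingle : (Finset.univ.filter fun β => tw one β ∈ B) = {β0} := by
    ext β
    simp only [Finset.mem_filter, Finset.mem_univ, true_and, Finset.mem_singleton]
    constructor
    · intro hβ
      refine hlaminj β β0 (Units.ext ?_)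
      rw [hlam0]
      have hd1 : ((tw one β : IrrCharacter G) : G → ℂ) 1 = ((1 : ℕ) : ℂ) := by
        rw [htw, map_one, hone', Units.val_one, one_mul, Nat.cast_one]
      have h2 := (mem_principal_iff hM (tw one β) hd1
        (fun h => hp.out.one_lt.ne' (Nat.dvd_one.1 h))).1 hβ t ht hti
      rw [hd1, htw, hone'] at h2
      exact eq_one_of_congr hM (z := (lam β t : ℂ)) (d := 1) ht (hom_pow_orderOf _ _)
        (fun h => hp.out.one_lt.ne' (Nat.dvd_one.1 h)) (by simpa using h2)
    · rintro rfl
      have : tw one β0 = one := Subtype.ext (funext fun x => by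
        rw [htw, hlam0, one_mul])
      rw [this]
      exact h1B
  rw [hsingle, Finset.card_singleton, Nat.cast_one] at hcounteq
  obtain ⟨β, hβ⟩ : ∃ β, tw χ0 β ∈ B := by
    by_contra hno
    simp only [not_exists] at hno
    rw [Finset.filter_false_of_mem (fun β _ => hno β), Finset.card_empty, Nat.cast_zero] at hcounteq
    exact one_ne_zero hcounteq
  set χ := tw χ0 β with hχdef
  have hresχ : (fun y : Y => (χ : G → ℂ) y) = fun y : Y => (χ0 : G → ℂ) y := funext fun y => by
    rw [hχdef, htw, hlamY β _ y.2, Units.val_one, one_mul]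
  have hχt : (χ : G → ℂ) t ≠ 0 := by
    intro h0
    have h1 := hβ t
    rw [show centralChar (χ : G → ℂ) t = 0 by simp [centralChar, h0], sub_zero,
      show centralChar (fun _ : G => (1 : ℂ)) t = ((Subgroup.centralizer ({t} : Set G)).index : ℂ)
        by simp [centralChar], H20.natCast_memIdeal_iff hM] at h1
    exact hti h1
  have hnorm : classInner (fun y : Y => (χ : G → ℂ) y) (fun y : Y => (χ : G → ℂ) y) = 1 := by
    have h1 : ∑ γ : ι, classInner (χ : G → ℂ) ((tw χ γ : IrrCharacter G) : G → ℂ) = 1 := by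
      rw [Finset.sum_eq_single β0]
      · rw [show tw χ β0 = χ from Subtype.ext (funext fun x => by rw [htw, hlam0, one_mul]),
          H12.classInner_irr_self]
      · intro γ _ hγ
        refine H12.classInner_irr_ne (fun e => hγ ?_)
        refine hlaminj γ β0 (Units.ext ?_)
        rw [hlam0]
        have h2 := congrFun (congrArg Subtype.val e) t
        rw [htw] at h2
        exact mul_right_cancel₀ hχt (h2.symm.trans (one_mul _).symm)
      · intro h; exact absurd (Finset.mem_univ _) h
    rw [← h1]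
    simp only [H12.classInner_def, htw, map_mul, ← Finset.mul_sum]
    rw [Finset.sum_comm]
    have hx : ∀ x : G, ∑ γ : ι, (χ : G → ℂ) x * (conj (lam γ x : ℂ) * conj ((χ : G → ℂ) x)) =
        if x ∈ Y then (q : ℂ) * ((χ : G → ℂ) x * conj ((χ : G → ℂ) x)) else 0 := by
      intro x
      rw [← Finset.mul_sum, ← Finset.sum_mul, ← map_sum, hregsum, apply_ite conj, map_zero,
        Complex.conj_natCast]
      split_ifs <;> ring
    rw [Finset.sum_congr rfl fun x _ => hx x, ← Finset.sum_filter,
      Finset.sum_subtype (Finset.univ.filter fun x => x ∈ Y) (p := fun x => x ∈ Y) (by simp),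
      ← Finset.mul_sum, ← mul_assoc, ← Y.card_mul_index, hY, Nat.cast_mul, mul_inv,
      mul_assoc _ _ (q : ℂ), inv_mul_cancel₀ (by exact_mod_cast hq.ne_zero), mul_one]
  have hirr := H12.isIrrCharacter_of_classInner_self_eq_one
    (H12.IsCharacter.res (H12.isCharacter_irr χ) Y) hnorm
  refine ⟨χ, hβ, fun y => ?_⟩
  have he : (⟨_, hirr⟩ : IrrCharacter Y) = θ := by
    by_contra hne
    have := H12.classInner_irr_ne hne
    apply hχ0
    rw [← hresχ]
    exact this
  exact congrFun (congrArg Subtype.val he) y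

end H8.BlockExt
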