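import Cfsg.Agent.H8.BlockExtCore
import Cfsg.Agent.H14.BrauerInduction
import Cfsg.Agent.H16.VChar
import Cfsg.Agent.H12.Monomial
import Mathlib

/-!
Gluing the canonical extensions by Brauer's characterization of characters.
-/

set_option autoImplicit false
set_option linter.unusedSectionVars false
set_option linter.style.haveILetI false

open Cfsg
open scoped ComplexConjugate

namespace H8.BlockExt

universe u

variable {p : ℕ} [hp : Fact p.Prime] {M : Ideal AlgInt} {G : Type u} [Group G] [Finite G]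
  {N : Subgroup G} {θ : G → ℂ} {d : ℕ}

open Classical in
/-- The canonical extension exists. -/
theorem exists_extension (hS : Setup p M N θ d) :
    ∃ ψ : G → ℂ, IsIrrCharacter G ψ ∧ (∀ n ∈ N, ψ n = θ n) ∧ (∀ g, RatOn p ψ g) ∧
      ∀ t, IsT p N t → MemLocalIdeal M (ψ t - (d : ℂ)) := by
  haveI := H20.isPrime_of_modular hS.modular
  haveI := hS.normal
  haveI := Fintype.ofFinite G
  haveI := Fintype.ofFinite N
  have hθ : Ext p M N θ d N θ := ⟨le_rfl, hS.irr, fun _ _ => rfl, hS.congr⟩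
  let Z : G → Subgroup G := fun g => N ⊔ Subgroup.zpowers g
  have hNZ : ∀ g, N ≤ Z g := fun g => le_sup_left
  have hgZ : ∀ g, g ∈ Z g := fun g => Subgroup.mem_sup_right (Subgroup.mem_zpowers g)
  have hnilZ : ∀ g, Group.IsNilpotent ↥((Z g).map (QuotientGroup.mk' N)) := by
    intro g
    have e : (Z g).map (QuotientGroup.mk' N) = Subgroup.zpowers (g : G ⧸ N) := by
      rw [Subgroup.map_sup, QuotientGroup.map_mk'_self, bot_sup_eq, MonoidHom.map_zpowers]
      rfl
    rw [e]
    letI := IsCyclic.commGroup (α := ↥(Subgroup.zpowers (g : G ⧸ N)))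
    exact CommGroup.isNilpotent
  choose F hF hFr using fun g => exists_good hS hθ (Z g) (hNZ g) (hnilZ g)
  let ψ : G → ℂ := fun g => F g g
  have hagree : ∀ (X : Subgroup G) (f : G → ℂ), Ext p M N θ d X f → RatSub p X f →
      ∀ x ∈ X, ψ x = f x := by
    intro X f hf hfr x hx
    have hZX : Z x ≤ X := sup_le hf.le ((Subgroup.zpowers_le).2 hx)
    haveI : (N.subgroupOf (Z x)).Normal := inferInstance
    exact Ext.uniq hS (hf.mono hS (hNZ x) hZX) (hF x) N le_rfl (hNZ x)
      (fun n hn => by rw [(hF x).ext n hn, hf.ext n hn])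
      (Or.inr ⟨fun g hg => hfr g (hZX hg), hFr x⟩) x (hgZ x)
  have hψN : ∀ n ∈ N, ψ n = θ n := fun n hn => (hF n).ext n hn
  have hψ1 : ψ 1 = (d : ℂ) := (hψN 1 (one_mem N)).trans hS.one
  have hclass : IsClassFunction G ψ := by
    intro g a
    let W : Subgroup G := Z (a * g * a⁻¹)
    let Z' : Subgroup G := W.comap (MulAut.conj a).toMonoidHom
    have hmem : ∀ x, x ∈ Z' ↔ a * x * a⁻¹ ∈ W := fun x => by
      show MulAut.conj a x ∈ W ↔ _
      rw [MulAut.conj_apply]
    have hNZ' : N ≤ Z' := fun n hn => (hmem n).2 (hNZ _ (hS.normal.conj_mem n hn a))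
    exact ((hagree Z' _ ((hF _).conj hS a Z' hNZ' hmem)
      (fun x hx => ratOn_conj (hFr _ _ ((hmem x).1 hx))) g ((hmem g).2 (hgZ _)))).symm
  have hgen : IsGeneralizedCharacter G ψ := by
    refine H14.isGeneralizedCharacter_of_elementary ψ hclass fun E q hq hE => ?_
    haveI := H12.IsElementary.isNilpotent hq hE
    have hnil : Group.IsNilpotent ↥((N ⊔ E).map (QuotientGroup.mk' N)) := by
      rw [Subgroup.map_sup, QuotientGroup.map_mk'_self, bot_sup_eq]
      exact Group.nilpotent_of_surjective _ ((QuotientGroup.mk' N).subgroupMap_surjective E)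
    obtain ⟨f, hf, hfr⟩ := exists_good hS hθ (N ⊔ E) le_sup_left hnil
    refine ⟨fun e : E => ψ e, 0, ?_, H12.isCharacter_zero, by simp⟩
    have hEX : E ≤ N ⊔ E := le_sup_right
    rw [show (fun e : E => ψ e) = res (N ⊔ E) f ∘ Subgroup.inclusion hEX from
      funext fun e => hagree _ f hf hfr e (hEX e.2)]
    exact H12.IsCharacter.comp (H12.isCharacter_of_isIrrCharacter hf.irr) _
  have hcoset : ∀ g : G, ∑ n : N, ψ ((n : G) * g) * conj (ψ ((n : G) * g)) = (Nat.card N : ℂ) := by
    intro g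
    set X := Z g
    haveI := Fintype.ofFinite X
    set N' := N.subgroupOf X
    haveI := Fintype.ofFinite N'
    have h1 := H14.cosetAvg_self N' (χ := res X (F g))
      (H12.isCharacter_of_isIrrCharacter (hF g).irr) ((hF g).res_sub_irr hS le_rfl (hNZ g))
    have h2 := congrFun h1 ⟨g, hgZ g⟩
    simp only [H14.cosetAvg] at h2
    rw [inv_mul_eq_iff_eq_mul₀ (Nat.cast_ne_zero.2 Nat.card_pos.ne'), mul_one,
      Nat.card_congr (Subgroup.subgroupOfEquivOfLe (hNZ g)).toEquiv] at h2
    rw [← h2]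
    refine (Fintype.sum_equiv (Subgroup.subgroupOfEquivOfLe (hNZ g)).toEquiv _ _ fun n => ?_).symm
    have hv := hagree X (F g) (hF g) (hFr g) _
      (mul_mem (n : X).2 (hgZ g))
    show res X (F g) ((n : X) * ⟨g, hgZ g⟩) * conj (res X (F g) ((n : X) * ⟨g, hgZ g⟩)) = _
    rw [res_apply, Subgroup.coe_mul, ← hv]
    rfl
  have hnorm : classInner ψ ψ = 1 := by
    have htot : ∑ g : G, ∑ n : N, ψ ((n : G) * g) * conj (ψ ((n : G) * g)) =
        (Nat.card N : ℂ) * ∑ g : G, ψ g * conj (ψ g) := by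
      have hs : ∀ n : N, ∑ g : G, ψ ((n : G) * g) * conj (ψ ((n : G) * g)) =
          ∑ g : G, ψ g * conj (ψ g) := fun n =>
        Fintype.sum_equiv (Equiv.mulLeft (n : G)) _ _ fun g => rfl
      rw [Finset.sum_comm, Finset.sum_congr rfl fun (n : N) _ => hs n, Finset.sum_const, Finset.card_univ, nsmul_eq_mul, ← Nat.card_eq_fintype_card]
    rw [Finset.sum_congr rfl fun g _ => hcoset g, Finset.sum_const, Finset.card_univ, nsmul_eq_mul,
      ← Nat.card_eq_fintype_card, mul_comm] at htot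
    rw [H12.classInner_def, ← mul_left_cancel₀ (Nat.cast_ne_zero.2 Nat.card_pos.ne') htot]
    exact inv_mul_cancel₀ (Nat.cast_ne_zero.2 Nat.card_pos.ne')
  have hd0 : 0 < d := Nat.pos_of_ne_zero fun h => hS.pdeg (h ▸ dvd_zero p)
  have hirr : IsIrrCharacter G ψ := by
    rcases H16.norm_one hgen hnorm with h | h
    · exact h
    · exfalso
      obtain ⟨n, hn⟩ := H12.IsCharacter.apply_one (H12.isCharacter_of_isIrrCharacter h)
      rw [Pi.neg_apply, hψ1] at hn
      have h2 : ((n + d : ℕ) : ℂ) = 0 := by push_cast; rw [← hn]; ring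
      have : n + d = 0 := by exact_mod_cast h2
      omega
  refine ⟨ψ, hirr, hψN, fun g => ?_, fun t ht => (hF t).congr t (hgZ t) ht⟩
  intro k hk hk1
  rw [hagree (Z g) (F g) (hF g) (hFr g) (g ^ k) (pow_mem (hgZ g) k)]
  exact hFr g g (hgZ g) k hk hk1

end H8.BlockExt
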