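import Mathlib

/-!
Gauss: for a prime `q ≡ 3 (mod 4)` the cyclotomic polynomial is `U² + q V²` over `ℚ`.
-/

set_option autoImplicit false
set_option linter.style.haveILetI false

namespace H8.GaussPeriod

open Polynomial

theorem cyclotomic_sq_add_aux (q : ℕ) [Fact q.Prime] (hq : q % 4 = 3) (K : Type) [Field K]
    [CharZero K] [Algebra ℚ K] [IsCyclotomicExtension {q} ℚ K] :
    ∃ U V : ℚ[X], U ^ 2 + C (q : ℚ) * V ^ 2 = cyclotomic q ℚ := by
  classical
  haveI : NeZero q := ⟨(Fact.out : q.Prime).ne_zero⟩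
  haveI : NeZero (q : K) := NeZero.charZero
  haveI : IsGalois ℚ K := IsCyclotomicExtension.isGalois {q} ℚ K
  haveI : FiniteDimensional ℚ K := IsCyclotomicExtension.finiteDimensional {q} ℚ K
  set ζ : K := IsCyclotomicExtension.zeta q ℚ K with hζdef
  have hζ : IsPrimitiveRoot ζ q := IsCyclotomicExtension.zeta_spec q ℚ K
  let χ : MulChar (ZMod q) K := (quadraticChar (ZMod q)).ringHomComp (Int.castRingHom K)
  let ψ : AddChar (ZMod q) K := AddChar.zmodChar q hζ.pow_eq_one
  have hψ : ψ.IsPrimitive := AddChar.zmodChar_primitive_of_primitive_root q hζ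
  have hcharq : ringChar (ZMod q) ≠ 2 := by
    rw [ZMod.ringChar_zmod_n]; omega
  have hneg : quadraticChar (ZMod q) (-1) = -1 := by
    rw [quadraticChar_neg_one hcharq, ZMod.card, ZMod.χ₄_nat_three_mod_four hq]
  set δ : K := gaussSum χ ψ with hδ
  have hδ2 : δ ^ 2 = -(q : K) := by
    have hne : χ ≠ 1 := by
      intro h
      have h1 := congrArg (fun f : MulChar (ZMod q) K => f (-1)) h
      simp only [χ, MulChar.ringHomComp_apply, hneg] at h1
      rw [MulChar.one_apply isUnit_one.neg] at h1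
      norm_num at h1
    rw [hδ, gaussSum_sq hne ((quadraticChar_isQuadratic (ZMod q)).comp _) hψ,
      MulChar.ringHomComp_apply, hneg, ZMod.card]
    norm_num
  have hδ0 : δ ≠ 0 := fun h => by
    rw [h, zero_pow two_ne_zero] at hδ2
    exact NeZero.ne (q : K) (neg_eq_zero.mp hδ2.symm)
  let fac : ZMod q → K[X] := fun a => X - C (ζ ^ a.val)
  let sel : ℤ → Finset (ZMod q) := fun e => Finset.univ.filter fun a => quadraticChar (ZMod q) a = e
  let A : ℤ → K[X] := fun e => ∏ a ∈ sel e, fac a
  -- action of Galois automorphisms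
  have hgal : ∀ σ : K ≃ₐ[ℚ] K, ∃ b : ZMod q, b ≠ 0 ∧
      σ δ = (quadraticChar (ZMod q) b : K) * δ ∧
      (∀ e, (A e).map (σ : K →+* K) = A (quadraticChar (ZMod q) b * e)) := by
    intro σ
    let b : (ZMod q)ˣ := IsPrimitiveRoot.autToPow ℚ hζ σ
    have hb : ∀ a : ZMod q, σ (ζ ^ a.val) = ζ ^ ((b : ZMod q) * a).val := by
      intro a
      rw [map_pow, ← IsPrimitiveRoot.autToPow_spec ℚ hζ σ, ← pow_mul]
      rw [ZMod.val_mul, pow_eq_pow_mod (_ * a.val) hζ.pow_eq_one]
    have hsq : quadraticChar (ZMod q) (b : ZMod q) * quadraticChar (ZMod q) (b : ZMod q) = 1 := by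
      rw [← pow_two]; exact quadraticChar_sq_one b.ne_zero
    refine ⟨b, b.ne_zero, ?_, ?_⟩
    · rw [hδ]
      have h1 : σ (gaussSum χ ψ) = gaussSum χ (ψ.mulShift (b : ZMod q)) := by
        simp only [gaussSum, map_sum, map_mul]
        refine Finset.sum_congr rfl fun a _ => ?_
        congr 1
        · simp [χ, MulChar.ringHomComp_apply]
        · rw [AddChar.mulShift_apply]
          simp only [ψ, AddChar.zmodChar_apply]
          exact hb a
      have h2 := gaussSum_mulShift χ ψ b
      rw [h1, ← h2, ← mul_assoc, MulChar.ringHomComp_apply]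
      rw [Int.coe_castRingHom, ← Int.cast_mul, hsq, Int.cast_one, one_mul]
    · intro e
      simp only [A, Polynomial.map_prod]
      refine Finset.prod_bij' (fun a _ => (b : ZMod q) * a) (fun a _ => ((b⁻¹ : (ZMod q)ˣ) : ZMod q) * a)
        ?_ ?_ ?_ ?_ ?_
      · intro a ha
        simp only [sel, Finset.mem_filter, Finset.mem_univ, true_and] at ha ⊢
        rw [map_mul, ha]
      · intro a ha
        simp only [sel, Finset.mem_filter, Finset.mem_univ, true_and] at ha ⊢
        have h3 : quadraticChar (ZMod q) ((b⁻¹ : (ZMod q)ˣ) : ZMod q) =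
            quadraticChar (ZMod q) (b : ZMod q) := by
          have h4 : quadraticChar (ZMod q) ((b⁻¹ : (ZMod q)ˣ) : ZMod q) *
              quadraticChar (ZMod q) (b : ZMod q) = 1 := by rw [← map_mul, Units.inv_mul, map_one]
          calc _ = quadraticChar (ZMod q) ((b⁻¹ : (ZMod q)ˣ) : ZMod q) *
              (quadraticChar (ZMod q) (b : ZMod q) * quadraticChar (ZMod q) (b : ZMod q)) := by
                rw [hsq, mul_one]
            _ = _ := by rw [← mul_assoc, h4, one_mul]
        rw [map_mul, ha, h3, ← mul_assoc, hsq, one_mul]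
      · intro a _; rw [← mul_assoc, Units.inv_mul, one_mul]
      · intro a _; rw [← mul_assoc, Units.mul_inv, one_mul]
      · intro a _
        simp only [fac, Polynomial.map_sub, Polynomial.map_X, Polynomial.map_C]
        exact congrArg (fun z => X - C z) (hb a)
  -- the product
  have hprod : A 1 * A (-1) = cyclotomic q K := by
    have h1 : cyclotomic q K * (X - 1) = X ^ q - 1 := cyclotomic_prime_mul_X_sub_one K q
    have h2 : X ^ q - 1 = ∏ a : ZMod q, fac a := by
      rw [X_pow_sub_one_eq_prod (NeZero.pos q) hζ]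
      refine (Finset.prod_bij (fun a _ => ζ ^ (a : ZMod q).val) ?_ ?_ ?_ ?_).symm
      · intro a _
        rw [mem_nthRootsFinset (NeZero.pos q), ← pow_mul, mul_comm, pow_mul, hζ.pow_eq_one, one_pow]
      · intro a _ c _ hac
        exact ZMod.val_injective q (hζ.pow_inj (ZMod.val_lt a) (ZMod.val_lt c) hac)
      · intro z hz
        rw [mem_nthRootsFinset (NeZero.pos q)] at hz
        obtain ⟨i, hi, rfl⟩ := hζ.eq_pow_of_pow_eq_one hz
        exact ⟨(i : ZMod q), Finset.mem_univ _, by rw [ZMod.val_cast_of_lt hi]⟩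
      · intro a _; rfl
    have h3 : ∏ a : ZMod q, fac a = (X - 1) * (A 1 * A (-1)) := by
      rw [← Finset.mul_prod_erase _ _ (Finset.mem_univ (0 : ZMod q))]
      congr 1
      · simp [fac]
      · simp only [A]
        rw [← Finset.prod_union]
        · refine Finset.prod_congr ?_ fun _ _ => rfl
          ext a
          simp only [sel, Finset.mem_erase, Finset.mem_univ, and_true, Finset.mem_union,
            Finset.mem_filter, true_and]
          constructor
          · intro ha; exact quadraticChar_dichotomy ha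
          · rintro (h | h) rfl <;> simp at h
        · rw [Finset.disjoint_left]
          intro a ha ha'
          simp only [sel, Finset.mem_filter, Finset.mem_univ, true_and] at ha ha'
          omega
    rw [h2, h3, mul_comm] at h1
    exact (mul_left_cancel₀ (X_sub_C_ne_zero (1 : K)) (by simpa [mul_comm] using h1)).symm
  have hdesc : ∀ p : K[X], (∀ σ : K ≃ₐ[ℚ] K, p.map (σ : K →+* K) = p) →
      ∃ P : ℚ[X], P.map (algebraMap ℚ K) = p := by
    intro p hp
    rw [← Polynomial.mem_lifts, Polynomial.lifts_iff_coeff_lifts]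
    intro n
    refine (IsGalois.mem_range_algebraMap_iff_fixed _).mpr fun σ => ?_
    have := congrArg (fun r : K[X] => r.coeff n) (hp σ)
    simpa [Polynomial.coeff_map] using this
  obtain ⟨U, hU⟩ := hdesc (C (1 / 2 : K) * (A 1 + A (-1))) fun σ => by
    obtain ⟨b, hb0, hbδ, hA⟩ := hgal σ
    rw [Polynomial.map_mul, Polynomial.map_add, hA, hA, Polynomial.map_C]
    have h2 : (σ : K →+* K) (1 / 2) = 1 / 2 := by rw [map_div₀, map_one, map_ofNat]
    rcases quadraticChar_dichotomy hb0 with h | h <;> rw [h, h2]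
    · norm_num
    · norm_num [add_comm]
  obtain ⟨V, hV⟩ := hdesc (C (1 / (2 * δ)) * (A 1 - A (-1))) fun σ => by
    obtain ⟨b, hb0, hbδ, hA⟩ := hgal σ
    rw [Polynomial.map_mul, Polynomial.map_sub, hA, hA, Polynomial.map_C]
    have h2 : (σ : K →+* K) (1 / (2 * δ)) = 1 / (2 * σ δ) := by
      rw [map_div₀, map_one, map_mul, map_ofNat]
      rfl
    rcases quadraticChar_dichotomy hb0 with h | h <;> rw [h] at hbδ ⊢ <;> rw [h2, hbδ]
    · norm_num
    · rw [show (1 : K) / (2 * (((-1 : ℤ) : K) * δ)) = -(1 / (2 * δ)) by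
        push_cast; field_simp]
      norm_num
      ring
  refine ⟨U, V, Polynomial.map_injective _ (algebraMap ℚ K).injective ?_⟩
  rw [Polynomial.map_add, Polynomial.map_pow, Polynomial.map_mul, Polynomial.map_pow, hU, hV,
    Polynomial.map_C, map_natCast, map_cyclotomic, ← hprod]
  have hqc : (C ((q : K)) : K[X]) = -(C δ ^ 2) := by
    rw [← C_pow, hδ2, map_neg, neg_neg]
  rw [hqc]
  have h1 : (C (1 / 2 : K)) ^ 2 = C (1/4 : K) := by rw [← C_pow]; norm_num
  have h2 : (C δ) ^ 2 * (C (1 / (2 * δ))) ^ 2 = C (1/4 : K) := by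
    rw [← C_pow, ← C_pow, ← C_mul]; congr 1; field_simp; norm_num
  calc _ = (C (1 / 2 : K)) ^ 2 * (A 1 + A (-1)) ^ 2
        - ((C δ) ^ 2 * (C (1 / (2 * δ))) ^ 2) * (A 1 - A (-1)) ^ 2 := by ring
    _ = (C (1/4 : K) * C 4) * (A 1 * A (-1)) := by
        rw [h1, h2, map_ofNat]; ring
    _ = _ := by rw [← C_mul]; norm_num

theorem cyclotomic_sq_add (q : ℕ) [Fact q.Prime] (hq : q % 4 = 3) :
    ∃ U V : ℚ[X], U ^ 2 + C (q : ℚ) * V ^ 2 = cyclotomic q ℚ := by
  haveI : NeZero q := ⟨(Fact.out : q.Prime).ne_zero⟩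
  letI := CyclotomicField.algebra q ℚ
  exact cyclotomic_sq_add_aux q hq (CyclotomicField q ℚ)

end H8.GaussPeriod
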