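import Mathlib
import Cfsg.Agent.H8.GaussPeriod

/-!
Zero divisors forbidden in division rings: quaternion algebras over cyclotomic fields.
-/

set_option autoImplicit false
set_option linter.style.haveILetI false

namespace H8.DivSplit

theorem two_not_square : ¬ IsSquare (2 : ZMod 5) := by decide +kernel

theorem thue_five (q : ℕ) [hq' : Fact q.Prime] (h4 : q % 4 = 3) (h5 : q % 5 = 2) :
    ∃ (A B : ℤ) (n : ℕ), 1 ≤ n ∧ n ≤ 5 ∧ A ^ 2 + 5 * B ^ 2 = (n * q : ℕ) := by
  classical
  have hq : q.Prime := hq'.out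
  haveI : Fact (Nat.Prime 5) := ⟨by norm_num⟩
  have hsq : IsSquare (-5 : ZMod q) := by
    have hn : ¬ IsSquare (-1 : ZMod q) := by
      rw [ZMod.exists_sq_eq_neg_one_iff]; omega
    have h5n : ¬ IsSquare (5 : ZMod q) := by
      have h := (ZMod.exists_sq_eq_prime_iff_of_mod_four_eq_one (p := 5) (q := q) (by norm_num)
        (by omega))
      intro hc
      have h2 : IsSquare (q : ZMod 5) := h.mpr (by exact_mod_cast hc)
      have h3 : (q : ZMod 5) = 2 := by
        rw [← ZMod.natCast_mod, h5]; rfl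
      rw [h3] at h2
      exact two_not_square h2
    have h50 : (5 : ZMod q) ≠ 0 := fun h => h5n (h ▸ IsSquare.zero)
    have h10 : (-1 : ZMod q) ≠ 0 := neg_ne_zero.mpr one_ne_zero
    have e1 : quadraticChar (ZMod q) (-1) = -1 := quadraticChar_neg_one_iff_not_isSquare.mpr hn
    have e2 : quadraticChar (ZMod q) (5) = -1 := quadraticChar_neg_one_iff_not_isSquare.mpr h5n
    have e3 : quadraticChar (ZMod q) (-5) = 1 := by
      rw [show (-5 : ZMod q) = (-1) * 5 by ring, map_mul, e1, e2]; norm_num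
    exact (quadraticChar_one_iff_isSquare (by simpa using h50)).mp e3
  obtain ⟨r, hr⟩ := hsq
  set k := Nat.sqrt q with hk
  have hk1 : k * k < q := by
    refine lt_of_le_of_ne (Nat.sqrt_le q) fun h => ?_
    have h2 := hq
    rw [← h] at h2
    rcases Nat.prime_mul_iff.mp h2 with ⟨h3, h5'⟩ | ⟨h3, h5'⟩ <;>
      exact h3.one_lt.ne' h5'
  have hk2 : q < (k + 1) * (k + 1) := Nat.lt_succ_sqrt q
  let φ : Fin (k + 1) × Fin (k + 1) → ZMod q := fun z => (z.1 : ℕ) - r * (z.2 : ℕ)
  obtain ⟨z, w, hne, heq⟩ := Fintype.exists_ne_map_eq_of_card_lt φ (by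
    rw [Fintype.card_prod, Fintype.card_fin, ZMod.card]; exact hk2)
  set A : ℤ := (z.1 : ℕ) - (w.1 : ℕ) with hA
  set B : ℤ := (z.2 : ℕ) - (w.2 : ℕ) with hB
  have hAB : (A : ZMod q) = r * (B : ZMod q) := by
    simp only [φ] at heq
    rw [hA, hB]; push_cast
    linear_combination heq
  have hdvd : (q : ℤ) ∣ A ^ 2 + 5 * B ^ 2 := by
    rw [← ZMod.intCast_zmod_eq_zero_iff_dvd]
    push_cast
    rw [hAB]
    linear_combination -(B : ZMod q) ^ 2 * hr
  obtain ⟨m, hm⟩ := hdvd
  have hbd : ∀ a b : Fin (k + 1), (((a : ℕ) : ℤ) - (b : ℕ)) ^ 2 ≤ (k : ℤ) ^ 2 := fun a b => by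
    have := a.isLt
    have := b.isLt
    apply sq_le_sq'
    · omega
    · omega
  have hpos : 0 < A ^ 2 + 5 * B ^ 2 := by
    rcases eq_or_ne A 0 with hA0 | hA0
    · rcases eq_or_ne B 0 with hB0 | hB0
      · exfalso
        apply hne
        refine Prod.ext (Fin.ext ?_) (Fin.ext ?_)
        · omega
        · omega
      · positivity
    · positivity
  have hlt : A ^ 2 + 5 * B ^ 2 < 6 * q := by
    have := hbd z.1 w.1
    have := hbd z.2 w.2
    have : (k : ℤ) ^ 2 < q := by rw [pow_two]; exact_mod_cast hk1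
    rw [hA, hB]; linarith
  have hm1 : 0 < m := by
    by_contra h
    have : (q : ℤ) * m ≤ 0 := mul_nonpos_of_nonneg_of_nonpos (by positivity) (by linarith)
    linarith
  have hm2 : m < 6 := by
    by_contra h
    have : (q : ℤ) * 6 ≤ q * m := mul_le_mul_of_nonneg_left (by linarith) (by positivity)
    linarith
  refine ⟨A, B, m.toNat, by omega, by omega, ?_⟩
  rw [hm, Nat.cast_mul, Int.toNat_of_nonneg hm1.le, mul_comm]

/-- A multiple by a nonzero square of `q` is a sum of two squares over `ℤ[√5]`. -/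
theorem two_squares {R : Type*} [CommRing R] [IsDomain R] [CharZero R] (u : R) (hu : u * u = 5)
    (q : ℕ) [Fact q.Prime] (h4 : q % 4 = 3) (h5 : q % 5 = 2) :
    ∃ (M r s : R), M ≠ 0 ∧ (q : R) * M ^ 2 = r ^ 2 + s ^ 2 := by
  obtain ⟨A, B, n, hn1, hn5, h⟩ := thue_five q h4 h5
  have h' : (A : R) ^ 2 + 5 * (B : R) ^ 2 = (n : R) * q := by
    have := congrArg (fun z : ℤ => (z : R)) h
    push_cast at this
    exact this
  set a : R := (A : R) with ha
  set b : R := u * B with hb
  have hb2 : a ^ 2 + b ^ 2 = (n : R) * q := by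
    rw [← h', hb]; linear_combination (B : R) ^ 2 * hu
  interval_cases n
  · exact ⟨1, a, b, one_ne_zero, by push_cast at hb2; linear_combination -hb2⟩
  · exact ⟨2, a + b, a - b, two_ne_zero, by push_cast at hb2; linear_combination (-2 : R) * hb2⟩
  · refine ⟨6, (1 - u) * a - (1 + u) * b, (1 - u) * b + (1 + u) * a, by norm_num, ?_⟩
    push_cast at hb2
    linear_combination (-12 : R) * hb2 - 2 * (a ^ 2 + b ^ 2) * hu
  · exact ⟨2, a, b, two_ne_zero, by push_cast at hb2; linear_combination -hb2⟩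
  · refine ⟨5, 2 * a + b, a - 2 * b, by norm_num, ?_⟩
    push_cast at hb2
    linear_combination (-5 : R) * hb2

open Polynomial in
/-- The quaternion norm form is isotropic over `ℚ(√5, ζ_m)`. -/
theorem neg_sq_two_squares {R : Type*} [CommRing R] [IsDomain R] [Algebra ℚ R]
    {t x : R} {m : ℕ} (ht : t ^ 2 + t = 1) (hm : Nat.Coprime m 10) (hx : x ^ m = 1) (hx1 : x ≠ 1) :
    ∃ N P Q : R, N ≠ 0 ∧ -N ^ 2 = P ^ 2 + Q ^ 2 := by
  haveI : CharZero R := charZero_of_injective_algebraMap (algebraMap ℚ R).injective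
  have hm0 : m ≠ 0 := by rintro rfl; simp at hm
  have hmodd : m % 2 = 1 := by
    rcases Nat.mod_two_eq_zero_or_one m with h | h
    · exfalso
      have : 2 ∣ Nat.gcd m 10 := Nat.dvd_gcd (Nat.dvd_of_mod_eq_zero h) (by norm_num)
      rw [hm] at this; norm_num at this
    · exact h
  -- choice of the prime
  have hm20 : Nat.Coprime 20 m := by
    have h2 : Nat.Coprime m 2 := Nat.Coprime.coprime_dvd_right (by norm_num) hm
    have h5 : Nat.Coprime m 5 := Nat.Coprime.coprime_dvd_right (by norm_num) hm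
    exact (show (20 : ℕ) = 2 * 2 * 5 from rfl) ▸ ((h2.mul_right h2).mul_right h5).symm
  obtain ⟨a, ha1, ha2⟩ := Nat.chineseRemainder hm20 7 (m - 1)
  have hac : a.Coprime (20 * m) := by
    refine Nat.Coprime.mul_right ?_ ?_
    · rw [Nat.Coprime, Nat.ModEq.gcd_eq ha1]; rfl
    · rw [Nat.Coprime, Nat.ModEq.gcd_eq ha2]
      exact Nat.coprime_self_sub_left (by omega) |>.mpr (Nat.coprime_one_left m)
  obtain ⟨q, hq0, hq, hqa⟩ := Nat.forall_exists_prime_gt_and_modEq 0 (by positivity) hac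
  haveI := Fact.mk hq
  have hq20 : q ≡ 7 [MOD 20] := (hqa.of_mul_right m).trans ha1
  have hqm : q ≡ m - 1 [MOD m] := (hqa.of_mul_left 20).trans ha2
  have h20 : q % 20 = 7 := hq20
  have h4 : q % 4 = 3 := by omega
  have h5 : q % 5 = 2 := by omega
  have hxq : x ^ q = x ^ (m - 1) := by
    rw [pow_eq_pow_mod q hx, pow_eq_pow_mod (m - 1) hx, hqm]
  -- Gauss
  obtain ⟨U, V, hUV⟩ := H8.GaussPeriod.cyclotomic_sq_add q h4
  have hev : (aeval x U) ^ 2 + (q : R) * (aeval x V) ^ 2 = -(x ^ (m - 1)) := by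
    have h1 := congrArg (fun p : ℚ[X] => aeval x p) hUV
    simp only [map_add, map_mul, map_pow, map_natCast] at h1
    rw [h1]
    have h2 := congrArg (fun p : ℚ[X] => aeval x p) (cyclotomic_prime_mul_X_sub_one ℚ q)
    simp only [map_mul, map_sub, map_pow, aeval_X, map_one] at h2
    refine mul_right_cancel₀ (sub_ne_zero.mpr hx1) (h2.trans ?_)
    have h3 : x ^ (m - 1) * x = 1 := by rw [← pow_succ, show m - 1 + 1 = m by omega, hx]
    rw [hxq]; linear_combination h3
  obtain ⟨y, hy⟩ : ∃ y : R, y ^ 2 = x := ⟨x ^ ((m + 1) / 2), by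
    rw [← pow_mul, show (m + 1) / 2 * 2 = m + 1 by omega, pow_succ, hx, one_mul]⟩
  have hneg : (y * aeval x U) ^ 2 + (q : R) * (y * aeval x V) ^ 2 = -1 := by
    have h3 : x ^ (m - 1) * x = 1 := by rw [← pow_succ, show m - 1 + 1 = m by omega, hx]
    linear_combination x * hev + ((aeval x U) ^ 2 + (q : R) * (aeval x V) ^ 2) * hy - h3
  obtain ⟨M, r, s, hM, hqM⟩ := two_squares (2 * t + 1) (by linear_combination (4 : R) * ht) q h4 h5
  set u := y * aeval x U
  set v := y * aeval x V
  by_cases hN : M ^ 2 + (M * u) ^ 2 = 0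
  · exact ⟨M, M * u, 0, hM, by linear_combination -hN⟩
  · refine ⟨M ^ 2 + (M * u) ^ 2, r * v * M - s * v * (M * u), r * v * (M * u) + s * v * M, hN, ?_⟩
    linear_combination (-(M ^ 2 + (M * u) ^ 2)) * M ^ 2 * hneg
      + (M ^ 2 + (M * u) ^ 2) * v ^ 2 * hqM

variable {D : Type*} [DivisionRing D] [CharZero D]

theorem no_dicyclic_times_cyclic {g c x : D} {m : ℕ} (hg5 : g ^ 5 = 1) (hg1 : g ≠ 1)
    (hc2 : c * c = -1) (hcg : c * g = g ^ 4 * c) (hm : Nat.Coprime m 10) (hxm : x ^ m = 1)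
    (hx1 : x ≠ 1) (hxg : Commute x g) (hxc : Commute x c) : False := by
  have hsum : g ^ 4 + g ^ 3 + g ^ 2 + g + 1 = 0 := by
    refine mul_left_cancel₀ (sub_ne_zero.mpr hg1) ?_
    rw [mul_zero]
    have e : (g - 1) * (g ^ 4 + g ^ 3 + g ^ 2 + g + 1) = g ^ 5 - 1 := by noncomm_ring
    rw [e, hg5, sub_self]
  have hg45 : ∀ n, g ^ (n + 5) = g ^ n := fun n => by rw [pow_add, hg5, mul_one]
  set t : D := g + g ^ 4 with htdef
  have ht : t ^ 2 + t = 1 := by
    have h : t ^ 2 + t = g ^ 5 + g ^ 5 + (g ^ 2 + g ^ 8) + (g + g ^ 4) := by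
      rw [htdef]; noncomm_ring
    rw [h, hg5, hg45 3]
    calc _ = (g ^ 4 + g ^ 3 + g ^ 2 + g + 1) + 1 := by abel
      _ = _ := by rw [hsum, zero_add]
  have hct : Commute c t := by
    change c * (g + g ^ 4) = (g + g ^ 4) * c
    have h4 : c * g ^ 4 = (g ^ 4) ^ 4 * c := (SemiconjBy.pow_right (show SemiconjBy c g (g ^ 4) from hcg) 4).eq
    rw [mul_add, hcg, h4, ← pow_mul, show 4 * 4 = 11 + 5 from rfl, hg45, hg45 6, hg45 1, pow_one,
      add_mul, add_comm]
  have hgt : Commute g t := (Commute.refl g).add_right ((Commute.refl g).pow_right 4)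
  have hxt : Commute x t := hxg.add_right (hxg.pow_right 4)
  have hcomm : ∀ a ∈ ({t, x} : Set D), ∀ b ∈ ({t, x} : Set D), a * b = b * a := by
    rintro a (rfl | rfl) b (rfl | rfl)
    · rfl
    · exact hxt.eq.symm
    · exact hxt.eq
    · rfl
  let S := Algebra.adjoin ℚ ({t, x} : Set D)
  letI : CommRing S :=
    { (inferInstance : Ring S) with
      mul_comm := fun a b => Subtype.ext (Algebra.commute_of_mem_adjoin_of_forall_mem_commute a.2
        (fun z hz => (Algebra.commute_of_mem_adjoin_of_forall_mem_commute b.2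
          (fun w hw => hcomm z hz w hw)).symm)).symm }
  haveI : IsDomain S := NoZeroDivisors.to_isDomain S
  let t' : S := ⟨t, Algebra.subset_adjoin (Set.mem_insert _ _)⟩
  let x' : S := ⟨x, Algebra.subset_adjoin (Set.mem_insert_of_mem _ rfl)⟩
  obtain ⟨N, P, Q, hN, hNPQ⟩ := neg_sq_two_squares (t := t') (x := x') (m := m)
    (Subtype.ext ht) hm (Subtype.ext hxm) (fun h => hx1 (congrArg Subtype.val h))
  have hcen : ∀ w : D, Commute w t → Commute w x → ∀ a : S, Commute w a := fun w h1 h2 a =>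
    Algebra.commute_of_mem_adjoin_of_forall_mem_commute a.2 (by
      rintro z (rfl | rfl)
      · exact h1
      · exact h2)
  set j : D := g - g ^ 4 with hjdef
  have hjt : Commute j t := hgt.sub_left (hgt.pow_left 4)
  have hjx : Commute j x := (hxg.sub_right (hxg.pow_right 4)).symm
  have hjc : j * c = -(c * j) := by
    have h4 : c * g ^ 4 = (g ^ 4) ^ 4 * c := (SemiconjBy.pow_right (show SemiconjBy c g (g ^ 4) from hcg) 4).eq
    rw [hjdef, mul_sub, hcg, h4, ← pow_mul, show 4 * 4 = 11 + 5 from rfl, hg45, hg45 6, hg45 1, pow_one]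
    noncomm_ring
  set w : S := 1 + t' with hw
  have hj2 : j * j = ((-(w ^ 2 + 1) : S) : D) := by
    have h1 : ((-(w ^ 2 + 1) : S) : D) = -((1 + t) ^ 2 + 1) := rfl
    rw [h1]
    have h2 : (1 + t) ^ 2 + 1 = (t ^ 2 + t) + t + (1 + 1) := by noncomm_ring
    have h3 : j * j = g ^ 2 + g ^ 8 - (g ^ 5 + g ^ 5) := by rw [hjdef]; noncomm_ring
    rw [h2, ht, h3, hg5, hg45 3, htdef, eq_neg_iff_add_eq_zero]
    calc _ = (g ^ 4 + g ^ 3 + g ^ 2 + g + 1) := by abel
      _ = 0 := hsum
  -- the isotropic vector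
  have key : ∃ p r : S, (-(w ^ 2 + 1)) * N ^ 2 = p ^ 2 + r ^ 2 :=
    ⟨w * P - Q, w * Q + P, by linear_combination (w ^ 2 + 1) * hNPQ⟩
  obtain ⟨p, r, hpr⟩ := key
  have cj : ∀ a : S, Commute j a := hcen j hjt hjx
  have cc : ∀ a : S, Commute c a := hcen c hct hxc.symm
  have hNR : Commute (N : D) (r : D) := congrArg Subtype.val (mul_comm N r)
  set e : D := (N : D) * j + (r : D) * c with he
  have he2 : e * e = (p : D) * p := by
    have e1 : ((N : D) * j) * ((N : D) * j) = ((N * N * -(w ^ 2 + 1) : S) : D) := by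
      rw [Subalgebra.coe_mul, Subalgebra.coe_mul, ← hj2, mul_assoc, ← mul_assoc j, (cj N).eq]
      noncomm_ring
    have e2 : ((N : D) * j) * ((r : D) * c) + ((r : D) * c) * ((N : D) * j) = 0 := by
      rw [mul_assoc, ← mul_assoc j, (cj r).eq, mul_assoc (r : D) c, ← mul_assoc c, (cc N).eq]
      simp only [← mul_assoc]
      rw [hNR.eq, mul_assoc _ j c, mul_assoc _ c j, hjc, mul_neg, neg_add_cancel]
    have e3 : ((r : D) * c) * ((r : D) * c) = ((-(r * r) : S) : D) := by
      rw [Subalgebra.coe_neg, Subalgebra.coe_mul, mul_assoc, ← mul_assoc c, (cc r).eq, mul_assoc,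
        hc2, mul_neg, mul_one, mul_neg]
    calc e * e = ((N : D) * j) * ((N : D) * j) + (((N : D) * j) * ((r : D) * c)
          + ((r : D) * c) * ((N : D) * j)) + ((r : D) * c) * ((r : D) * c) := by
          rw [he]; noncomm_ring
      _ = ((N * N * -(w ^ 2 + 1) + -(r * r) : S) : D) := by
          rw [e1, e2, e3, add_zero, Subalgebra.coe_add]
      _ = ((p * p : S) : D) := congrArg Subtype.val (by linear_combination hpr)
      _ = _ := rfl
  have hep : Commute e (p : D) := by
    rw [he]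
    exact ((show Commute (N : D) (p : D) from congrArg Subtype.val (mul_comm N p)).mul_left (cj p)).add_left
      ((show Commute (r : D) (p : D) from congrArg Subtype.val (mul_comm r p)).mul_left (cc p))
  have hec : Commute e c := by
    rcases hep.mul_self_eq_mul_self_iff.mp he2 with h | h <;> rw [h]
    · exact (cc p).symm
    · exact (cc p).symm.neg_left
  have h2 : (2 : D) * ((N : D) * (j * c)) = 0 := by
    have h1 := hec.eq
    rw [he, add_mul, mul_add, mul_assoc (r : D), ← mul_assoc c (r : D), (cc r).eq, mul_assoc (r : D),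
      ← mul_assoc c (N : D), (cc N).eq, mul_assoc, mul_assoc (N : D) c, add_left_inj] at h1
    have h3 : c * j = -(j * c) := by rw [hjc, neg_neg]
    rw [h3, mul_neg, eq_neg_iff_add_eq_zero] at h1
    rw [two_mul]; exact h1
  have hj0 : j ≠ 0 := by
    intro h
    apply hg1
    rw [hjdef, sub_eq_zero] at h
    have : g ^ 2 = 1 := by
      calc g ^ 2 = g ^ 4 * g ^ 4 := by rw [← h, pow_two]
        _ = g ^ 3 := by rw [← pow_add, show 4 + 4 = 3 + 5 from rfl, hg45]
        _ = g⁻¹ * g ^ 4 := by rw [pow_succ' g 3, inv_mul_cancel_left₀ (fun e => by simp [e] at hg5)]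
        _ = 1 := by rw [← h, inv_mul_cancel₀ (fun e => by simp [e] at hg5)]
    calc g = g * (g ^ 2) ^ 2 := by rw [this, one_pow, mul_one]
      _ = 1 := by rw [← pow_mul, ← pow_succ', hg5]
  have hc0 : c ≠ 0 := fun h => by simp [h] at hc2
  rcases mul_eq_zero.mp h2 with h | h
  · exact two_ne_zero h
  · rcases mul_eq_zero.mp h with h | h
    · exact hN (Subtype.ext h)
    · exact mul_ne_zero hj0 hc0 h

theorem no_order_four_outer {g h : D} (hg5 : g ^ 5 = 1) (hg1 : g ≠ 1) (hhg : h * g = g ^ 2 * h)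
    (hd2 : (h * h) * (h * h) = -1) : False := by
  have hsum : g ^ 4 + g ^ 3 + g ^ 2 + g + 1 = 0 := by
    refine mul_left_cancel₀ (sub_ne_zero.mpr hg1) ?_
    rw [mul_zero]
    have e : (g - 1) * (g ^ 4 + g ^ 3 + g ^ 2 + g + 1) = g ^ 5 - 1 := by noncomm_ring
    rw [e, hg5, sub_self]
  have hg45 : ∀ n, g ^ (n + 5) = g ^ n := fun n => by rw [pow_add, hg5, mul_one]
  have hpow : ∀ n, h * g ^ n = g ^ (2 * n) * h := fun n => by
    rw [pow_mul]; exact (SemiconjBy.pow_right (show SemiconjBy h g (g ^ 2) from hhg) n).eq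
  have hd : ∀ n, (h * h) * g ^ n = g ^ (4 * n) * (h * h) := fun n => by
    rw [mul_assoc, hpow, ← mul_assoc, hpow, mul_assoc, show 2 * (2 * n) = 4 * n by ring]
  obtain ⟨d, hddef⟩ : ∃ d, d = h * h := ⟨_, rfl⟩
  rw [← hddef] at hd2 hd
  have hdh : d * h = h * d := by rw [hddef, mul_assoc]
  set s : D := g + g ^ 4 - g ^ 2 - g ^ 3 with hs
  set j : D := g - g ^ 4 with hj
  set j' : D := g ^ 2 - g ^ 3 with hj'
  have hd1 : d * g = g ^ 4 * d := by have := hd 1; rwa [pow_one] at this
  have hd2' : d * g ^ 2 = g ^ 3 * d := by rw [hd, show 4 * 2 = 3 + 5 from rfl, hg45]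
  have hd3 : d * g ^ 3 = g ^ 2 * d := by
    rw [hd, show 4 * 3 = 7 + 5 from rfl, hg45, show 7 = 2 + 5 from rfl, hg45]
  have hd4 : d * g ^ 4 = g * d := by
    rw [hd, show 4 * 4 = 11 + 5 from rfl, hg45, show 11 = 6 + 5 from rfl, hg45, hg45 1, pow_one]
  have hh2 : h * g ^ 2 = g ^ 4 * h := hpow 2
  have hh3 : h * g ^ 3 = g * h := by rw [hpow, hg45 1, pow_one]
  have hh4 : h * g ^ 4 = g ^ 3 * h := by rw [hpow, hg45 3]
  have hds : d * s = s * d := by rw [hs]; simp only [mul_add, mul_sub, add_mul, sub_mul, hd1, hd2', hd3, hd4]; abel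
  have hhs : h * s = -(s * h) := by
    rw [hs]; simp only [mul_add, mul_sub, add_mul, sub_mul, hhg, hh2, hh3, hh4]; abel
  have hdj : d * j = -(j * d) := by rw [hj]; simp only [mul_sub, sub_mul, hd1, hd4]; abel
  have hdj' : d * j' = -(j' * d) := by rw [hj']; simp only [mul_sub, sub_mul, hd2', hd3]; abel
  have hhj : h * j = j' * h := by rw [hj, hj']; simp only [mul_sub, sub_mul, hhg, hh4]
  have hhj' : h * j' = -(j * h) := by rw [hj, hj']; simp only [mul_sub, sub_mul, hh2, hh3]; abel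
  have hgs : Commute g s := ((((Commute.refl g).add_right ((Commute.refl g).pow_right 4)).sub_right
    ((Commute.refl g).pow_right 2)).sub_right ((Commute.refl g).pow_right 3))
  have hgj : Commute g j := (Commute.refl g).sub_right ((Commute.refl g).pow_right 4)
  have hjj' : j * j' = j' * j := (hgj.symm.pow_right 2).sub_right (hgj.symm.pow_right 3) |>.eq
  have hjs : j * s = s * j := (hgs.sub_left (hgs.pow_left 4)).eq
  have hj's : j' * s = s * j' := ((hgs.pow_left 2).sub_left (hgs.pow_left 3)).eq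
  have h6 := hg45 1
  have h7 := hg45 2
  have h8 := hg45 3
  rw [pow_one] at h6
  have hs2 : s * s = 5 := by
    have e : s * s = g ^ 2 + g ^ 4 + g ^ 6 + g ^ 8 + (g ^ 5 + g ^ 5) * 2
      - 2 * g ^ 3 - 2 * g ^ 4 - 2 * g ^ 6 - 2 * g ^ 7 := by
      rw [hs]; noncomm_ring
    rw [e, h6, h7, h8, hg5, show (5 : D) = 1 + 1 + 1 + 1 + 1 by norm_num]
    calc _ = (1 + 1 + 1 + 1 + 1 : D) - (g ^ 4 + g ^ 3 + g ^ 2 + g + 1) := by noncomm_ring
      _ = _ := by rw [hsum, sub_zero]
  have hjsq : j * j + j' * j' = -5 := by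
    have e : j * j + j' * j' = g ^ 2 + g ^ 8 + g ^ 4 + g ^ 6 - (g ^ 5 + g ^ 5) * 2 := by
      rw [hj, hj']; noncomm_ring
    rw [e, h6, h8, hg5, show (5 : D) = 1 + 1 + 1 + 1 + 1 by norm_num]
    calc _ = (g ^ 4 + g ^ 3 + g ^ 2 + g + 1) + -(1 + 1 + 1 + 1 + 1 : D) := by noncomm_ring
      _ = _ := by rw [hsum, zero_add]
  have hdd : ∀ a : D, a * d * d = -a := fun a => by rw [mul_assoc, hd2, mul_neg, mul_one]
  set e : D := h - h * d with hedef
  have he2 : e * e = 2 := by
    calc e * e = h * h - h * h * d - h * (d * h) + h * (d * h) * d := by rw [hedef]; noncomm_ring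
      _ = d - d * d - d * d + d * d * d := by rw [hdh, ← mul_assoc, ← hddef]
      _ = 1 + 1 := by rw [hdd d, hd2]; noncomm_ring
      _ = 2 := one_add_one_eq_two
  have hes : e * s = -(s * e) := by
    rw [hedef, sub_mul, mul_assoc h d s, hds, ← mul_assoc h s d, hhs]; noncomm_ring
  set k : D := j + j' * d with hkdef
  have hek : e * k = k * e := by
    calc e * k = h * j + h * j' * d - h * (d * j) - h * (d * j') * d := by
          rw [hedef, hkdef]; noncomm_ring
      _ = h * j + h * j' * d + h * j * d + h * j' * d * d := by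
          rw [hdj, hdj']; noncomm_ring
      _ = j' * h + -(j * h) * d + j' * h * d + j * h := by
          rw [hdd, hhj, hhj', neg_neg]
      _ = j * h - j * (h * d) + j' * (d * h) - j' * (d * h) * d := by
          rw [hdh, ← mul_assoc j' h d, hdd (j' * h)]; noncomm_ring
      _ = k * e := by rw [hedef, hkdef]; noncomm_ring
  have hk2 : k * k = -5 := by
    calc k * k = j * j + j * j' * d + j' * (d * j) + j' * (d * j') * d := by
          rw [hkdef]; noncomm_ring
      _ = j * j + j * j' * d + -(j' * j * d) + -(j' * j' * d * d) := by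
          rw [hdj, hdj']; noncomm_ring
      _ = j * j + j' * j' := by rw [hdd, hjj']; noncomm_ring
      _ = -5 := hjsq
  have hdk : d * k = -(k * d) := by
    rw [hkdef, mul_add, ← mul_assoc, hdj, hdj']; noncomm_ring
  have hsk : s * k = k * s := by
    rw [hkdef, mul_add, add_mul, hjs, mul_assoc j' d s, hds, ← mul_assoc j', hj's, mul_assoc]
  have hde : d * e = e * d := by
    rw [hedef, mul_sub, sub_mul, ← mul_assoc, hdh]
  set P : D := s + s * e with hP
  have hP2 : P * P = -5 := by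
    calc P * P = s * s + s * s * e + s * (e * s) + s * (e * s) * e := by rw [hP]; noncomm_ring
      _ = s * s + -(s * s * (e * e)) := by rw [hes]; noncomm_ring
      _ = -5 := by rw [hs2, he2]; norm_num
  have hPk : Commute P k := by
    rw [hP]
    exact (show Commute s k from hsk).add_left ((show Commute s k from hsk).mul_left hek)
  have hdP : Commute d P := by
    rw [hP]
    exact (show Commute d s from hds).add_right ((show Commute d s from hds).mul_right hde)
  have hdk' : d * k = k * d := by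
    rcases hPk.mul_self_eq_mul_self_iff.mp (hP2.trans hk2.symm) with h1 | h1
    · rw [← h1]; exact hdP.eq
    · rw [show k = -P by rw [h1, neg_neg]]; exact hdP.neg_right.eq
  rw [hdk', eq_neg_iff_add_eq_zero, ← two_mul] at hdk
  rcases mul_eq_zero.mp hdk with h1 | h1
  · exact two_ne_zero h1
  · rcases mul_eq_zero.mp h1 with h1 | h1
    · rw [h1, mul_zero] at hk2; norm_num at hk2
    · rw [h1, mul_zero] at hd2; norm_num at hd2

end H8.DivSplit
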