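import Mathlib.GroupTheory.FreeGroup.Reduce
import Mathlib.GroupTheory.FreeGroup.IsFreeGroup
import Mathlib.GroupTheory.SemidirectProduct
import Mathlib.Algebra.Group.Subgroup.Finite
import Mathlib.Tactic.Group

/-!
Paths in a graph written as reduced words in the free group on its edges, and the fixed point
lemma for finite subgroups acting on such paths.
-/

namespace H8.EdgePaths

variable {E V : Type*}

/-- source of a signed edge -/
def st (s t : E → V) : E × Bool → V
  | (e, true) => s e
  | (e, false) => t e

/-- target of a signed edge -/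
def en (s t : E → V) : E × Bool → V
  | (e, true) => t e
  | (e, false) => s e

theorem st_not (s t : E → V) (e : E) (b : Bool) : st s t (e, !b) = en s t (e, b) := by
  cases b <;> rfl

theorem en_not (s t : E → V) (e : E) (b : Bool) : en s t (e, !b) = st s t (e, b) := by
  cases b <;> rfl

/-- `L` is a walk from `v` to `w`. -/
def Path (s t : E → V) : V → List (E × Bool) → V → Prop
  | v, [], w => v = w
  | v, l :: L, w => st s t l = v ∧ Path s t (en s t l) L w

variable {s t : E → V}

theorem path_append : ∀ {L L' : List (E × Bool)} {v w : V},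
    Path s t v (L ++ L') w ↔ ∃ x, Path s t v L x ∧ Path s t x L' w
  | [], L', v, w => by simp [Path]
  | l :: L, L', v, w => by
    simp only [List.cons_append, Path, path_append (L := L)]
    constructor
    · rintro ⟨h, x, h1, h2⟩; exact ⟨x, ⟨h, h1⟩, h2⟩
    · rintro ⟨x, ⟨h, h1⟩, h2⟩; exact ⟨h, x, h1, h2⟩

theorem path_end_unique : ∀ {L : List (E × Bool)} {v w w' : V},
    Path s t v L w → Path s t v L w' → w = w'
  | [], _, _, _, h, h' => h.symm.trans h'
  | _ :: L, _, _, _, h, h' => path_end_unique (L := L) h.2 h'.2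

theorem path_rev : ∀ {L : List (E × Bool)} {v w : V},
    Path s t v L w → Path s t w (FreeGroup.invRev L) v
  | [], _, _, h => by simpa [Path, FreeGroup.invRev] using h.symm
  | (e, b) :: L, v, w, h => by
    have h2 := path_rev (L := L) h.2
    have : FreeGroup.invRev ((e, b) :: L) = FreeGroup.invRev L ++ [(e, !b)] := by
      simp [FreeGroup.invRev]
    rw [this, path_append]
    refine ⟨_, h2, ?_, ?_⟩
    · exact st_not s t e b
    · show en s t (e, !b) = v
      rw [en_not]; exact h.1

theorem path_step {L L' : List (E × Bool)} {v w : V} (hL : FreeGroup.Red.Step L L')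
    (h : Path s t v L w) : Path s t v L' w := by
  cases hL with
  | not =>
    rename_i L₁ L₂ e b
    rw [path_append] at h
    obtain ⟨x, h1, h2, h3, h4⟩ := h
    rw [path_append]
    refine ⟨x, h1, ?_⟩
    rw [en_not] at h4
    rw [← h2]; exact h4

theorem path_red {L L' : List (E × Bool)} {v w : V} (hL : FreeGroup.Red L L')
    (h : Path s t v L w) : Path s t v L' w := by
  induction hL with
  | refl => exact h
  | tail _ h2 ih => exact path_step h2 ih

variable [DecidableEq E]

/-- the reduced word of `u` is a walk from `v` to `w` -/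
def IsWalk (s t : E → V) (u : FreeGroup E) (v w : V) : Prop := Path s t v u.toWord w

theorem isWalk_mk {L : List (E × Bool)} {v w : V} (h : Path s t v L w) :
    IsWalk s t (FreeGroup.mk L) v w := by
  unfold IsWalk
  rw [FreeGroup.toWord_mk]
  exact path_red FreeGroup.reduce.red h

theorem isWalk_one (v : V) : IsWalk s t (1 : FreeGroup E) v v := by
  unfold IsWalk
  simp [Path]

theorem isWalk_mul {u u' : FreeGroup E} {v w x : V} (h : IsWalk s t u v w)
    (h' : IsWalk s t u' w x) : IsWalk s t (u * u') v x := by
  unfold IsWalk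
  rw [FreeGroup.toWord_mul]
  exact path_red FreeGroup.reduce.red (path_append.2 ⟨w, h, h'⟩)

theorem isWalk_inv {u : FreeGroup E} {v w : V} (h : IsWalk s t u v w) :
    IsWalk s t u⁻¹ w v := by
  unfold IsWalk
  rw [FreeGroup.toWord_inv]
  exact path_rev h

/-! ### renaming edges -/

theorem toWord_congr (f : E ≃ E) (u : FreeGroup E) :
    (FreeGroup.freeGroupCongr f u).toWord = u.toWord.map (fun l => (f l.1, l.2)) := by
  conv_lhs => rw [← FreeGroup.mk_toWord (x := u)]
  have h : FreeGroup.freeGroupCongr f (FreeGroup.mk u.toWord)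
      = FreeGroup.mk (u.toWord.map (fun l => (f l.1, l.2))) := rfl
  rw [h, FreeGroup.toWord_mk]
  apply FreeGroup.IsReduced.reduce_eq
  unfold FreeGroup.IsReduced
  rw [List.isChain_map]
  refine List.IsChain.imp ?_ (FreeGroup.isReduced_toWord (x := u))
  intro a b hab h
  exact hab (f.injective h)

theorem norm_congr (f : E ≃ E) (u : FreeGroup E) :
    (FreeGroup.freeGroupCongr f u).norm = u.norm := by
  unfold FreeGroup.norm
  rw [toWord_congr, List.length_map]

theorem path_map {f : E → E} {g : V → V} (hs : ∀ e, s (f e) = g (s e))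
    (ht : ∀ e, t (f e) = g (t e)) : ∀ {L : List (E × Bool)} {v w : V},
    Path s t v L w → Path s t (g v) (L.map (fun l => (f l.1, l.2))) (g w)
  | [], _, _, h => by simpa [Path] using congrArg g h
  | (e, b) :: L, v, w, h => by
    have h2 := path_map hs ht (L := L) h.2
    have h1 := h.1
    cases b
    · refine ⟨?_, ?_⟩
      · show t (f e) = g v; rw [ht, show t e = v from h1]
      · have he : en s t (f e, false) = g (en s t (e, false)) := hs e
        rw [← he] at h2
        exact h2
    · refine ⟨?_, ?_⟩
      · show s (f e) = g v; rw [hs, show s e = v from h1]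
      · have he : en s t (f e, true) = g (en s t (e, true)) := ht e
        rw [← he] at h2
        exact h2

/-- A point adjacent to `1` on the way to `y` is strictly closer to any `x` than the farther of `1`, `y`. -/
theorem norm_mid {y x : FreeGroup E} {l : E × Bool} {L : List (E × Bool)}
    (hy : y.toWord = l :: L) (hL : L ≠ []) :
    ((FreeGroup.mk [l])⁻¹ * x).norm < max x.norm (y⁻¹ * x).norm := by
  by_cases hx : x.toWord.head? = some l
  · obtain ⟨L', hL'⟩ : ∃ L', x.toWord = l :: L' := by
      cases hxw : x.toWord with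
      | nil => simp [hxw] at hx
      | cons a L' => simp [hxw] at hx; exact ⟨L', by rw [hx]⟩
    have h1 : (FreeGroup.mk [l])⁻¹ * x = FreeGroup.mk L' := by
      conv_lhs => rw [← FreeGroup.mk_toWord (x := x), hL']
      rw [show l :: L' = [l] ++ L' from rfl, ← FreeGroup.mul_mk, inv_mul_cancel_left]
    refine lt_max_of_lt_left ?_
    rw [h1]
    refine lt_of_le_of_lt FreeGroup.norm_mk_le ?_
    simp [FreeGroup.norm, hL']
  · have hred : FreeGroup.IsReduced (FreeGroup.invRev y.toWord ++ x.toWord) := by
      unfold FreeGroup.IsReduced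
      rw [List.isChain_append]
      refine ⟨?_, FreeGroup.isReduced_toWord, ?_⟩
      · have h := FreeGroup.isReduced_toWord (x := y⁻¹)
        rw [FreeGroup.toWord_inv] at h
        exact h
      · intro a ha b hb hab
        rw [hy] at ha
        simp [FreeGroup.invRev] at ha
        subst ha
        by_contra hne
        apply hx
        rw [hb]
        congr 1
        obtain ⟨b1, b2⟩ := b
        obtain ⟨l1, l2⟩ := l
        simp at hab hne ⊢
        refine ⟨hab.symm, ?_⟩
        cases b2 <;> cases l2 <;> simp at hne ⊢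
    have h2 : (y⁻¹ * x).norm = y.norm + x.norm := by
      unfold FreeGroup.norm
      rw [FreeGroup.toWord_mul, FreeGroup.toWord_inv, hred.reduce_eq]
      simp [FreeGroup.invRev_length]
    refine lt_max_of_lt_right ?_
    rw [h2]
    refine lt_of_le_of_lt (FreeGroup.norm_mul_le _ _) ?_
    rw [FreeGroup.norm_inv_eq]
    have h3 : (FreeGroup.mk [l]).norm ≤ 1 := FreeGroup.norm_mk_le
    have h4 : 2 ≤ y.norm := by
      rcases L with _ | ⟨a, L⟩
      · exact absurd rfl hL
      · simp [FreeGroup.norm, hy]
    omega

/-! ### the groupoid-type group and its fixed points -/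

section Act

variable {K : Type*} [Group K] (σ : K →* Equiv.Perm E) (τ : K →* Equiv.Perm V)

/-- the induced action of `K` on the free group on `E` -/
def freeAct : K →* MulAut (FreeGroup E) where
  toFun k := FreeGroup.freeGroupCongr (σ k)
  map_one' := by
    rw [map_one]; ext x; simp [Equiv.Perm.one_def, FreeGroup.freeGroupCongr_refl]
  map_mul' a b := by
    rw [map_mul, Equiv.Perm.mul_def, ← FreeGroup.freeGroupCongr_trans]; rfl

@[simp] theorem freeAct_apply (k : K) (u : FreeGroup E) :
    freeAct σ k u = FreeGroup.freeGroupCongr (σ k) u := rfl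

variable (hs : ∀ k e, s (σ k e) = τ k (s e)) (ht : ∀ k e, t (σ k e) = τ k (t e))

omit [DecidableEq E] in
theorem act_vert (k k' : K) (v : V) : τ (k * k') v = τ k (τ k' v) := by
  rw [map_mul]; rfl

include hs ht in
theorem isWalk_act {u : FreeGroup E} {v w : V} (h : IsWalk s t u v w) (k : K) :
    IsWalk s t (freeAct σ k u) (τ k v) (τ k w) := by
  unfold IsWalk
  rw [freeAct_apply, toWord_congr]
  exact path_map (hs k) (ht k) h

/-- elements `(u, k)` with `u` a walk from the base vertex to `k • base` -/
def walkGroup (o : V) : Subgroup (FreeGroup E ⋊[freeAct σ] K) where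
  carrier := {g | IsWalk s t g.left o (τ g.right o)}
  one_mem' := by
    show IsWalk s t (1 : FreeGroup E ⋊[freeAct σ] K).left o _
    simpa using isWalk_one (s := s) (t := t) o
  mul_mem' {a b} ha hb := by
    show IsWalk s t _ o _
    rw [SemidirectProduct.mul_left, SemidirectProduct.mul_right, act_vert]
    exact isWalk_mul ha (isWalk_act σ τ hs ht hb _)
  inv_mem' {a} ha := by
    show IsWalk s t _ o _
    rw [SemidirectProduct.inv_left, SemidirectProduct.inv_right]
    have h := isWalk_act σ τ hs ht (isWalk_inv ha) a.right⁻¹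
    rw [← act_vert, inv_mul_cancel, map_one] at h
    exact h

include hs ht in
/-- A finite group of walk elements fixes some walk starting at the base vertex. -/
theorem exists_fixed (o : V) (H : Subgroup (FreeGroup E ⋊[freeAct σ] K)) [Finite H]
    (hH : ∀ g ∈ H, IsWalk s t g.left o (τ g.right o)) :
    ∃ u v, IsWalk s t u o v ∧ ∀ g ∈ H, g.left * freeAct σ g.right u = u ∧ τ g.right v = v := by
  classical
  letI := Fintype.ofFinite H
  let f : FreeGroup E → ℕ := fun u =>
    Finset.univ.sup (fun h : H => (u⁻¹ * h.1.left).norm)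
  have hex : ∃ n, ∃ u v, IsWalk s t u o v ∧ f u = n := ⟨_, 1, o, isWalk_one o, rfl⟩
  obtain ⟨u, v, hu, hfu⟩ := Nat.find_spec hex
  have hmin : ∀ u' v', IsWalk s t u' o v' → f u ≤ f u' := fun u' v' h' =>
    hfu ▸ Nat.find_min' hex ⟨u', v', h', rfl⟩
  have hle : ∀ (u : FreeGroup E) (h : H), (u⁻¹ * h.1.left).norm ≤ f u := fun u h =>
    Finset.le_sup (f := fun h : H => (u⁻¹ * h.1.left).norm) (Finset.mem_univ h)
  -- translations
  let T : H → FreeGroup E → FreeGroup E := fun g w => g.1.left * freeAct σ g.1.right w
  have hfT : ∀ g w, f (T g w) ≤ f w := by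
    intro g w
    refine Finset.sup_le fun h _ => ?_
    refine le_trans (le_of_eq ?_) (hle w (g⁻¹ * h))
    have he : h.1.left = g.1.left * freeAct σ g.1.right (g⁻¹ * h : H).1.left := by
      rw [← SemidirectProduct.mul_left]
      simp
    rw [he, mul_inv_rev, mul_assoc, inv_mul_cancel_left, ← map_inv, ← map_mul, freeAct_apply,
      norm_congr]
  have hTw : ∀ g w x, IsWalk s t w o x → IsWalk s t (T g w) o (τ g.1.right x) := fun g w x hw =>
    isWalk_mul (hH _ g.2) (isWalk_act σ τ hs ht hw _)
  -- two minimisers are at distance at most one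
  have hclose : ∀ a x b y, IsWalk s t a o x → IsWalk s t b o y → f a ≤ f u → f b ≤ f u →
      (a⁻¹ * b).norm ≤ 1 := by
    intro a x b y ha hb hfa hfb
    by_contra hlt
    obtain ⟨l, L, hw⟩ : ∃ l L, (a⁻¹ * b).toWord = l :: L := by
      cases hc : (a⁻¹ * b).toWord with
      | nil => simp [FreeGroup.norm, hc] at hlt
      | cons l L => exact ⟨l, L, rfl⟩
    have hL : L ≠ [] := by rintro rfl; simp [FreeGroup.norm, hw] at hlt
    have hp : Path s t x (l :: L) y := hw ▸ isWalk_mul (isWalk_inv ha) hb
    have hm : IsWalk s t (a * FreeGroup.mk [l]) o (en s t l) :=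
      isWalk_mul ha (isWalk_mk ⟨hp.1, rfl⟩)
    have hb' : ∀ h : H, ((a * FreeGroup.mk [l])⁻¹ * h.1.left).norm < f u := by
      intro h
      have h1 := norm_mid (x := a⁻¹ * h.1.left) hw hL
      rw [mul_inv_rev, mul_assoc]
      rw [show (a⁻¹ * b)⁻¹ * (a⁻¹ * h.1.left) = b⁻¹ * h.1.left by group] at h1
      exact lt_of_lt_of_le h1 (max_le ((hle a h).trans hfa) ((hle b h).trans hfb))
    have hpos : ⊥ < f u := lt_of_le_of_lt (Nat.zero_le _) (hb' 1)
    have := hmin _ _ hm
    exact absurd ((Finset.sup_lt_iff hpos).2 fun h _ => hb' h) (not_lt.2 this)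
  refine ⟨u, v, hu, fun g hg => ?_⟩
  have hfix : T ⟨g, hg⟩ u = u := by
    set G : H := ⟨g, hg⟩
    by_contra hne
    set w := u⁻¹ * T G u with hw
    have hw1 : w.norm ≤ 1 :=
      hclose u v (T G u) _ hu (hTw G u v hu) le_rfl (hfT G u)
    obtain ⟨l, hl⟩ : ∃ l, w.toWord = [l] := by
      cases hc : w.toWord with
      | nil =>
        exfalso; apply hne
        have : w = 1 := by rw [← FreeGroup.toWord_eq_nil_iff]; exact hc
        rw [hw, inv_mul_eq_one] at this
        exact this.symm
      | cons a L =>
        cases L with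
        | nil => exact ⟨a, rfl⟩
        | cons b L => simp [FreeGroup.norm, hc] at hw1
    have h2 : (w * freeAct σ G.1.right w).norm ≤ 1 := by
      have h3 := hclose u v (T G (T G u)) _ hu (hTw G _ _ (hTw G u v hu)) le_rfl
        ((hfT G _).trans (hfT G u))
      refine le_trans (le_of_eq ?_) h3
      congr 1
      rw [hw, map_mul, map_inv]
      simp only [T, map_mul]
      group
    have h4 : (w * freeAct σ G.1.right w).toWord = [l, (σ G.1.right l.1, l.2)] := by
      rw [FreeGroup.toWord_mul, freeAct_apply, toWord_congr, hl]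
      apply FreeGroup.IsReduced.reduce_eq
      rw [List.map_cons, List.map_nil]
      show FreeGroup.IsReduced [l, _]
      rw [FreeGroup.isReduced_cons_cons]
      exact ⟨fun _ => rfl, FreeGroup.IsReduced.singleton⟩
    unfold FreeGroup.norm at h2
    rw [h4] at h2
    simp at h2
  refine ⟨hfix, ?_⟩
  have := hTw ⟨g, hg⟩ u v hu
  rw [hfix] at this
  exact path_end_unique this hu

end Act

end H8.EdgePaths
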