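import Mathlib

/-!
Faithful modules of groups with centre of prime order and central commutators: the dimension over
the field generated by the centre is at least the square root of the index of the centre (helper8).
-/

set_option autoImplicit false
set_option linter.style.haveILetI false
set_option linter.deprecated false

namespace H8.ExtraMod

open scoped commutatorElement

variable {E : Type*} [Group E] [Finite E] {V : Type*} [AddCommGroup V] [Finite V]

/-- The irreducible case. -/
theorem bound_irreducible {p r : ℕ} [Fact p.Prime] [hr : Fact r.Prime] (ρ : E →* AddMonoid.End V)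
    (hrV : ∀ v : V, r • v = 0) [Nontrivial V]
    (hirr : ∀ W : AddSubgroup V, (∀ g : E, ∀ v ∈ W, ρ g v ∈ W) → W = ⊥ ∨ W = ⊤)
    (hcard : Nat.card (Subgroup.center E) = p) (hcomm : ∀ g h : E, ⁅g, h⁆ ∈ Subgroup.center E)
    {z : E} (hz : z ∈ Subgroup.center E) (hfpf : ∀ v : V, ρ z v = v → v = 0) (n : ℕ)
    (hmin : ∀ k : ℕ, 1 ≤ k → p ∣ r ^ k - 1 → n ≤ k) (w : ℕ)
    (hidx : p ^ (2 * w) ≤ (Subgroup.center E).index) :
    r ^ (n * p ^ w) ≤ Nat.card V := by
  have hp := (Fact.out : p.Prime)
  haveI := Fintype.ofFinite (E ⧸ Subgroup.center E)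
  set S : Set (AddMonoid.End V) := ρ '' (Subgroup.center E : Set E) with hS
  have hScomm : ∀ a ∈ S, ∀ b ∈ S, a * b = b * a := by
    rintro _ ⟨a, ha, rfl⟩ _ ⟨b, hb, rfl⟩
    rw [← map_mul, ← map_mul, (Subgroup.mem_center_iff.1 ha b).symm]
  let K := Subring.closure S
  letI : CommRing K := Subring.closureCommRingOfComm hScomm
  have hKg : ∀ k : K, ∀ g : E, (k : AddMonoid.End V) * ρ g = ρ g * (k : AddMonoid.End V) := by
    intro k g
    have hle : K ≤ Subring.centralizer {ρ g} := by
      refine Subring.closure_le.2 ?_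
      rintro _ ⟨c, hc, rfl⟩
      rw [SetLike.mem_coe, Subring.mem_centralizer_iff]
      rintro _ rfl
      rw [← map_mul, ← map_mul, Subgroup.mem_center_iff.1 hc g]
    exact ((Subring.mem_centralizer_iff.1 (hle k.2)) _ rfl).symm
  have hsmul : ∀ (k : K) (v : V), k • v = (k : AddMonoid.End V) v := fun k v => rfl
  have hinj : ∀ k : K, k ≠ 0 → ∀ v : V, k • v = 0 → v = 0 := by
    intro k hk v hv
    let f : V →+ V := (k : AddMonoid.End V)
    have hf : ∀ u, f u = k • u := fun u => (hsmul k u).symm
    rcases hirr f.ker (fun g u hu => by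
        have h : (k : AddMonoid.End V) (ρ g u) = ρ g ((k : AddMonoid.End V) u) :=
          DFunLike.congr_fun (hKg k g) u
        rw [AddMonoidHom.mem_ker, hf] at hu ⊢
        rw [hsmul] at hu ⊢
        rw [h, hu, map_zero]) with h | h
    · exact (AddSubgroup.mem_bot).1 (h ▸ (show v ∈ f.ker by rw [AddMonoidHom.mem_ker, hf]; exact hv))
    · exfalso
      refine hk (Subtype.ext (AddMonoidHom.ext fun u => ?_))
      have hu : u ∈ f.ker := by rw [h]; exact AddSubgroup.mem_top u
      exact AddMonoidHom.mem_ker.1 hu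
  haveI : Finite (AddMonoid.End V) := Finite.of_injective (fun f => (f : V → V)) DFunLike.coe_injective
  haveI : Nontrivial K := by
    refine ⟨⟨0, 1, fun h => ?_⟩⟩
    obtain ⟨v, hv⟩ := exists_ne (0 : V)
    exact hv (by simpa [hsmul] using (congrArg (fun k : K => k • v) h).symm)
  haveI : NoZeroDivisors K := ⟨fun {a b} h => by
    by_contra hcon
    push_neg at hcon
    obtain ⟨v, hv⟩ := exists_ne (0 : V)
    have h1 : a • (b • v) = 0 := by rw [smul_smul, h, zero_smul]
    exact hv (hinj b hcon.2 v (hinj a hcon.1 _ h1))⟩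
  haveI : IsDomain K := NoZeroDivisors.to_isDomain K
  haveI := Fintype.ofFinite K
  letI : Field K := (Finite.isField_of_domain K).toField
  haveI hchar : CharP K r := by
    refine (CharP.charP_iff_prime_eq_zero hr.out).2 (Subtype.ext (AddMonoidHom.ext fun v => ?_))
    show ((r : ℕ) : AddMonoid.End V) v = 0
    rw [AddMonoid.End.natCast_apply]
    exact hrV v
  obtain ⟨m, -, hm⟩ := FiniteField.card K r
  -- the centre inside `K`
  let ψ : Subgroup.center E →* K :=
    { toFun := fun c => ⟨ρ (c : E), Subring.subset_closure ⟨c, c.2, rfl⟩⟩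
      map_one' := Subtype.ext (map_one ρ)
      map_mul' := fun a b => Subtype.ext (map_mul ρ (a : E) b) }
  have hψz : ψ ⟨z, hz⟩ ≠ 1 := fun h => by
    obtain ⟨v, hv⟩ := exists_ne (0 : V)
    refine hv (hfpf v ?_)
    exact congrArg (fun k : K => (k : AddMonoid.End V) v) h
  have hψ : Function.Injective ψ := by
    refine (ψ.ker_eq_bot_iff).1 ?_
    haveI : Fact (Nat.card (Subgroup.center E)).Prime := ⟨by rw [hcard]; exact hp⟩
    rcases ψ.ker.eq_bot_or_eq_top_of_prime_card with h | h
    · exact h
    · exact absurd (show (⟨z, hz⟩ : Subgroup.center E) ∈ ψ.ker by rw [h]; exact Subgroup.mem_top _) hψz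
  have hn : n ≤ (m : ℕ) := by
    refine hmin _ m.pos ?_
    set x : K := ψ ⟨z, hz⟩ with hx
    have hxp : x ^ p = 1 := by
      rw [hx, ← map_pow, ← hcard, pow_card_eq_one', map_one]
    have hord : orderOf x = p := orderOf_eq_prime hxp hψz
    have hx0 : x ≠ 0 := fun h => one_ne_zero (α := K) (by rw [← hxp, h, zero_pow hp.ne_zero])
    rw [← hm, ← hord]
    exact orderOf_dvd_of_pow_eq_one (FiniteField.pow_card_sub_one_eq_one x hx0)
  -- the group acts linearly over `K`
  let L : E → (V →ₗ[K] V) := fun g =>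
    { toFun := fun v => ρ g v
      map_add' := fun u v => map_add _ u v
      map_smul' := fun k v => by
        have h := congrArg (fun f : AddMonoid.End V => f v) (hKg k g)
        simp only [AddMonoid.End.coe_mul, Function.comp_apply] at h
        exact h.symm }
  let rep : E ⧸ Subgroup.center E → E := Quotient.out
  let χ : E ⧸ Subgroup.center E → E →* K := fun x =>
    ψ.comp
      { toFun := fun h => (⟨⁅h, rep x⁆, hcomm _ _⟩ : Subgroup.center E)
        map_one' := Subtype.ext (by simp)
        map_mul' := fun a b => Subtype.ext (by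
          show ⁅a * b, rep x⁆ = ⁅a, rep x⁆ * ⁅b, rep x⁆
          have e : ⁅a * b, rep x⁆ = a * ⁅b, rep x⁆ * a⁻¹ * ⁅a, rep x⁆ := by
            simp only [commutatorElement_def]; group
          rw [e, Subgroup.mem_center_iff.1 (hcomm b (rep x)) a, mul_inv_cancel_right]
          exact (Subgroup.mem_center_iff.1 (hcomm b (rep x)) _).symm) }
  have hχ : Function.Injective χ := by
    intro x y h
    have h1 : ∀ a : E, ⁅a, rep x⁆ = ⁅a, rep y⁆ := fun a =>
      congrArg Subtype.val (hψ (DFunLike.congr_fun h a))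
    have h2 : (rep x)⁻¹ * rep y ∈ Subgroup.center E := by
      refine Subgroup.mem_center_iff.2 fun a => ?_
      have h3 := h1 a
      simp only [commutatorElement_def, mul_assoc, mul_right_inj] at h3
      have h4 : a⁻¹ * ((rep x)⁻¹ * rep y) = (rep x)⁻¹ * rep y * a⁻¹ := by
        have e1 : (rep x) * a⁻¹ * (rep x)⁻¹ = (rep y) * a⁻¹ * (rep y)⁻¹ := by
          simpa [mul_assoc] using h3
        calc a⁻¹ * ((rep x)⁻¹ * rep y) = (rep x)⁻¹ * (rep x * a⁻¹ * (rep x)⁻¹) * rep y := by group
          _ = _ := by rw [e1]; group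
      calc a * ((rep x)⁻¹ * rep y) = a * ((rep x)⁻¹ * rep y * a⁻¹) * a := by group
        _ = _ := by rw [← h4]; group
    rw [← QuotientGroup.out_eq' x, ← QuotientGroup.out_eq' y]
    exact QuotientGroup.eq.2 h2
  have hcancel : ∀ (g : E) (v : V), ρ g⁻¹ (ρ g v) = v := fun g v => by
    have h : ρ g⁻¹ * ρ g = 1 := by rw [← map_mul, inv_mul_cancel, map_one]
    exact DFunLike.congr_fun h v
  have hli : LinearIndependent K (fun x => L (rep x)) := by
    rw [Fintype.linearIndependent_iff]
    intro c hc x
    obtain ⟨v, hv⟩ := exists_ne (0 : V)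
    have key : ∀ h : E, ∑ y, (χ y h * c y) • ρ (rep y) v = 0 := by
      intro h
      have h0 := congrArg (fun f : V →ₗ[K] V => ρ h (f (ρ h⁻¹ v))) hc
      simp only [LinearMap.coe_sum, Finset.sum_apply, LinearMap.smul_apply, LinearMap.zero_apply,
        map_zero, map_sum] at h0
      rw [← h0]
      refine Finset.sum_congr rfl fun y _ => ?_
      have e1 : h * rep y * h⁻¹ = ⁅h, rep y⁆ * rep y := by rw [commutatorElement_def]; group
      have e2 : ρ h (ρ (rep y) (ρ h⁻¹ v)) = χ y h • ρ (rep y) v := by
        rw [hsmul]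
        show (ρ h * ρ (rep y) * ρ h⁻¹) v = (ρ ⁅h, rep y⁆) (ρ (rep y) v)
        rw [← map_mul, ← map_mul, e1, map_mul]
        rfl
      calc (χ y h * c y) • ρ (rep y) v = c y • χ y h • ρ (rep y) v := by rw [mul_comm, mul_smul]
        _ = c y • ρ h (L (rep y) (ρ h⁻¹ v)) := by rw [← e2]; rfl
        _ = ρ h (c y • L (rep y) (ρ h⁻¹ v)) := ((L h).map_smul _ _).symm
    have hzero : c x • ρ (rep x) v = 0 := by
      rw [← Module.forall_dual_apply_eq_zero_iff K]
      intro φ
      have hind := (linearIndependent_monoidHom E K).comp χ hχ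
      rw [Fintype.linearIndependent_iff] at hind
      have := hind (fun y => c y * φ (ρ (rep y) v)) (by
        funext h
        have h0 := congrArg φ (key h)
        simp only [map_sum, map_smul, smul_eq_mul, map_zero] at h0
        simp only [Finset.sum_apply, Pi.smul_apply, Function.comp_apply, smul_eq_mul, Pi.zero_apply]
        rw [← h0]
        exact Finset.sum_congr rfl fun y _ => by ring) x
      rw [map_smul, smul_eq_mul]
      exact this
    rcases eq_or_ne (c x) 0 with h | h
    · exact h
    · exfalso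
      refine hv ?_
      rw [← hcancel (rep x) v, hinj _ h _ hzero, map_zero]
  haveI : Module.Finite K V := Module.Finite.of_finite
  have hbound : p ^ (2 * w) ≤ Module.finrank K V * Module.finrank K V := by
    refine hidx.trans (le_of_eq_of_le ?_ (hli.fintype_card_le_finrank.trans_eq ?_))
    · rw [Subgroup.index, Nat.card_eq_fintype_card]
    · exact Module.finrank_linearMap K K V V
  have hd : p ^ w ≤ Module.finrank K V := by
    rw [two_mul, pow_add] at hbound
    exact Nat.mul_self_le_mul_self_iff.1 hbound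
  have hV : Nat.card V = (r ^ (m : ℕ)) ^ Module.finrank K V := by
    rw [Module.natCard_eq_pow_finrank (K := K) (V := V), Nat.card_eq_fintype_card, hm]
  rw [hV, ← pow_mul]
  exact Nat.pow_le_pow_right hr.out.pos (Nat.mul_le_mul hn hd)

/-- A group with centre of order `p`, central commutators and a central element acting without fixed
points needs at least `r ^ (n p ^ w)` points. -/
theorem bound {p r : ℕ} [Fact p.Prime] [Fact r.Prime] (ρ : E →* AddMonoid.End V)
    (hrV : ∀ v : V, r • v = 0) [Nontrivial V]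
    (hcard : Nat.card (Subgroup.center E) = p) (hcomm : ∀ g h : E, ⁅g, h⁆ ∈ Subgroup.center E)
    {z : E} (hz : z ∈ Subgroup.center E) (hfpf : ∀ v : V, ρ z v = v → v = 0) (n : ℕ)
    (hmin : ∀ k : ℕ, 1 ≤ k → p ∣ r ^ k - 1 → n ≤ k) (w : ℕ)
    (hidx : p ^ (2 * w) ≤ (Subgroup.center E).index) :
    r ^ (n * p ^ w) ≤ Nat.card V := by
  obtain ⟨W, ⟨hW1, hW2⟩, hWmin⟩ := Set.Finite.exists_minimal
    (Set.toFinite {W : AddSubgroup V | W ≠ ⊥ ∧ ∀ g : E, ∀ v ∈ W, ρ g v ∈ W})
    ⟨⊤, by simp [Set.mem_setOf_eq]⟩
  haveI : Nontrivial W := (AddSubgroup.nontrivial_iff_ne_bot W).2 hW1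
  let σ : E →* AddMonoid.End W :=
    { toFun := fun g =>
        { toFun := fun v => ⟨ρ g v, hW2 g v v.2⟩
          map_zero' := Subtype.ext (map_zero _)
          map_add' := fun a b => Subtype.ext (map_add (ρ g) (a : V) b) }
      map_one' := by
        refine AddMonoidHom.ext fun v => Subtype.ext ?_
        show ρ 1 (v : V) = v
        rw [map_one]; rfl
      map_mul' := fun a b => by
        refine AddMonoidHom.ext fun v => Subtype.ext ?_
        show ρ (a * b) (v : V) = ρ a (ρ b (v : V))
        rw [map_mul]; rfl }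
  refine le_trans ?_ (Nat.card_le_card_of_injective (fun v : W => (v : V)) Subtype.val_injective)
  refine bound_irreducible σ (fun v => Subtype.ext (by simpa using hrV v)) (fun U hU => ?_) hcard hcomm
    (z := z) hz (fun v h => Subtype.ext (hfpf v (congrArg Subtype.val h))) n hmin w hidx
  rcases eq_or_ne U ⊥ with h | h
  · exact Or.inl h
  · refine Or.inr (eq_top_iff.2 fun v _ => ?_)
    have hle : W ≤ U.map W.subtype := hWmin ⟨fun hb => h ((AddSubgroup.map_eq_bot_iff_of_injective U
      W.subtype_injective).1 hb), fun g u hu => by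
      obtain ⟨u', hu', rfl⟩ := hu
      exact ⟨σ g u', hU g u' hu', rfl⟩⟩ (AddSubgroup.map_subtype_le U)
    obtain ⟨v', hv', e⟩ := hle v.2
    rwa [← Subtype.ext e]

/-- As `bound`, asking only that the central element of order `p` acts nontrivially. -/
theorem bound_nontrivial {p r : ℕ} [Fact p.Prime] [Fact r.Prime] (hpr : p ≠ r)
    (ρ : E →* AddMonoid.End V) (hrV : ∀ v : V, r • v = 0)
    (hcard : Nat.card (Subgroup.center E) = p) (hcomm : ∀ g h : E, ⁅g, h⁆ ∈ Subgroup.center E)
    {z : E} (hz : z ∈ Subgroup.center E) (hne : ρ z ≠ 1) (n : ℕ)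
    (hmin : ∀ k : ℕ, 1 ≤ k → p ∣ r ^ k - 1 → n ≤ k) (w : ℕ)
    (hidx : p ^ (2 * w) ≤ (Subgroup.center E).index) :
    r ^ (n * p ^ w) ≤ Nat.card V := by
  let δ : V →+ V :=
    { toFun := fun v => ρ z v - v
      map_zero' := by simp
      map_add' := fun a b => by rw [map_add]; abel }
  set W := δ.range with hW
  have hinv : ∀ g : E, ∀ v ∈ W, ρ g v ∈ W := by
    rintro g _ ⟨u, rfl⟩
    refine ⟨ρ g u, ?_⟩
    show ρ z (ρ g u) - ρ g u = ρ g (ρ z u - u)
    have h : ρ z * ρ g = ρ g * ρ z := by rw [← map_mul, ← map_mul, Subgroup.mem_center_iff.1 hz g]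
    rw [map_sub]
    exact congrArg (· - ρ g u) (DFunLike.congr_fun h u)
  let σ : E →* AddMonoid.End W :=
    { toFun := fun g =>
        { toFun := fun v => ⟨ρ g v, hinv g v v.2⟩
          map_zero' := Subtype.ext (map_zero _)
          map_add' := fun a b => Subtype.ext (map_add (ρ g) (a : V) b) }
      map_one' := by
        refine AddMonoidHom.ext fun v => Subtype.ext ?_
        show ρ 1 (v : V) = v
        rw [map_one]; rfl
      map_mul' := fun a b => by
        refine AddMonoidHom.ext fun v => Subtype.ext ?_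
        show ρ (a * b) (v : V) = ρ a (ρ b (v : V))
        rw [map_mul]; rfl }
  haveI : Nontrivial W := by
    by_contra hn
    rw [not_nontrivial_iff_subsingleton] at hn
    refine hne (AddMonoidHom.ext fun v => ?_)
    have h : (⟨δ v, v, rfl⟩ : W) = 0 := Subsingleton.elim _ _
    exact sub_eq_zero.1 (congrArg Subtype.val h)
  refine le_trans ?_ (Nat.card_le_card_of_injective (fun v : W => (v : V)) Subtype.val_injective)
  refine bound σ (fun v => Subtype.ext (by simpa using hrV v)) hcard hcomm hz (fun v hv => ?_) n hmin w hidx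
  obtain ⟨_, u, rfl⟩ := v
  have hv' : ρ z (δ u) = δ u := congrArg Subtype.val hv
  have hpow : ∀ k : ℕ, ρ (z ^ k) u = u + k • δ u := by
    intro k
    induction k with
    | zero => simp
    | succ k ih =>
      rw [pow_succ', map_mul]
      show ρ z (ρ (z ^ k) u) = _
      rw [ih, map_add, map_nsmul, hv', succ_nsmul]
      show ρ z u + k • δ u = u + (k • δ u + (ρ z u - u))
      abel
  have hzp : z ^ p = 1 := by
    have h := pow_card_eq_one' (x := (⟨z, hz⟩ : Subgroup.center E))
    rw [hcard] at h
    exact congrArg Subtype.val h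
  have h1 : p • δ u = 0 := by
    have h := hpow p
    rw [hzp, map_one] at h
    exact left_eq_add.1 h
  refine Subtype.ext ?_
  have hd : addOrderOf (δ u) ∣ Nat.gcd p r :=
    Nat.dvd_gcd (addOrderOf_dvd_of_nsmul_eq_zero h1) (addOrderOf_dvd_of_nsmul_eq_zero (hrV _))
  rw [(Nat.coprime_primes Fact.out Fact.out).2 hpr, Nat.dvd_one, AddMonoid.addOrderOf_eq_one_iff] at hd
  exact hd

end H8.ExtraMod
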