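import Cfsg.Agent.H71.KBalanced
import Cfsg.Agent.S1304
import Cfsg.Prelude.Def_Balance

/-!
Local (`k`-)balance passes from `K / Z(K)` to a perfect group `K`; balance from the components (helper8).
-/

set_option autoImplicit false

namespace H8

open Subgroup

variable {X : Type*} [Group X]

/-- The action of `MulAut X` on the central quotient. -/
noncomputable def autCentralQuot : MulAut X →* MulAut (X ⧸ Subgroup.center X) where
  toFun φ := QuotientGroup.congr _ _ φ (Subgroup.characteristic_iff_map_eq.1 inferInstance φ)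
  map_one' := by
    ext v
    obtain ⟨x, rfl⟩ := QuotientGroup.mk_surjective v
    rfl
  map_mul' a b := by
    ext v
    obtain ⟨x, rfl⟩ := QuotientGroup.mk_surjective v
    rfl

theorem autCentralQuot_injective (hperf : commutator X = ⊤) :
    Function.Injective (autCentralQuot (X := X)) := by
  rw [injective_iff_map_eq_one]
  intro φ hφ
  refine MulEquiv.ext (Cfsg.Agent.S1304.result hperf φ fun x => ?_)
  have h : ((φ x : X) : X ⧸ Subgroup.center X) = (x : X ⧸ Subgroup.center X) :=
    DFunLike.congr_fun hφ (x : X ⧸ Subgroup.center X)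
  have h' := QuotientGroup.eq.1 h.symm
  have e : φ x * x⁻¹ = x * (x⁻¹ * φ x) * x⁻¹ := by group
  rw [e]
  exact (inferInstance : (Subgroup.center X).Normal).conj_mem _ h' x

theorem map_centralizerPPrimeCore_equiv {G H : Type*} [Group G] [Group H] [Finite G] [Finite H] {p : ℕ}
    [Fact p.Prime] (e : G ≃* H) {x : G} :
    (Cfsg.centralizerPPrimeCore p x).map e.toMonoidHom ≤ Cfsg.centralizerPPrimeCore p (e x) := by
  set C := Subgroup.centralizer ({x} : Set G)
  set C' := Subgroup.centralizer ({e x} : Set H)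
  have hC : (Cfsg.centralizerPPrimeCore p x).map e.toMonoidHom ≤ C' := by
    rintro _ ⟨y, hy, rfl⟩
    rw [Subgroup.mem_centralizer_singleton_iff]
    have h := Subgroup.mem_centralizer_singleton_iff.1 (H71.centralizerPPrimeCore_le x hy)
    show e y * e x = e x * e y
    rw [← map_mul, ← map_mul, h]
  intro z hz
  refine ⟨⟨z, hC hz⟩, ?_, rfl⟩
  have hn : ((Cfsg.centralizerPPrimeCore p x).map e.toMonoidHom).subgroupOf C' ≤
      Cfsg.pPrimeCore p ↥C' := by
    apply le_sSup
    refine ⟨?_, ?_⟩
    · refine Subgroup.normal_subgroupOf_of_le_normalizer fun c hc => ?_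
      have hc' : e.symm c ∈ C := by
        rw [Subgroup.mem_centralizer_singleton_iff]
        apply e.injective
        rw [map_mul, map_mul, e.apply_symm_apply]
        exact Subgroup.mem_centralizer_singleton_iff.1 hc
      have := Subgroup.le_normalizer_map e.toMonoidHom
        ⟨e.symm c, H71.centralizer_le_normalizer_centralizerPPrimeCore (p := p) x hc', rfl⟩
      simpa using this
    · rw [Nat.card_congr (Subgroup.subgroupOfEquivOfLe hC).toEquiv,
        Subgroup.card_map_of_injective e.injective, Nat.coprime_comm]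
      exact (Fact.out : p.Prime).coprime_iff_not_dvd.2 (H71.not_dvd_centralizerPPrimeCore x)
  exact hn hz

theorem isLocallyKBalanced_of_centralQuot [Finite X] {p k : ℕ} [Fact p.Prime]
    (hperf : commutator X = ⊤) (h : Cfsg.IsLocallyKBalanced p k (X ⧸ Subgroup.center X)) :
    Cfsg.IsLocallyKBalanced p k X := by
  intro H hH A hA hAk
  haveI := hA.1
  set e := H.equivMapOfInjective autCentralQuot (autCentralQuot_injective hperf)
  have hInn : (MulAut.conj : X ⧸ Subgroup.center X →* MulAut (X ⧸ Subgroup.center X)).range ≤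
      H.map autCentralQuot := by
    rintro _ ⟨v, rfl⟩
    obtain ⟨x, rfl⟩ := QuotientGroup.mk_surjective v
    refine ⟨MulAut.conj x, hH ⟨x, rfl⟩, ?_⟩
    ext w
    obtain ⟨y, rfl⟩ := QuotientGroup.mk_surjective w
    rfl
  have hA' : Cfsg.IsElementaryAbelian p (A.map e.toMonoidHom) := by
    refine ⟨⟨⟨?_⟩⟩, ?_⟩
    · rintro ⟨_, a, ha, rfl⟩ ⟨_, b, hb, rfl⟩
      refine Subtype.ext ?_
      show e a * e b = e b * e a
      rw [← map_mul, ← map_mul]
      exact congrArg e (congrArg Subtype.val (mul_comm' (⟨a, ha⟩ : A) ⟨b, hb⟩))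
    · rintro _ ⟨a, ha, rfl⟩
      rw [← map_pow, hA.2 a ha, map_one]
  have hΔ := h _ hInn (A.map e.toMonoidHom) hA' (by rw [Subgroup.card_map_of_injective e.injective, hAk])
  rw [eq_bot_iff]
  intro y hy
  have hy' : e y ∈ Cfsg.signalizerDelta p (A.map e.toMonoidHom) := by
    refine H71.le_signalizerDelta (D := Subgroup.zpowers (e y)) ?_ (Subgroup.mem_zpowers _)
    rintro _ ⟨a, ha, rfl⟩ ha1
    rw [Subgroup.zpowers_le]
    refine map_centralizerPPrimeCore_equiv e ⟨y, H71.signalizerDelta_le ha ?_ hy, rfl⟩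
    intro h1
    exact ha1 (by rw [h1]; exact map_one _)
  rw [hΔ, Subgroup.mem_bot] at hy'
  exact Subgroup.mem_bot.2 (e.injective (hy'.trans (map_one e).symm))

theorem isLocallyKBalanced_one_of_isLocallyBalanced {K : Type*} [Group K] [Finite K]
    (h : Cfsg.IsLocallyBalanced K) : Cfsg.IsLocallyKBalanced 2 1 K := by
  intro H hH A hA hA1
  haveI : Fact (Nat.Prime 2) := ⟨Nat.prime_two⟩
  obtain ⟨a, ha, ha1⟩ := A.bot_or_exists_ne_one.resolve_left
    (H71.ne_bot_of_pow_le (p := 2) le_rfl hA1.ge)
  rw [eq_bot_iff, ← h H hH a (orderOf_eq_prime (hA.2 a ha) ha1)]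
  exact H71.signalizerDelta_le ha ha1

/-- `k`-balance from local `k`-balance of the components of centralizers, modulo centres. -/
theorem isKBalanced_of_centralQuot {G : Type*} [Group G] [Finite G] {p k : ℕ} [Fact p.Prime] (hk : 1 ≤ k)
    (h : ∀ x : G, orderOf x = p → ∀ K : Subgroup (↥(Subgroup.centralizer ({x} : Set G)) ⧸
        Cfsg.pPrimeCore p ↥(Subgroup.centralizer ({x} : Set G))),
      Cfsg.IsComponent K → Cfsg.IsLocallyKBalanced p k (↥K ⧸ Subgroup.center ↥K)) :
    Cfsg.IsKBalanced p k G := by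
  intro A hA hAk b hb hcomm
  haveI := hA.1
  have hp := (Fact.out : p.Prime)
  -- `A` and `b` generate an elementary abelian group
  have hbC : Subgroup.zpowers b ≤ Subgroup.centralizer (A : Set G) :=
    (Subgroup.zpowers_le (g := b)).2 (Subgroup.mem_centralizer_iff.2 hcomm)
  set A' := A ⊔ Subgroup.zpowers b
  have hA'comm : IsMulCommutative A' := by
    rw [← Subgroup.le_centralizer_iff_isMulCommutative]
    refine sup_le (Subgroup.le_centralizer_iff.2 (sup_le
      (Subgroup.le_centralizer_iff_isMulCommutative.2 hA.1) hbC))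
      (Subgroup.le_centralizer_iff.2 (sup_le ?_ ?_))
    · exact Subgroup.le_centralizer_iff.2 hbC
    · exact Subgroup.le_centralizer_iff_isMulCommutative.2 inferInstance
  have hA' : Cfsg.IsElementaryAbelian p A' := by
    refine ⟨hA'comm, fun x hx => ?_⟩
    let P : Subgroup A' :=
      { carrier := {z | z ^ p = 1}
        one_mem' := one_pow p
        mul_mem' := fun {u v} hu hv => by
          show (u * v) ^ p = 1
          have hc : Commute u v := mul_comm' u v
          rw [hc.mul_pow, show u ^ p = 1 from hu, show v ^ p = 1 from hv, one_mul]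
        inv_mem' := fun {u} hu => by
          show u⁻¹ ^ p = 1
          rw [inv_pow, show u ^ p = 1 from hu, inv_one] }
    have hle : A' ≤ P.map A'.subtype := by
      refine sup_le (fun a ha => ⟨⟨a, Subgroup.mem_sup_left ha⟩, Subtype.ext (hA.2 a ha), rfl⟩)
        ((Subgroup.zpowers_le (g := b)).2
          ⟨⟨b, Subgroup.mem_sup_right (Subgroup.mem_zpowers b)⟩, Subtype.ext ?_, rfl⟩)
      show b ^ p = 1
      rw [← hb, pow_orderOf_eq_one]
    obtain ⟨z, hz, rfl⟩ := hle hx
    exact congrArg Subtype.val hz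
  refine H71.isKBalancedWrt_of_local hk hA' (fun a ha ha1 K hK => ?_) A le_sup_left hA hAk.ge b
    (Subgroup.mem_sup_right (Subgroup.mem_zpowers b)) fun e => hp.one_lt.ne (by rw [← hb, e, orderOf_one])
  exact isLocallyKBalanced_of_centralQuot hK.2.1.commutator_eq_top
    (h a (orderOf_eq_prime (hA'.2 a ha) ha1) K hK)

end H8
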