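import Mathlib
import Cfsg.Agent.H13.TICoeff
import Cfsg.Agent.H12.Induction
import Cfsg.Agent.H19.PrimeDegrees

/-!
A factorisation `|G| = |B| |C|` with coprime factors, `C` an abelian TI subgroup containing the
centralisers of its nontrivial elements: elements whose class has order `|C|` fix one coset of `B`.
-/

set_option autoImplicit false
set_option maxHeartbeats 800000
set_option linter.unusedSectionVars false

open Cfsg
open scoped ComplexConjugate

namespace H8.Rank3

universe u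

variable {G : Type u} [Group G] [Fintype G]

/-- The permutation character on the cosets of `B`. -/
noncomputable def permB (B : Subgroup G) : G → ℂ := indFun B (fun _ => (1 : ℂ))

theorem isCharacter_permB (B : Subgroup G) : IsCharacter G (permB B) := by
  have h : IsCharacter B (fun _ => (1 : ℂ)) := H12.isCharacter_irr (H12.oneIrr B)
  exact H12.IsCharacter.indFun h

theorem permB_apply (B : Subgroup G) (g : G) :
    permB B g = (Nat.card B : ℂ)⁻¹ * (Nat.card {x : G // x⁻¹ * g * x ∈ B} : ℂ) := by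
  classical
  rw [permB, H12.indFun_apply, Nat.card_eq_fintype_card (α := {x : G // x⁻¹ * g * x ∈ B}),
    Fintype.card_subtype, ← Finset.sum_boole]
  congr 1
  refine Finset.sum_congr rfl fun x _ => ?_
  rw [H12.extendByZero_eq_dite]
  split_ifs <;> rfl

theorem permB_apply_C {B C : Subgroup G} (hcop : Nat.Coprime (Nat.card C) (Nat.card B)) {h : G}
    (hh : h ∈ C) (h1 : h ≠ 1) : permB B h = 0 := by
  have : IsEmpty {x : G // x⁻¹ * h * x ∈ B} := ⟨fun ⟨x, hx⟩ => h1 (by
    rw [← orderOf_eq_one_iff]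
    refine Nat.eq_one_of_dvd_coprimes hcop (C.orderOf_dvd_natCard hh) ?_
    have e : orderOf (x⁻¹ * h * x) = orderOf h := by
      simpa using (MulAut.conj x⁻¹).orderOf_eq h
    exact e ▸ B.orderOf_dvd_natCard hx)⟩
  rw [permB_apply, Nat.card_eq_zero.2 (Or.inl this), Nat.cast_zero, mul_zero]

theorem sum_coef {C : Subgroup G} [Fintype (C →* ℂˣ)] (hA : ∀ a b : C, a * b = b * a)
    (χ : IrrCharacter G) :
    (∑ θ : C →* ℂˣ, (H13.TI.coef χ θ : ℂ)) = (χ : G → ℂ) 1 := by
  classical
  haveI := Fintype.ofFinite C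
  simp only [← H13.TI.coef_res, H12.classInner_def, H13.TI.lf]
  rw [← Finset.mul_sum, Finset.sum_comm]
  simp only [← Finset.mul_sum]
  have hb : Function.Bijective (H12.linIrr (G := C)) := by
    refine ⟨H12.linIrr_injective, fun ψ => ?_⟩
    obtain ⟨f, hf⟩ := H12.exists_monoidHom_of_apply_one_eq_one (H12.isCharacter_irr ψ)
      (H12.irr_apply_one_of_comm hA ψ)
    exact ⟨f, Subtype.ext hf⟩
  have key : ∀ x : C, (∑ θ : C →* ℂˣ, conj ((θ x : ℂ))) = if x = 1 then (Nat.card C : ℂ) else 0 := by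
    intro x
    rw [← map_sum]
    have h := H12.regular_eq_sum x
    rw [← hb.sum_comp] at h
    have e : (∑ θ : C →* ℂˣ, (θ x : ℂ)) = if x = 1 then (Nat.card C : ℂ) else 0 := by
      refine Eq.trans (Finset.sum_congr rfl fun θ _ => ?_) (h.trans (by split_ifs <;> rfl))
      rw [H12.irr_apply_one_of_comm hA, one_mul, H12.linIrr_apply]
    rw [e]; split_ifs <;> simp
  simp only [key, mul_ite, mul_zero, Finset.sum_ite_eq', Finset.mem_univ, if_true]
  rw [OneMemClass.coe_one, mul_comm, mul_assoc, mul_inv_cancel₀, mul_one]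
  exact_mod_cast Nat.card_pos.ne'

theorem coef_oneIrr {C : Subgroup G} (θ : C →* ℂˣ) (hθ : θ ≠ 1) :
    H13.TI.coef (H12.oneIrr G) θ = 0 := by
  classical
  haveI := Fintype.ofFinite C
  have h := H13.TI.coef_res (H12.oneIrr G) θ
  have e : (fun h : C => (H12.oneIrr G : G → ℂ) (h : G)) = H13.TI.lf (1 : C →* ℂˣ) := by
    funext x; simp [H13.TI.lf, H12.oneIrr_apply]
  rw [e, H13.TI.lf_inner, if_neg (Ne.symm hθ)] at h
  exact_mod_cast h.symm

theorem coef_oneIrr_one {C : Subgroup G} :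
    H13.TI.coef (H12.oneIrr G) (1 : C →* ℂˣ) = 1 := by
  classical
  haveI := Fintype.ofFinite C
  have h := H13.TI.coef_res (H12.oneIrr G) (1 : C →* ℂˣ)
  have e : (fun h : C => (H12.oneIrr G : G → ℂ) (h : G)) = H13.TI.lf (1 : C →* ℂˣ) := by
    funext x; simp [H13.TI.lf, H12.oneIrr_apply]
  rw [e, H13.TI.lf_inner, if_pos rfl] at h
  exact_mod_cast h.symm

theorem degree_coprime {B C : Subgroup G} (hH : H13.TI.Hyp C)
    (hA : ∀ a b : C, a * b = b * a) (hcop : Nat.Coprime (Nat.card C) (Nat.card B))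
    (hord : Nat.card B * Nat.card C = Nat.card G) {m : IrrCharacter G → ℕ}
    (hm : permB B = ∑ χ, (m χ : ℂ) • (χ : G → ℂ)) :
    m (H12.oneIrr G) = 1 ∧ ∀ χ, χ ≠ H12.oneIrr G → m χ ≠ 0 →
      Nat.Coprime (H12.degree (χ : G → ℂ)) (Nat.card C) := by
  classical
  haveI : Finite (C →* ℂˣ) := Nat.finite_of_card_ne_zero (by
    rw [H12.card_monoidHom_units]; exact Subgroup.index_ne_zero_of_finite)
  haveI := Fintype.ofFinite (C →* ℂˣ)
  haveI := Fintype.ofFinite C
  haveI := Fintype.ofFinite B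
  have hm1 : m (H12.oneIrr G) = 1 := by
    have h := congrArg (fun f => classInner f (H12.oneIrr G : G → ℂ)) hm
    simp only [H12.classInner_sum_smul_irr] at h
    rw [permB, H12.classInner_indFun B _ (H12.irr_isClassFunction _)] at h
    have h2 : classInner (fun _ : B => (1 : ℂ)) (fun b : B => (H12.oneIrr G : G → ℂ) b) = 1 :=
      H12.classInner_irr_self (H12.oneIrr B)
    rw [h2] at h
    exact_mod_cast h.symm
  refine ⟨hm1, ?_⟩
  have hπ1 : permB B 1 = (Nat.card C : ℂ) := by
    rw [permB, H12.indFun_one, mul_one]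
    congr 1
    have := B.card_mul_index
    rw [← hord] at this
    exact Nat.eq_of_mul_eq_mul_left Nat.card_pos this
  -- each linear character occurs once
  have hsum : ∀ θ : C →* ℂˣ, (∑ χ, m χ * H13.TI.coef χ θ) = 1 := by
    intro θ
    have h : classInner (fun h : C => permB B (h : G)) (H13.TI.lf θ) = 1 := by
      rw [H12.classInner_def, Finset.sum_eq_single (1 : C)]
      · rw [OneMemClass.coe_one, hπ1, H13.TI.lf_one_apply, map_one, mul_one, inv_mul_cancel₀]
        exact_mod_cast Nat.card_pos.ne'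
      · intro x _ hx
        rw [permB_apply_C hcop x.2 (fun e => hx (Subtype.ext e)), zero_mul]
      · intro h; exact absurd (Finset.mem_univ _) h
    have e : (fun h : C => permB B (h : G)) = ∑ χ, (m χ : ℂ) • fun h : C => (χ : G → ℂ) (h : G) := by
      funext x
      rw [hm]
      simp [Finset.sum_apply]
    rw [e, H12.classInner_sum_left] at h
    simp only [H12.classInner_smul_left, H13.TI.coef_res] at h
    exact_mod_cast h
  have huniq : ∀ θ : C →* ℂˣ, ∀ χ ψ, χ ≠ ψ → m χ * H13.TI.coef χ θ ≠ 0 →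
      m ψ * H13.TI.coef ψ θ = 0 := by
    intro θ χ ψ hne h
    have h2 := hsum θ
    rw [← Finset.add_sum_erase _ _ (Finset.mem_univ χ)] at h2
    have h3 : (∑ x ∈ Finset.univ.erase χ, m x * H13.TI.coef x θ) = 0 := by omega
    exact Finset.sum_eq_zero_iff.1 h3 ψ (Finset.mem_erase.2 ⟨Ne.symm hne, Finset.mem_univ _⟩)
  intro χ hχ hmχ
  have hone : H13.TI.coef χ (1 : C →* ℂˣ) = 0 := by
    have := huniq 1 (H12.oneIrr G) χ (Ne.symm hχ) (by rw [hm1, coef_oneIrr_one]; norm_num)
    exact (mul_eq_zero.1 this).resolve_left hmχ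
  have hle : ∀ θ : C →* ℂˣ, H13.TI.coef χ θ ≤ 1 := by
    intro θ
    have h1 := Finset.single_le_sum (f := fun x => m x * H13.TI.coef x θ)
      (fun _ _ => Nat.zero_le _) (Finset.mem_univ χ)
    rw [hsum θ] at h1
    exact le_trans (Nat.le_mul_of_pos_left _ (Nat.pos_of_ne_zero hmχ)) h1
  have hdeg : H12.degree (χ : G → ℂ) =
      (Finset.univ.filter fun θ : C →* ℂˣ => H13.TI.coef χ θ ≠ 0).card := by
    have h := sum_coef hA χ
    rw [H12.irr_apply_one] at h
    have h' : (∑ θ : C →* ℂˣ, H13.TI.coef χ θ) = H12.degree (χ : G → ℂ) := by exact_mod_cast h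
    rw [← h', Finset.card_filter]
    refine Finset.sum_congr rfl fun θ _ => ?_
    have := hle θ
    split_ifs with h0 <;> omega
  have hcardC : Fintype.card (C →* ℂˣ) = Nat.card C := by
    rw [← Nat.card_eq_fintype_card, H12.card_monoidHom_units]
    haveI : IsMulCommutative C := ⟨⟨hA⟩⟩
    rw [show commutator C = ⊥ from (commutator_eq_bot_iff C).2 inferInstance,
      Subgroup.index_bot]
  rw [hdeg]
  by_cases hall : ∀ θ : C →* ℂˣ, θ ≠ 1 → H13.TI.coef χ θ ≠ 0
  · have e : (Finset.univ.filter fun θ : C →* ℂˣ => H13.TI.coef χ θ ≠ 0) = Finset.univ.erase 1 := by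
      ext θ
      simp only [Finset.mem_filter, Finset.mem_univ, true_and, Finset.mem_erase, and_true]
      exact ⟨fun h e => h (e ▸ hone), hall θ⟩
    rw [e, Finset.card_erase_of_mem (Finset.mem_univ _), Finset.card_univ, hcardC]
    obtain ⟨k, hk⟩ : ∃ k, Nat.card C = k + 1 := ⟨Nat.card C - 1, by have := Nat.card_pos (α := C); omega⟩
    rw [hk, Nat.add_sub_cancel]
    exact (Nat.coprime_self_add_right).2 (Nat.coprime_one_right _)
  push Not at hall
  obtain ⟨ν, hν1, hν⟩ := hall
  obtain ⟨ψ, -, hψν⟩ : ∃ ψ ∈ (Finset.univ : Finset (IrrCharacter G)), m ψ * H13.TI.coef ψ ν ≠ 0 :=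
    Finset.exists_ne_zero_of_sum_ne_zero (by rw [hsum ν]; norm_num)
  have hψ1 : ψ ≠ H12.oneIrr G := fun e => by
    rw [e, coef_oneIrr ν hν1, mul_zero] at hψν; exact hψν rfl
  have hχψ : χ ≠ ψ := fun e => by rw [← e, hν, mul_zero] at hψν; exact hψν rfl
  have hψν1 : H13.TI.coef ψ ν = 1 := by
    have h1 := Finset.single_le_sum (f := fun x => m x * H13.TI.coef x ν)
      (fun _ _ => Nat.zero_le _) (Finset.mem_univ ψ)
    rw [hsum ν] at h1
    have : m ψ * H13.TI.coef ψ ν = 1 := by omega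
    exact Nat.eq_one_of_mul_eq_one_left this
  have hψ0 : ∀ θ, H13.TI.coef χ θ ≠ 0 → H13.TI.coef ψ θ = 0 := fun θ h => by
    have := huniq θ χ ψ hχψ (mul_ne_zero hmχ h)
    exact (mul_eq_zero.1 this).resolve_left (left_ne_zero_of_mul hψν)
  -- the virtual difference of two constituents
  have hrel : ∀ θ, H13.TI.coef χ θ ≠ 0 → ¬ H13.TI.Rel C ν θ := fun θ h hr => h (by
    rw [← H13.TI.coef_rel χ hr]; exact hν)
  have hdiff : ∀ θ : C →* ℂˣ, H13.TI.coef χ θ ≠ 0 →
      H13.TI.ind θ - H13.TI.ind ν = (χ : G → ℂ) - (ψ : G → ℂ) := by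
    intro θ hθ
    have hθ1 : θ ≠ 1 := fun e => hθ (e ▸ hone)
    have hχθ : H13.TI.coef χ θ = 1 := by have := hle θ; omega
    have a1 : classInner (H13.TI.ind θ - H13.TI.ind ν) (H13.TI.ind θ - H13.TI.ind ν) = 2 := by
      rw [H13.TI.isometry hH, H13.TI.nn_of_rel hH hθ1 (H13.TI.rel_refl C θ),
        H13.TI.nn_of_rel hH hν1 (H13.TI.rel_refl C ν), H13.TI.nn_of_not_rel (hrel θ hθ),
        H13.TI.nn_of_not_rel (fun h => hrel θ hθ (H13.TI.rel_symm C h))]
      ring
    have a2 : classInner (χ : G → ℂ) (H13.TI.ind θ - H13.TI.ind ν) = 1 := by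
      rw [H12.classInner_sub_right, H13.TI.coef_spec, H13.TI.coef_spec, hχθ, hν]; simp
    have a3 : classInner (ψ : G → ℂ) (H13.TI.ind θ - H13.TI.ind ν) = -1 := by
      rw [H12.classInner_sub_right, H13.TI.coef_spec, H13.TI.coef_spec, hψ0 θ hθ, hψν1]; simp
    rw [← sub_eq_zero, ← H12.classInner_self_eq_zero_iff]
    generalize H13.TI.ind θ - H13.TI.ind ν = D at a1 a2 a3 ⊢
    have a2' : classInner D (χ : G → ℂ) = 1 := by
      rw [← H12.conj_classInner, a2, map_one]
    have a3' : classInner D (ψ : G → ℂ) = -1 := by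
      rw [← H12.conj_classInner, a3, map_neg, map_one]
    simp only [H12.classInner_sub_left, H12.classInner_sub_right, a1, a2, a3, a2', a3',
      H12.classInner_irr]
    rw [if_neg hχψ, if_neg (Ne.symm hχψ)]
    norm_num
  obtain ⟨lam, hlam⟩ : ∃ lam : C →* ℂˣ, H13.TI.coef χ lam ≠ 0 := by
    by_contra hc
    push Not at hc
    refine (H12.irr_degree_pos χ).ne' ?_
    rw [hdeg, Finset.card_eq_zero, Finset.filter_eq_empty_iff]
    exact fun θ _ h => h (hc θ)
  have hlam1 : lam ≠ 1 := fun e => hlam (e ▸ hone)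
  have e : (Finset.univ.filter fun θ : C →* ℂˣ => H13.TI.coef χ θ ≠ 0) =
      Finset.univ.filter fun θ : C →* ℂˣ => H13.TI.Rel C lam θ := by
    ext θ
    simp only [Finset.mem_filter, Finset.mem_univ, true_and]
    refine ⟨fun hθ => ?_, fun hr => H13.TI.coef_rel χ hr ▸ hlam⟩
    by_contra hr
    have hθ1 : θ ≠ 1 := fun e => hθ (e ▸ hone)
    have h2 : classInner (H13.TI.ind lam - H13.TI.ind ν) (H13.TI.ind θ - H13.TI.ind ν) = 1 := by
      rw [H13.TI.isometry hH, H13.TI.nn_of_not_rel (fun h => hr (H13.TI.rel_symm C h)),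
        H13.TI.nn_of_rel hH hν1 (H13.TI.rel_refl C ν), H13.TI.nn_of_not_rel (hrel lam hlam),
        H13.TI.nn_of_not_rel (fun h => hrel θ hθ (H13.TI.rel_symm C h))]
      ring
    rw [hdiff lam hlam, hdiff θ hθ] at h2
    simp only [H12.classInner_sub_left, H12.classInner_sub_right, H12.classInner_irr] at h2
    rw [if_neg hχψ, if_neg (Ne.symm hχψ)] at h2
    norm_num at h2
  rw [e, ← Fintype.card_subtype, ← Nat.card_eq_fintype_card, H13.TI.card_orbit hH hlam1]
  have hv : 1 < (commutator C).index := by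
    rw [← H12.card_monoidHom_units, Nat.card_eq_fintype_card]
    exact Fintype.one_lt_card_iff.2 ⟨ν, 1, hν1⟩
  obtain ⟨F⟩ := H13.TI.exists_family hH hv
  have hce := F.card_eq
  rw [← H12.card_monoidHom_units, Nat.card_eq_fintype_card, hcardC] at hce
  rw [hce]
  exact (Nat.coprime_mul_left_add_right _ _ _).2 (Nat.coprime_one_right _)

/-- An element whose class has `|C|` members fixes exactly one coset of `B`. -/
theorem mem_of_conj_mem [IsSimpleGroup G] (hna : ¬ IsMulCommutative G) {B C : Subgroup G}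
    (hH : H13.TI.Hyp C) (hA : ∀ a b : C, a * b = b * a)
    (hcop : Nat.Coprime (Nat.card C) (Nat.card B))
    (hord : Nat.card B * Nat.card C = Nat.card G) {y : G} (hy : y ≠ 1) (hyB : y ∈ B)
    (hidx : (Subgroup.centralizer ({y} : Set G)).index = Nat.card C) {x : G}
    (hx : x⁻¹ * y * x ∈ B) : x ∈ B := by
  classical
  obtain ⟨m, hm⟩ := H12.IsCharacter.exists_mult (isCharacter_permB B)
  obtain ⟨hm1, hdeg⟩ := degree_coprime hH hA hcop hord hm
  have hval : permB B y = 1 := by
    rw [hm, Finset.sum_apply, Finset.sum_eq_single (H12.oneIrr G)]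
    · simp [hm1, H12.oneIrr_apply]
    · intro χ _ hχ
      by_cases h0 : m χ = 0
      · simp [h0]
      · rw [Pi.smul_apply, H19.PrimeDeg.burnside hna χ hχ hy (hidx ▸ hdeg χ hχ h0), smul_zero]
    · intro h; exact absurd (Finset.mem_univ _) h
  rw [permB_apply, inv_mul_eq_one₀ (by exact_mod_cast Nat.card_pos.ne')] at hval
  have hcard : Nat.card B = Nat.card {x : G // x⁻¹ * y * x ∈ B} := by exact_mod_cast hval
  let f : B → {x : G // x⁻¹ * y * x ∈ B} := fun b =>
    ⟨b, B.mul_mem (B.mul_mem (B.inv_mem b.2) hyB) b.2⟩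
  have hf : Function.Injective f := fun a b h => Subtype.ext (congrArg (fun z : {x : G // x⁻¹ * y * x ∈ B} => z.1) h)
  obtain ⟨b, hb⟩ := (hf.bijective_of_nat_card_le hcard.ge).2 ⟨x, hx⟩
  have e : (b : G) = x := congrArg Subtype.val hb
  exact e ▸ b.2

end H8.Rank3
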