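import Mathlib
import Cfsg.Agent.H8.Rank3Basic
import Cfsg.Agent.H8.Rank3Chars
import Cfsg.Agent.H85.BrauerSuzuki
import Cfsg.Agent.H3.TwoCentral
import Cfsg.Agent.S0143

/-!
In a finite simple group with exactly three orders of centralisers of nontrivial elements the
centralisers of involutions are abelian.
-/

set_option autoImplicit false
set_option linter.unusedSectionVars false
set_option maxHeartbeats 800000

namespace H8.Rank3

universe u

variable {G : Type u} [Group G] [Finite G] [IsSimpleGroup G]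

/-- No two distinct centraliser orders divide one another. -/
def NoDiv (G : Type u) [Group G] : Prop :=
  ∀ x y : G, x ≠ 1 → y ≠ 1 → cc x ∣ cc y → cc x = cc y

/-- Three centraliser orders, the first a divisor of the second. -/
structure DivData (G : Type u) [Group G] (a b c : ℕ) : Prop where
  na : ¬ IsMulCommutative G
  hab : a ∣ b
  ne_ab : a ≠ b
  ne_ac : a ≠ c
  ne_bc : b ≠ c
  mem : ∀ x : G, x ≠ 1 → cc x = a ∨ cc x = b ∨ cc x = c
  eb : ∃ x : G, x ≠ 1 ∧ cc x = b
  ec : ∃ x : G, x ≠ 1 ∧ cc x = c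

theorem orderOf_ne_one_of_prime {x : G} {p : ℕ} (hp : p.Prime) (h : orderOf x = p) : x ≠ 1 := by
  intro e
  rw [e, orderOf_one] at h
  exact hp.ne_one h.symm

section div

variable {a b c : ℕ}

theorem DivData.b_pos (D : DivData G a b c) : 0 < b := by
  obtain ⟨x, -, rfl⟩ := D.eb; exact cc_pos x

theorem DivData.c_pos (D : DivData G a b c) : 0 < c := by
  obtain ⟨x, -, rfl⟩ := D.ec; exact cc_pos x

theorem DivData.b_lt (D : DivData G a b c) : b < Nat.card G := by
  obtain ⟨x, hx, rfl⟩ := D.eb; exact cc_lt D.na hx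

theorem DivData.c_lt (D : DivData G a b c) : c < Nat.card G := by
  obtain ⟨x, hx, rfl⟩ := D.ec; exact cc_lt D.na hx

theorem DivData.full (D : DivData G a b c) {p : ℕ} [Fact p.Prime] (P : Sylow p G) :
    Nat.card (P : Subgroup G) ∣ b ∨ Nat.card (P : Subgroup G) ∣ c := by
  by_cases hp : p ∣ Nat.card G
  · obtain ⟨w, -, hw, hle⟩ := exists_central_of_sylow hp P
    have hd : Nat.card (P : Subgroup G) ∣ cc w := Subgroup.card_dvd_of_le hle
    rcases D.mem w (orderOf_ne_one_of_prime Fact.out hw) with h | h | h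
    · exact Or.inl (h ▸ hd |>.trans D.hab)
    · exact Or.inl (h ▸ hd)
    · exact Or.inr (h ▸ hd)
  · left
    rw [P.card_eq_multiplicity, Nat.factorization_eq_zero_of_not_dvd hp, pow_zero]
    exact one_dvd _

theorem DivData.card_dvd_lcm (D : DivData G a b c) : Nat.card G ∣ Nat.lcm b c := by
  refine (Nat.dvd_iff_prime_pow_dvd_dvd _ _).2 fun p k hp hd => ?_
  haveI := Fact.mk hp
  obtain ⟨P⟩ : Nonempty (Sylow p G) := Sylow.nonempty
  rcases D.full P with h | h
  · exact ((pow_dvd_sylow_card P hd).trans h).trans (Nat.dvd_lcm_left _ _)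
  · exact ((pow_dvd_sylow_card P hd).trans h).trans (Nat.dvd_lcm_right _ _)

theorem DivData.not_b_dvd_c (D : DivData G a b c) : ¬ b ∣ c := fun h => by
  have := Nat.le_of_dvd D.c_pos (D.card_dvd_lcm.trans (Nat.lcm_dvd h dvd_rfl))
  have := D.c_lt
  omega

theorem DivData.not_c_dvd_b (D : DivData G a b c) : ¬ c ∣ b := fun h => by
  have := Nat.le_of_dvd D.b_pos (D.card_dvd_lcm.trans (Nat.lcm_dvd dvd_rfl h))
  have := D.b_lt
  omega

theorem DivData.not_b_dvd_a (D : DivData G a b c) : ¬ b ∣ a := fun h =>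
  D.ne_ab (Nat.dvd_antisymm D.hab h)

theorem DivData.eq_b_of_dvd (D : DivData G a b c) {x : G} (hx : x ≠ 1) (h : b ∣ cc x) :
    cc x = b := by
  rcases D.mem x hx with e | e | e
  · exact absurd (e ▸ h) D.not_b_dvd_a
  · exact e
  · exact absurd (e ▸ h) D.not_b_dvd_c

theorem DivData.eq_c_of_dvd (D : DivData G a b c) {x : G} (hx : x ≠ 1) (h : c ∣ cc x) :
    cc x = c := by
  rcases D.mem x hx with e | e | e
  · exact absurd ((e ▸ h).trans D.hab) D.not_c_dvd_b
  · exact absurd (e ▸ h) D.not_c_dvd_b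
  · exact e

/-- Elements of the two large types do not commute. -/
theorem DivData.not_commute (D : DivData G a b c) {y z : G} (hy : y ≠ 1) (hz : z ≠ 1)
    (hb : cc y = b) (hc : cc z = c) : ¬ Commute y z := by
  intro hyz
  set H := Cz z with hH
  set K := Cz y with hK
  have hyH : y ∈ H := mem_Cz.2 hyz
  let f : H ⧸ K.subgroupOf H → G ⧸ K := Quotient.map' (fun h => (h : G)) fun x x' hxx => by
    rw [QuotientGroup.leftRel_apply] at hxx ⊢
    exact hxx
  have hf : Function.Injective f := by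
    intro q q'
    refine Quotient.inductionOn₂' q q' fun x x' hxx => ?_
    apply Quotient.sound'
    have := Quotient.exact' hxx
    rw [QuotientGroup.leftRel_apply] at this ⊢
    exact this
  have h1 : Nat.card (K.subgroupOf H) * (K.subgroupOf H).index = c := by
    rw [Subgroup.card_mul_index]; exact hc
  have h2 : b * K.index = Nat.card G := by rw [← hb]; exact K.card_mul_index
  have hd : Nat.card (K.subgroupOf H) ∣ Nat.gcd b c := by
    refine Nat.dvd_gcd ?_ ⟨_, h1.symm⟩
    rw [← hb]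
    exact Subgroup.card_dvd_of_injective
      ((H.subtype.comp (K.subgroupOf H).subtype).codRestrict K fun x => x.2)
      fun x x' h => by
        have := congrArg Subtype.val h
        exact Subtype.ext (Subtype.ext this)
  have hle : Nat.card (G ⧸ K) ≤ Nat.card (H ⧸ K.subgroupOf H) := by
    rw [← Subgroup.index_eq_card, ← Subgroup.index_eq_card]
    have e1 : b * K.index ≤ Nat.lcm b c := by
      rw [h2]; exact Nat.le_of_dvd (Nat.lcm_pos D.b_pos D.c_pos) D.card_dvd_lcm
    have e2 : Nat.card (K.subgroupOf H) ≤ Nat.gcd b c :=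
      Nat.le_of_dvd (Nat.gcd_pos_of_pos_left _ D.b_pos) hd
    have e3 : b * K.index * Nat.card (K.subgroupOf H) ≤
        b * (K.subgroupOf H).index * Nat.card (K.subgroupOf H) := by
      refine le_trans (Nat.mul_le_mul e1 e2) ?_
      rw [mul_comm (Nat.lcm b c), Nat.gcd_mul_lcm, mul_assoc, mul_comm _ (Nat.card _), h1]
    exact Nat.le_of_mul_le_mul_left (Nat.le_of_mul_le_mul_right e3 Nat.card_pos) D.b_pos
  have hs := (hf.bijective_of_nat_card_le hle).2
  have hall : ∀ g : G, g * y * g⁻¹ ∈ H := by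
    intro g
    obtain ⟨q, hq⟩ := hs (g : G ⧸ K)
    induction q using Quotient.inductionOn' with
    | h x =>
      have h3 : (x : G)⁻¹ * g ∈ K := QuotientGroup.eq.1 hq
      have h4 := mem_Cz.1 h3
      have e : g * y * g⁻¹ = (x : G) * y * (x : G)⁻¹ := by
        calc g * y * g⁻¹ = (x : G) * ((x : G)⁻¹ * g * y) * g⁻¹ := by group
          _ = (x : G) * (y * ((x : G)⁻¹ * g)) * g⁻¹ := by rw [h4]
          _ = _ := by group
      rw [e]
      exact H.mul_mem (H.mul_mem x.2 hyH) (H.inv_mem x.2)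
  have hn : Subgroup.normalClosure ({y} : Set G) ≤ H := by
    rw [Subgroup.normalClosure, Subgroup.closure_le]
    intro w hw
    obtain ⟨v, hv, hw⟩ := Group.mem_conjugatesOfSet_iff.1 hw
    obtain ⟨g, rfl⟩ := isConj_iff.1 hw
    rw [Set.mem_singleton_iff.1 hv]
    exact hall g
  rcases (Subgroup.normalClosure_normal (s := ({y} : Set G))).eq_bot_or_eq_top with h | h
  · exact hy (Subgroup.mem_bot.1 (h ▸ Subgroup.subset_normalClosure rfl))
  · exact Cz_ne_top D.na hz (top_le_iff.1 (h ▸ hn))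

theorem DivData.sylow_dvd_b_of_elem (D : DivData G a b c) {p : ℕ} [Fact p.Prime] {y : G}
    (hy : orderOf y = p) (hb : cc y = b) (Q : Sylow p G) : Nat.card (Q : Subgroup G) ∣ b := by
  obtain ⟨P, hyP⟩ := exists_sylow_mem (x := y) (k := 1) (hy.trans (pow_one p).symm)
  have hp : p ∣ Nat.card G := hy ▸ orderOf_dvd_natCard y
  obtain ⟨w, -, hw, hle⟩ := exists_central_of_sylow hp P
  have hd : Nat.card (P : Subgroup G) ∣ cc w := Subgroup.card_dvd_of_le hle
  rw [sylow_card_eq Q P]
  rcases D.mem w (orderOf_ne_one_of_prime Fact.out hw) with h | h | h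
  · exact (h ▸ hd).trans D.hab
  · exact h ▸ hd
  · exact absurd (show Commute y w from mem_Cz.1 (hle hyP))
      (D.not_commute (orderOf_ne_one_of_prime Fact.out hy) (orderOf_ne_one_of_prime Fact.out hw) hb h)

theorem DivData.exists_b_prime (D : DivData G a b c) :
    ∃ (p : ℕ) (y : G), p.Prime ∧ orderOf y = p ∧ cc y = b := by
  obtain ⟨x, hx, hb⟩ := D.eb
  obtain ⟨p, y, hp, hy, hyx⟩ := exists_prime_power_elem hx
  exact ⟨p, y, hp, hy, D.eq_b_of_dvd (orderOf_ne_one_of_prime hp hy)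
    (hb ▸ cc_le_of_le (Cz_le_of_mem_zpowers hyx))⟩

theorem DivData.sylow_dvd_b (D : DivData G a b c) {r : ℕ} [Fact r.Prime] (hr : r ∣ b)
    (Q : Sylow r G) : Nat.card (Q : Subgroup G) ∣ b := by
  by_contra hQ
  obtain ⟨p, y, hp, hy, hb⟩ := D.exists_b_prime
  haveI := Fact.mk hp
  have hy1 := orderOf_ne_one_of_prime hp hy
  have hrp : r ≠ p := by
    intro e; subst e
    exact hQ (D.sylow_dvd_b_of_elem hy hb Q)
  obtain ⟨⟨u, huC⟩, hu'⟩ := exists_prime_orderOf_dvd_card' (G := Cz y) r (by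
    show r ∣ cc y
    rw [hb]; exact hr)
  have hu : orderOf u = r := by rw [← hu', Subgroup.orderOf_mk]
  have hu1 := orderOf_ne_one_of_prime Fact.out hu
  have huy : Commute u y := mem_Cz.1 huC
  have hua : cc u = a := by
    rcases D.mem u hu1 with h | h | h
    · exact h
    · exact absurd (D.sylow_dvd_b_of_elem hu h Q) hQ
    · exact absurd huy.symm (D.not_commute hy1 hu1 hb h)
  have hco : Nat.Coprime (orderOf u) (orderOf y) := by
    rw [hu, hy]; exact (Nat.coprime_primes Fact.out hp).2 hrp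
  have hm := Cz_mul_eq huy hco
  have huy1 : u * y ≠ 1 := by
    intro e
    have := huy.orderOf_mul_eq_mul_orderOf_of_coprime hco
    rw [e, orderOf_one, hu, hy] at this
    have := Nat.eq_one_of_mul_eq_one_left this.symm
    exact hp.ne_one this
  have h1 : cc (u * y) ∣ a := hua ▸ cc_le_of_le (hm.le.trans inf_le_left)
  have h2 : cc (u * y) = a := by
    rcases D.mem _ huy1 with h | h | h
    · exact h
    · exact absurd (h ▸ h1) D.not_b_dvd_a
    · exact absurd ((h ▸ h1).trans D.hab) D.not_c_dvd_b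
  have h3 : Cz u ≤ Cz y := by
    rw [← Cz_eq_of_le (hm.le.trans inf_le_left) (h2.trans hua.symm)]
    exact hm.le.trans inf_le_right
  obtain ⟨R, huR⟩ := exists_sylow_mem (x := u) (k := 1) (hu.trans (pow_one r).symm)
  obtain ⟨w, -, hw, hle⟩ := exists_central_of_sylow (hu ▸ orderOf_dvd_natCard u) R
  have hd : Nat.card (R : Subgroup G) ∣ cc w := Subgroup.card_dvd_of_le hle
  rw [sylow_card_eq Q R] at hQ
  have hw1 := orderOf_ne_one_of_prime Fact.out hw
  have hwc : cc w = c := by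
    rcases D.mem w hw1 with h | h | h
    · exact absurd ((h ▸ hd).trans D.hab) hQ
    · exact absurd (h ▸ hd) hQ
    · exact h
  have hwu : w ∈ Cz u := mem_Cz_comm.1 (hle huR)
  exact D.not_commute hy1 hw1 hb hwc (show Commute y w from (mem_Cz.1 (h3 hwu)).symm)

/-- An element of prime order whose centraliser has an order prime to `b`. -/
theorem DivData.exists_c_prime (D : DivData G a b c) :
    ∃ (r : ℕ) (z : G), r.Prime ∧ orderOf z = r ∧ cc z = c ∧ ¬ r ∣ b := by
  obtain ⟨r, k, hr, hd, hn⟩ : ∃ r k : ℕ, r.Prime ∧ r ^ k ∣ Nat.card G ∧ ¬ r ^ k ∣ b := by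
    by_contra h
    push Not at h
    have := Nat.le_of_dvd D.b_pos ((Nat.dvd_iff_prime_pow_dvd_dvd _ _).2 h)
    have := D.b_lt
    omega
  haveI := Fact.mk hr
  obtain ⟨P⟩ : Nonempty (Sylow r G) := Sylow.nonempty
  have hPb : ¬ Nat.card (P : Subgroup G) ∣ b := fun h => hn ((pow_dvd_sylow_card P hd).trans h)
  have hrb : ¬ r ∣ b := fun h => hPb (D.sylow_dvd_b h P)
  have hrG : r ∣ Nat.card G := by
    rcases Nat.eq_zero_or_pos k with hk | hk
    · exact absurd (by rw [hk, pow_zero]; exact one_dvd _) hn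
    · exact (dvd_pow_self r hk.ne').trans hd
  obtain ⟨z, -, hz, hle⟩ := exists_central_of_sylow hrG P
  have hdz : Nat.card (P : Subgroup G) ∣ cc z := Subgroup.card_dvd_of_le hle
  refine ⟨r, z, hr, hz, ?_, hrb⟩
  rcases D.mem z (orderOf_ne_one_of_prime hr hz) with h | h | h
  · exact absurd ((h ▸ hdz).trans D.hab) hPb
  · exact absurd (h ▸ hdz) hPb
  · exact h

theorem DivData.c_type_of_r_dvd (D : DivData G a b c) {r : ℕ} (hrb : ¬ r ∣ b) {x : G}
    (hx : x ≠ 1) (h : r ∣ cc x) : cc x = c := by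
  rcases D.mem x hx with e | e | e
  · exact absurd ((e ▸ h).trans D.hab) hrb
  · exact absurd (e ▸ h) hrb
  · exact e

theorem DivData.sylow_dvd_c (D : DivData G a b c) {t : ℕ} [Fact t.Prime] (ht : t ∣ c)
    (Q : Sylow t G) : Nat.card (Q : Subgroup G) ∣ c := by
  by_contra hQ
  obtain ⟨r, z, hr, hz, hc, hrb⟩ := D.exists_c_prime
  have hz1 := orderOf_ne_one_of_prime hr hz
  have hQb : Nat.card (Q : Subgroup G) ∣ b := (D.full Q).resolve_right hQ
  obtain ⟨⟨u, huC⟩, hu'⟩ := exists_prime_orderOf_dvd_card' (G := Cz z) t (by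
    show t ∣ cc z
    rw [hc]; exact ht)
  have hu : orderOf u = t := by rw [← hu', Subgroup.orderOf_mk]
  have hu1 := orderOf_ne_one_of_prime Fact.out hu
  have huz : Commute u z := mem_Cz.1 huC
  have htr : t ≠ r := by
    intro e; subst e
    refine hrb (Dvd.dvd.trans ?_ hQb)
    obtain ⟨P, hP⟩ := exists_sylow_mem (x := u) (k := 1) (hu.trans (pow_one t).symm)
    rw [sylow_card_eq Q P]
    exact hu ▸ (P : Subgroup G).orderOf_dvd_natCard hP
  have hco : Nat.Coprime (orderOf u) (orderOf z) := by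
    rw [hu, hz]; exact (Nat.coprime_primes Fact.out hr).2 htr
  have hm := Cz_mul_eq huz hco
  have huz1 : u * z ≠ 1 := by
    intro e
    have := huz.orderOf_mul_eq_mul_orderOf_of_coprime hco
    rw [e, orderOf_one, hu, hz] at this
    exact hr.ne_one (Nat.eq_one_of_mul_eq_one_left this.symm)
  have hzuz : z ∈ Cz (u * z) := hm ▸ ⟨mem_Cz_comm.1 huC, self_mem_Cz z⟩
  have h1 : cc (u * z) = c :=
    D.c_type_of_r_dvd hrb huz1 (hz ▸ (Cz (u * z)).orderOf_dvd_natCard hzuz)
  have h2 : Cz z ≤ Cz u := by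
    rw [← Cz_eq_of_le (hm.le.trans inf_le_right) (h1.trans hc.symm)]
    exact hm.le.trans inf_le_left
  have h3 : cc u = c := D.eq_c_of_dvd hu1 (hc ▸ cc_le_of_le h2)
  have h4 : Cz z = Cz u := Cz_eq_of_le h2 (hc.trans h3.symm)
  obtain ⟨R, huR⟩ := exists_sylow_mem (x := u) (k := 1) (hu.trans (pow_one t).symm)
  obtain ⟨w, -, hw, hle⟩ := exists_central_of_sylow (hu ▸ orderOf_dvd_natCard u) R
  have hd : Nat.card (R : Subgroup G) ∣ cc w := Subgroup.card_dvd_of_le hle
  rw [sylow_card_eq Q R] at hQ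
  have hw1 := orderOf_ne_one_of_prime Fact.out hw
  have hwz : z ∈ Cz w := mem_Cz_comm.1 (show w ∈ Cz z from h4 ▸ mem_Cz_comm.1 (hle huR))
  exact hQ ((D.c_type_of_r_dvd hrb hw1 (hz ▸ (Cz w).orderOf_dvd_natCard hwz)) ▸ hd)

theorem DivData.coprime (D : DivData G a b c) : Nat.Coprime b c := by
  refine Nat.coprime_of_dvd fun t ht htb htc => ?_
  haveI := Fact.mk ht
  obtain ⟨r, z, hr, hz, hc, hrb⟩ := D.exists_c_prime
  obtain ⟨q, y, hq, hy, hb⟩ := D.exists_b_prime
  obtain ⟨Q⟩ : Nonempty (Sylow t G) := Sylow.nonempty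
  have htr : t ≠ r := fun e => hrb (e ▸ htb)
  have hQb := D.sylow_dvd_b htb Q
  have hQc := D.sylow_dvd_c htc Q
  have htG : t ∣ Nat.card G := htc.trans (hc ▸ cc_dvd z)
  -- Sylow subgroups inside the two centralisers
  obtain ⟨T1', hT1'⟩ := Sylow.exists_subgroup_card_pow_prime t (n := (Nat.card G).factorization t)
    (G := Cz z) (by rw [← Q.card_eq_multiplicity]; show _ ∣ cc z; rw [hc]; exact hQc)
  obtain ⟨T2', hT2'⟩ := Sylow.exists_subgroup_card_pow_prime t (n := (Nat.card G).factorization t)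
    (G := Cz y) (by rw [← Q.card_eq_multiplicity]; show _ ∣ cc y; rw [hb]; exact hQb)
  let T1 : Sylow t G := Sylow.ofCard (T1'.map (Cz z).subtype)
    (by rw [Subgroup.card_map_of_injective (Cz z).subtype_injective, hT1'])
  let T2 : Sylow t G := Sylow.ofCard (T2'.map (Cz y).subtype)
    (by rw [Subgroup.card_map_of_injective (Cz y).subtype_injective, hT2'])
  obtain ⟨w, hwT, hw, hle⟩ := exists_central_of_sylow htG T1
  have hw1 := orderOf_ne_one_of_prime ht hw
  have hwz : w ∈ Cz z := Subgroup.map_subtype_le _ (show w ∈ T1'.map (Cz z).subtype from hwT)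
  have hcomm : Commute w z := mem_Cz.1 hwz
  have hco : Nat.Coprime (orderOf w) (orderOf z) := by
    rw [hw, hz]; exact (Nat.coprime_primes ht hr).2 htr
  have hm := Cz_mul_eq hcomm hco
  have hwz1 : w * z ≠ 1 := by
    intro e
    have := hcomm.orderOf_mul_eq_mul_orderOf_of_coprime hco
    rw [e, orderOf_one, hw, hz] at this
    exact hr.ne_one (Nat.eq_one_of_mul_eq_one_left this.symm)
  have h1 : cc (w * z) = c := D.c_type_of_r_dvd hrb hwz1
    (hz ▸ (Cz (w * z)).orderOf_dvd_natCard (hm ▸ ⟨mem_Cz_comm.1 hwz, self_mem_Cz z⟩))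
  have h2 : Cz z ≤ Cz w := by
    rw [← Cz_eq_of_le (hm.le.trans inf_le_right) (h1.trans hc.symm)]
    exact hm.le.trans inf_le_left
  have hwc : cc w = c := D.eq_c_of_dvd hw1 (hc ▸ cc_le_of_le h2)
  obtain ⟨g, hg⟩ := MulAction.exists_smul_eq G T1 T2
  have hw2 : g * w * g⁻¹ ∈ (T2 : Subgroup G) := by
    rw [← hg, Sylow.coe_subgroup_smul]
    exact ⟨w, hwT, rfl⟩
  have hwy : g * w * g⁻¹ ∈ Cz y :=
    Subgroup.map_subtype_le _ (show g * w * g⁻¹ ∈ T2'.map (Cz y).subtype from hw2)
  refine D.not_commute (orderOf_ne_one_of_prime hq hy) (fun e => hw1 (conj_eq_one_iff.1 e)) hb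
    ((cc_conj g w).trans hwc) ?_
  exact (show Commute (g * w * g⁻¹) y from mem_Cz.1 hwy).symm

theorem DivData.mul_eq (D : DivData G a b c) : b * c = Nat.card G := by
  rw [← D.coprime.lcm_eq_mul]
  refine Nat.dvd_antisymm (Nat.lcm_dvd ?_ ?_) D.card_dvd_lcm
  · obtain ⟨x, -, rfl⟩ := D.eb; exact cc_dvd x
  · obtain ⟨x, -, rfl⟩ := D.ec; exact cc_dvd x

theorem DivData.c_type_in (D : DivData G a b c) {z u : G} (hz : z ≠ 1) (hc : cc z = c)
    (hu : u ∈ Cz z) (hu1 : u ≠ 1) : cc u = c := by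
  have h1 : orderOf z ∣ c := hc ▸ orderOf_dvd_cc z
  have h2 : orderOf z ∣ cc u := (Cz u).orderOf_dvd_natCard (mem_Cz_comm.1 hu)
  rcases D.mem u hu1 with e | e | e
  · exact absurd (orderOf_eq_one_iff.1
      (Nat.eq_one_of_dvd_coprimes D.coprime ((e ▸ h2).trans D.hab) h1)) hz
  · exact absurd (orderOf_eq_one_iff.1 (Nat.eq_one_of_dvd_coprimes D.coprime (e ▸ h2) h1)) hz
  · exact e

theorem DivData.c_comm (D : DivData G a b c) {z : G} (hz : z ≠ 1) (hc : cc z = c) :
    IsMulCommutative (Cz z) := by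
  obtain ⟨p, z', hp, hz', hzz⟩ := exists_prime_power_elem hz
  have hz'1 := orderOf_ne_one_of_prime hp hz'
  have hle := Cz_le_of_mem_zpowers hzz
  have hzc : cc z' = c := D.eq_c_of_dvd hz'1 (hc ▸ cc_le_of_le hle)
  have he : Cz z = Cz z' := Cz_eq_of_le hle (hc.trans hzc.symm)
  rw [he]
  -- coprime commuting elements of one centraliser have equal centralisers
  have pair : ∀ u v : G, u ∈ Cz z' → v ∈ Cz z' → u ≠ 1 → v ≠ 1 → Commute u v →
      Nat.Coprime (orderOf u) (orderOf v) → Cz u = Cz v := by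
    intro u v hu hv hu1 hv1 huv hco
    have hm := Cz_mul_eq huv hco
    have huv1 : u * v ≠ 1 := by
      intro e
      have := huv.orderOf_mul_eq_mul_orderOf_of_coprime hco
      rw [e, orderOf_one] at this
      exact hu1 (orderOf_eq_one_iff.1 (Nat.eq_one_of_mul_eq_one_right this.symm))
    have h := D.c_type_in hz'1 hzc ((Cz z').mul_mem hu hv) huv1
    rw [← Cz_eq_of_le (hm.le.trans inf_le_left) (h.trans (D.c_type_in hz'1 hzc hu hu1).symm),
      ← Cz_eq_of_le (hm.le.trans inf_le_right) (h.trans (D.c_type_in hz'1 hzc hv hv1).symm)]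
  by_cases hq : ∃ q : ℕ, q.Prime ∧ q ∣ c ∧ q ≠ p
  · obtain ⟨q, hq, hqc, hqp⟩ := hq
    haveI := Fact.mk hq
    obtain ⟨⟨v0, hv0C⟩, hv0'⟩ := exists_prime_orderOf_dvd_card' (G := Cz z') q (by
      show q ∣ cc z'
      rw [hzc]; exact hqc)
    have hv0 : orderOf v0 = q := by rw [← hv0', Subgroup.orderOf_mk]
    have hv01 := orderOf_ne_one_of_prime hq hv0
    have e0 : Cz v0 = Cz z' := pair v0 z' hv0C (self_mem_Cz _) hv01 hz'1 (mem_Cz.1 hv0C)
      (by rw [hv0, hz']; exact (Nat.coprime_primes hq hp).2 hqp)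
    refine isMulCommutative_of_primePow_central fun r k hr v hv hv' => ?_
    rcases eq_or_ne v 1 with rfl | hv1
    · exact fun g _ => mem_Cz.2 (by simp)
    by_cases hrp : r = p
    · subst hrp
      have hvv : v ∈ Cz v0 := e0 ▸ hv
      rw [pair v v0 hv hv0C hv1 hv01 (mem_Cz.1 hvv) (by
        rw [hv', hv0]; exact ((Nat.coprime_primes hr hq).2 (Ne.symm hqp)).pow_left k), e0]
    · rw [pair v z' hv (self_mem_Cz _) hv1 hz'1 (mem_Cz.1 hv) (by
        rw [hv', hz']; exact ((Nat.coprime_primes hr hp).2 hrp).pow_left k)]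
  · exfalso
    push Not at hq
    have hcp := Nat.eq_prime_pow_of_unique_prime_dvd D.c_pos.ne' fun {d} hd hdc => hq d hd hdc
    obtain ⟨y, hy, hb⟩ := D.eb
    have hidx : (Cz y).index = c := by
      have h := (Cz y).card_mul_index
      rw [← D.mul_eq] at h
      rw [show Nat.card (Cz y) = b from hb] at h
      exact Nat.eq_of_mul_eq_mul_left D.b_pos h
    haveI := Fact.mk (Cfsg.Agent.S0143.result p _ hp y hy (hidx.trans hcp))
    haveI := isCyclic_of_prime_card (α := G) rfl
    exact D.na inferInstance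

theorem DivData.c_eq (D : DivData G a b c) {z u : G} (hz : z ≠ 1) (hc : cc z = c)
    (hu : u ∈ Cz z) (hu1 : u ≠ 1) : Cz u = Cz z :=
  (Cz_eq_of_le (fun g hg => mem_Cz_of_comm (D.c_comm hz hc) hg hu)
    (hc.trans (D.c_type_in hz hc hu hu1).symm)).symm

theorem DivData.hyp [Fintype G] (D : DivData G a b c) {z : G} (hz : z ≠ 1) (hc : cc z = c) :
    H13.TI.Hyp (Cz z) where
  cent g x hx hx1 hg := D.c_eq hz hc hx hx1 ▸ mem_Cz.2 hg
  ti g x hx hx1 hgx := by
    have e : (Cz z).map (MulAut.conj g).toMonoidHom = Cz z := by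
      conv_lhs => rw [← D.c_eq hz hc hx hx1, ← Cz_conj]
      exact D.c_eq hz hc hgx fun h => hx1 (conj_eq_one_iff.1 h)
    rw [Subgroup.mem_normalizer_iff]
    intro w
    constructor
    · intro hw
      exact e ▸ Subgroup.mem_map_of_mem (MulAut.conj g).toMonoidHom hw
    · intro hw
      rw [← e, Subgroup.mem_map] at hw
      obtain ⟨v, hv, hvw⟩ := hw
      have : v = w := by simpa [MulAut.conj_apply] using hvw
      exact this ▸ hv

/-- An element of type `b` fixes exactly one coset of a subgroup of order `b`. -/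
theorem DivData.mem_of_conj (D : DivData G a b c) {B : Subgroup G} (hB : Nat.card B = b) {y : G}
    (hy : y ≠ 1) (hb : cc y = b) (hyB : y ∈ B) {x : G} (hx : x⁻¹ * y * x ∈ B) : x ∈ B := by
  haveI := Fintype.ofFinite G
  obtain ⟨z, hz, hc⟩ := D.ec
  have hc' : Nat.card (Cz z) = c := hc
  refine mem_of_conj_mem D.na (D.hyp hz hc) (D.c_comm hz hc).is_comm.comm
    (by rw [hc', hB]; exact D.coprime.symm) (by rw [hc', hB]; exact D.mul_eq) hy hyB ?_ hx
  have h := (Cz y).card_mul_index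
  rw [← D.mul_eq, show Nat.card (Cz y) = b from hb] at h
  rw [hc']
  exact Nat.eq_of_mul_eq_mul_left D.b_pos h

theorem DivData.conj_comm (D : DivData G a b c) {y : G} (hy : y ≠ 1) (hb : cc y = b) {x : G}
    (hx : x * y * x⁻¹ ∈ Cz y) : x ∈ Cz y := by
  have h := D.mem_of_conj (B := Cz y) hb hy hb (self_mem_Cz y) (x := x⁻¹) (by rwa [inv_inv])
  simpa using (Cz y).inv_mem h

theorem DivData.not_b_invol (D : DivData G a b c) {t : G} (ht : orderOf t = 2) : cc t ≠ b := by
  intro hb
  have ht1 : t ≠ 1 := orderOf_ne_one_of_prime Nat.prime_two ht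
  have hiso : Cfsg.IsIsolatedInvolution t := by
    refine ⟨ht, fun g hg => ?_⟩
    have h := D.conj_comm ht1 hb (mem_Cz.2 hg.eq.symm)
    rw [mem_Cz.1 h, mul_inv_cancel_right]
  have hz := H85.zStar hiso
  refine Cz_ne_top D.na ht1 (eq_top_iff.2 fun g _ => mem_Cz.2 ?_)
  have h := hz g
  rw [pPrimeCore_eq_bot D.na, Subgroup.mem_bot] at h
  calc g * t = 1 * (g * t) := (one_mul _).symm
    _ = t * g * t⁻¹ * g⁻¹ * (g * t) := by rw [h]
    _ = t * g := by group

theorem DivData.c_even (D : DivData G a b c) : 2 ∣ c := by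
  by_contra hodd
  haveI := Fintype.ofFinite G
  haveI : Fact (Nat.Prime 2) := ⟨Nat.prime_two⟩
  have hinv : ∀ i : G, orderOf i = 2 → cc i = a := by
    intro i hi
    rcases D.mem i (orderOf_ne_one_of_prime Nat.prime_two hi) with h | h | h
    · exact h
    · exact absurd h (D.not_b_invol hi)
    · exact absurd (h ▸ hi ▸ orderOf_dvd_cc i) hodd
  have ha2 : 2 ∣ a := by
    obtain ⟨t, ht⟩ := exists_prime_orderOf_dvd_card' (G := G) 2 (two_dvd_card D.na)
    exact hinv t ht ▸ ht ▸ orderOf_dvd_cc t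
  obtain ⟨p, y, hp, hy, hb⟩ := D.exists_b_prime
  have hy1 := orderOf_ne_one_of_prime hp hy
  have hp2 : p ≠ 2 := fun e => D.not_b_invol (e ▸ hy) hb
  -- an involution centralises at most one conjugate of `y`
  have L8 : ∀ i v : G, orderOf i = 2 → i ∈ Cz y → i ∈ Cz (v * y * v⁻¹) → v ∈ Cz y := by
    intro i v hi hiy hiv
    have hco : Nat.Coprime (orderOf i) (orderOf y) := by
      rw [hi, hy]; exact (Nat.coprime_primes Nat.prime_two hp).2 (Ne.symm hp2)
    have hm := Cz_mul_eq (show Commute i y from mem_Cz.1 hiy) hco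
    have hiy1 : i * y ≠ 1 := by
      intro e
      have := (show Commute i y from mem_Cz.1 hiy).orderOf_mul_eq_mul_orderOf_of_coprime hco
      rw [e, orderOf_one, hi, hy] at this
      omega
    have h1 : cc (i * y) ∣ a := hinv i hi ▸ cc_le_of_le (hm.le.trans inf_le_left)
    have h2 : cc (i * y) = a := by
      rcases D.mem _ hiy1 with h | h | h
      · exact h
      · exact absurd (h ▸ h1) D.not_b_dvd_a
      · exact absurd ((h ▸ h1).trans D.hab) D.not_c_dvd_b
    have h3 : Cz i ≤ Cz y := by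
      rw [← Cz_eq_of_le (hm.le.trans inf_le_left) (h2.trans (hinv i hi).symm)]
      exact hm.le.trans inf_le_right
    exact D.conj_comm hy1 hb (h3 (mem_Cz_comm.1 hiv))
  -- the centraliser of `y` is TI and self-normalising
  have hTI : ∀ d v : G, d ≠ 1 → d ∈ Cz y → d ∈ Cz (v * y * v⁻¹) → v ∈ Cz y := by
    intro d v hd hd1 hd2
    obtain ⟨r, e, hr, he, hed⟩ := exists_prime_power_elem hd
    have he1 := orderOf_ne_one_of_prime hr he
    replace hd1 : e ∈ Cz y := (Subgroup.zpowers_le.2 hd1) hed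
    replace hd2 : e ∈ Cz (v * y * v⁻¹) := (Subgroup.zpowers_le.2 hd2) hed
    rcases D.mem e he1 with h | h | h
    · rcases eq_or_ne r 2 with rfl | hr2
      · exact L8 e v he hd1 hd2
      obtain ⟨⟨i, hiC⟩, hi'⟩ := exists_prime_orderOf_dvd_card' (G := Cz e) 2 (by
        show 2 ∣ cc e
        rw [h]; exact ha2)
      have hi : orderOf i = 2 := by rw [← hi', Subgroup.orderOf_mk]
      have hco : Nat.Coprime (orderOf e) (orderOf i) := by
        rw [he, hi]; exact (Nat.coprime_primes hr Nat.prime_two).2 hr2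
      have hc : Commute e i := (mem_Cz.1 hiC).symm
      have hm := Cz_mul_eq hc hco
      have hei1 : e * i ≠ 1 := by
        intro e1
        have := hc.orderOf_mul_eq_mul_orderOf_of_coprime hco
        rw [e1, orderOf_one, he, hi] at this
        omega
      have h1 : cc (e * i) ∣ a := h ▸ cc_le_of_le (hm.le.trans inf_le_left)
      have h2 : cc (e * i) = a := by
        rcases D.mem _ hei1 with h' | h' | h'
        · exact h'
        · exact absurd (h' ▸ h1) D.not_b_dvd_a
        · exact absurd ((h' ▸ h1).trans D.hab) D.not_c_dvd_b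
      have h3 : Cz e ≤ Cz i := by
        rw [← Cz_eq_of_le (hm.le.trans inf_le_left) (h2.trans h.symm)]
        exact hm.le.trans inf_le_right
      exact L8 i v hi (mem_Cz_comm.1 (h3 (mem_Cz_comm.1 hd1)))
        (mem_Cz_comm.1 (h3 (mem_Cz_comm.1 hd2)))
    · refine D.mem_of_conj (B := Cz y) hb he1 h hd1 (mem_Cz.2 ?_)
      have h' := mem_Cz.1 hd2
      calc v⁻¹ * e * v * y = v⁻¹ * (e * (v * y * v⁻¹)) * v := by group
        _ = v⁻¹ * (v * y * v⁻¹ * e) * v := by rw [h']
        _ = y * (v⁻¹ * e * v) := by group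
    · exact absurd (show Commute y e from (mem_Cz.1 hd1).symm) (D.not_commute hy1 he1 hb h)
  -- count the union of the conjugates
  classical
  let F : (G ⧸ Cz y) × {d : Cz y // d ≠ 1} → G := fun x => x.1.out * (x.2.1 : G) * x.1.out⁻¹
  have hF : Function.Injective F := by
    rintro ⟨q, ⟨d, hd⟩⟩ ⟨q', ⟨d', hd'⟩⟩ hqq
    simp only [F] at hqq
    have hd1 : (d : G) ≠ 1 := fun h => hd (Subtype.ext h)
    have e1 : (d : G) = (q.out⁻¹ * q'.out) * d' * (q.out⁻¹ * q'.out)⁻¹ := by
      calc (d : G) = q.out⁻¹ * (q.out * d * q.out⁻¹) * q.out := by group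
        _ = _ := by rw [hqq]; group
    have hv : q.out⁻¹ * q'.out ∈ Cz y := by
      refine hTI d _ hd1 d.2 (mem_Cz.2 ?_)
      have h' := mem_Cz.1 d'.2
      rw [e1]
      generalize q.out⁻¹ * q'.out = v
      calc v * (d' : G) * v⁻¹ * (v * y * v⁻¹) = v * (d' * y) * v⁻¹ := by group
        _ = v * (y * d') * v⁻¹ := by rw [h']
        _ = v * y * v⁻¹ * (v * d' * v⁻¹) := by group
    have hq : q = q' := by
      rw [← QuotientGroup.out_eq' q, ← QuotientGroup.out_eq' q']
      exact QuotientGroup.eq.2 hv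
    subst hq
    have e2 : (d : G) = d' := mul_left_cancel (mul_right_cancel hqq)
    exact Prod.ext rfl (Subtype.ext (Subtype.ext e2))
  obtain ⟨z, hz, hc⟩ := D.ec
  have hc' : Nat.card (Cz z) = c := hc
  have hdis : ∀ h : G, orderOf h ∣ c → h ≠ 1 → ∀ x, F x ≠ h := by
    intro h hh h1 x e
    have h2 : orderOf h ∣ b := by
      rw [← e, show orderOf (F x) = orderOf (x.2.1 : G) from orderOf_conj' _ _, ← hb]
      exact (Cz y).orderOf_dvd_natCard x.2.1.2
    exact h1 (orderOf_eq_one_iff.1 (Nat.eq_one_of_dvd_coprimes D.coprime h2 hh))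
  let F' : ((G ⧸ Cz y) × {d : Cz y // d ≠ 1}) ⊕ Cz z → G := Sum.elim F Subtype.val
  have hF' : Function.Injective F' := by
    refine hF.sumElim Subtype.val_injective fun x h e => ?_
    rcases eq_or_ne (h : G) 1 with h1 | h1
    · rw [h1] at e
      exact x.2.2 (Subtype.ext (conj_eq_one_iff.1 e))
    · exact hdis h (hc ▸ (Cz z).orderOf_dvd_natCard h.2) h1 x e
  have hcard : Nat.card (((G ⧸ Cz y) × {d : Cz y // d ≠ 1}) ⊕ Cz z) = Nat.card G := by
    have hidx : Nat.card (G ⧸ Cz y) = c := by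
      have h := (Cz y).card_mul_index
      rw [← D.mul_eq, show Nat.card (Cz y) = b from hb] at h
      rw [← Subgroup.index_eq_card]
      exact Nat.eq_of_mul_eq_mul_left D.b_pos h
    have hsub : Nat.card {d : Cz y // d ≠ 1} + 1 = b := by
      rw [← hb]
      show _ = Nat.card (Cz y)
      rw [← Finite.card_option]
      exact Nat.card_congr (Equiv.optionSubtypeNe (1 : Cz y))
    rw [Nat.card_sum, Nat.card_prod, hidx, hc', ← D.mul_eq, ← hsub]
    ring
  have hall := (hF'.bijective_of_nat_card_le hcard.ge).2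
  have hN : (Cz z).Normal := by
    refine ⟨fun h hh g => ?_⟩
    rcases eq_or_ne h 1 with rfl | h1
    · simp
    obtain ⟨x | k, hx⟩ := hall (g * h * g⁻¹)
    · refine absurd hx (hdis _ ?_ (fun e => h1 (conj_eq_one_iff.1 e)) x)
      rw [orderOf_conj', ← hc]
      exact (Cz z).orderOf_dvd_natCard hh
    · exact (show (k : G) = g * h * g⁻¹ from hx) ▸ k.2
  rcases hN.eq_bot_or_eq_top with h | h
  · exact hz (Subgroup.mem_bot.1 (h ▸ self_mem_Cz z))
  · exact Cz_ne_top D.na hz h

theorem DivData.invol_comm (D : DivData G a b c) {t : G} (ht : orderOf t = 2) :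
    IsMulCommutative (Cz t) := by
  have ht1 := orderOf_ne_one_of_prime Nat.prime_two ht
  have h2 : 2 ∣ cc t := ht ▸ orderOf_dvd_cc t
  have hb : ¬ 2 ∣ b := fun h => by
    simpa using Nat.eq_one_of_dvd_coprimes D.coprime h D.c_even
  rcases D.mem t ht1 with e | e | e
  · exact absurd ((e ▸ h2).trans D.hab) hb
  · exact absurd (e ▸ h2) hb
  · exact D.c_comm ht1 e

end div

section nodiv

theorem NoDiv.eq_of_le (h : NoDiv G) {x y : G} (hx : x ≠ 1) (hy : y ≠ 1) (hle : Cz x ≤ Cz y) :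
    Cz x = Cz y :=
  Cz_eq_of_le hle (h x y hx hy (cc_le_of_le hle))

theorem NoDiv.comm_or_pGroup (h : NoDiv G) {p : ℕ} (hp : p.Prime) {x : G} {k : ℕ}
    (hx : orderOf x = p ^ k) (hx1 : x ≠ 1) :
    IsMulCommutative (Cz x) ∨ IsPGroup p (Cz x) := by
  have pair : ∀ u v : G, u ≠ 1 → v ≠ 1 → Commute u v →
      Nat.Coprime (orderOf u) (orderOf v) → Cz u = Cz v := by
    intro u v hu hv huv hco
    have hm := Cz_mul_eq huv hco
    have huv1 : u * v ≠ 1 := by
      intro e
      have := huv.orderOf_mul_eq_mul_orderOf_of_coprime hco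
      rw [e, orderOf_one] at this
      exact hu (orderOf_eq_one_iff.1 (Nat.eq_one_of_mul_eq_one_right this.symm))
    rw [← h.eq_of_le huv1 hu (hm.le.trans inf_le_left),
      ← h.eq_of_le huv1 hv (hm.le.trans inf_le_right)]
  by_cases hq : ∃ q : ℕ, q.Prime ∧ q ∣ cc x ∧ q ≠ p
  · left
    obtain ⟨q, hq, hqc, hqp⟩ := hq
    haveI := Fact.mk hq
    obtain ⟨⟨v0, hv0C⟩, hv0'⟩ := exists_prime_orderOf_dvd_card' (G := Cz x) q hqc
    have hv0 : orderOf v0 = q := by rw [← hv0', Subgroup.orderOf_mk]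
    have hv01 := orderOf_ne_one_of_prime hq hv0
    have e0 : Cz v0 = Cz x := pair v0 x hv01 hx1 (mem_Cz.1 hv0C)
      (by rw [hv0, hx]; exact ((Nat.coprime_primes hq hp).2 hqp).pow_right k)
    refine isMulCommutative_of_primePow_central fun r j hr v hv hv' => ?_
    rcases eq_or_ne v 1 with rfl | hv1
    · exact fun g _ => mem_Cz.2 (by simp)
    by_cases hrp : r = p
    · subst hrp
      have hvv : v ∈ Cz v0 := e0 ▸ hv
      rw [pair v v0 hv1 hv01 (mem_Cz.1 hvv) (by
        rw [hv', hv0]; exact ((Nat.coprime_primes hr hq).2 (Ne.symm hqp)).pow_left j), e0]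
    · rw [pair v x hv1 hx1 (mem_Cz.1 hv) (by
        rw [hv', hx]; exact ((Nat.coprime_primes hr hp).2 hrp).pow j k)]
  · right
    push Not at hq
    exact IsPGroup.of_card (n := (cc x).primeFactorsList.length)
      (Nat.eq_prime_pow_of_unique_prime_dvd (cc_pos x).ne' fun {d} hd hdc => hq d hd hdc)

theorem NoDiv.invol_comm (h : NoDiv G) (hna : ¬ IsMulCommutative G) {t : G} (ht : orderOf t = 2) :
    IsMulCommutative (Cz t) := by
  haveI : Fact (Nat.Prime 2) := ⟨Nat.prime_two⟩
  by_cases hS : ∃ P : Sylow 2 G, ¬ IsMulCommutative (P : Subgroup G)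
  · exfalso
    obtain ⟨P, hP⟩ := hS
    obtain ⟨z, hzP, hz, hle⟩ := exists_central_of_sylow (two_dvd_card hna) P
    have hz1 := orderOf_ne_one_of_prime Nat.prime_two hz
    have hznc : ¬ IsMulCommutative (Cz z) := fun hc =>
      hP ⟨⟨fun u v => Subtype.ext (mem_Cz.1 (mem_Cz_of_comm hc (hle u.2) (hle v.2)))⟩⟩
    have hz2 : IsPGroup 2 (Cz z) :=
      (h.comm_or_pGroup Nat.prime_two (hz.trans (pow_one 2).symm) hz1).resolve_left hznc
    have hzeq : Cz z = (P : Subgroup G) := P.is_maximal' hz2 hle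
    have key : ∀ w ∈ (P : Subgroup G), w ≠ 1 → cc w = Nat.card (P : Subgroup G) := by
      intro w hw hw1
      obtain ⟨j, hj⟩ := (IsPGroup.iff_orderOf.1 P.isPGroup') ⟨w, hw⟩
      rw [Subgroup.orderOf_mk] at hj
      have hzw : z ∈ Cz w := mem_Cz_comm.1 (hle hw)
      rcases h.comm_or_pGroup Nat.prime_two hj hw1 with hc | hc
      · have hle' : Cz w ≤ Cz z := fun g hg => mem_Cz_of_comm hc hg hzw
        exact absurd (h.eq_of_le hw1 hz1 hle' ▸ hc) hznc
      · obtain ⟨Q, hQ⟩ := hc.exists_le_sylow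
        have hd : cc w ∣ cc z := by
          have e : cc z = Nat.card (P : Subgroup G) := by
            show Nat.card (Cz z) = _
            rw [hzeq]
          rw [e, sylow_card_eq P Q]
          exact Subgroup.card_dvd_of_le hQ
        rw [h w z hw1 hz1 hd]
        show Nat.card (Cz z) = _
        rw [hzeq]
    have hyp : H3.TwoCentral.Hyp G := by
      intro x hx
      rcases eq_or_ne x 1 with rfl | hx1
      · exact ⟨P, fun g _ => mem_Cz.2 (by simp)⟩
      obtain ⟨k, hk⟩ := hx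
      obtain ⟨j, -, hj⟩ := (Nat.dvd_prime_pow Nat.prime_two).1 (orderOf_dvd_of_pow_eq_one hk)
      obtain ⟨Q, hQ⟩ := exists_sylow_mem (x := x) hj
      obtain ⟨g, hg⟩ := MulAction.exists_smul_eq G Q P
      have hgx : g * x * g⁻¹ ∈ (P : Subgroup G) := by
        rw [← hg, Sylow.coe_subgroup_smul]
        exact ⟨x, hQ, rfl⟩
      have hc := key _ hgx (fun e => hx1 (conj_eq_one_iff.1 e))
      rw [cc_conj] at hc
      exact ⟨Sylow.ofCard (Cz x) (hc.trans P.card_eq_multiplicity), le_rfl⟩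
    exact hP (H3.TwoCentral.isMulCommutative_of_hyp hyp P)
  · push Not at hS
    have ht1 := orderOf_ne_one_of_prime Nat.prime_two ht
    rcases h.comm_or_pGroup Nat.prime_two (ht.trans (pow_one 2).symm) ht1 with hc | hc
    · exact hc
    · obtain ⟨Q, hQ⟩ := hc.exists_le_sylow
      haveI := hS Q
      refine ⟨⟨fun u v => Subtype.ext ?_⟩⟩
      have e := congrArg Subtype.val ((hS Q).is_comm.comm ⟨u, hQ u.2⟩ ⟨v, hQ v.2⟩)
      exact e

end nodiv

/-- The centralisers of involutions are abelian. -/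
theorem invol_comm (hna : ¬ IsMulCommutative G)
    (h3 : ({n : ℕ | ∃ x : G, x ≠ 1 ∧ n = cc x}).ncard = 3) {t : G} (ht : orderOf t = 2) :
    IsMulCommutative (Cz t) := by
  by_cases h : NoDiv G
  · exact h.invol_comm hna ht
  simp only [NoDiv, not_forall] at h
  obtain ⟨x, y, hx, hy, hd, hne⟩ := h
  set O := {n : ℕ | ∃ x : G, x ≠ 1 ∧ n = cc x} with hO
  have ha : cc x ∈ O := ⟨x, hx, rfl⟩
  have hb : cc y ∈ O := ⟨y, hy, rfl⟩
  have hfin : O.Finite := Set.finite_of_ncard_ne_zero (by omega)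
  have h1 : (O \ {cc x, cc y}).ncard = 1 := by
    rw [Set.ncard_sdiff (Set.insert_subset ha (Set.singleton_subset_iff.2 hb)), h3,
      Set.ncard_pair hne]
  obtain ⟨c, hc⟩ := Set.ncard_eq_one.1 h1
  have hcm : c ∈ O \ {cc x, cc y} := hc ▸ Set.mem_singleton c
  obtain ⟨⟨z, hz, hzc⟩, hcn⟩ := hcm
  simp only [Set.mem_insert_iff, Set.mem_singleton_iff, not_or] at hcn
  have D : DivData G (cc x) (cc y) c :=
    { na := hna
      hab := hd
      ne_ab := hne
      ne_ac := Ne.symm hcn.1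
      ne_bc := Ne.symm hcn.2
      mem := fun w hw => by
        by_cases h' : cc w ∈ ({cc x, cc y} : Set ℕ)
        · rcases h' with h' | h'
          · exact Or.inl h'
          · exact Or.inr (Or.inl h')
        · exact Or.inr (Or.inr (Set.mem_singleton_iff.1 (hc ▸ ⟨⟨w, hw, rfl⟩, h'⟩)))
      eb := ⟨y, hy, rfl⟩
      ec := ⟨z, hz, hzc.symm⟩ }
  exact D.invol_comm ht

end H8.Rank3
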