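import Cfsg.Agent.H8.ThompsonPlanes

/-!
A coprime operator `q`-group on a `p`-soluble group in which the Thompson factorization fails.
-/

set_option autoImplicit false
set_option linter.style.haveILetI false

open Cfsg
open scoped commutatorElement

namespace H8

open H10

variable {G : Type*} [Group G] {p : ℕ}
variable {X : Type*} [Group X]

theorem apply_centralClosure [Finite G] [Fact p.Prime] (e : MulAut G) :
    (centralClosure p G).map e.toMonoidHom = centralClosure p G := by
  have key : ∀ a : MulAut G, (centralClosure p G).map a.toMonoidHom ≤ centralClosure p G := by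
    intro a
    simp only [centralClosure, Subgroup.map_iSup]
    refine iSup_le fun S => ?_
    obtain ⟨T, hT⟩ : ∃ T : Sylow p G, (T : Subgroup G) = (S : Subgroup G).map a.toMonoidHom :=
      ⟨S.mapSurjective (f := a.toMonoidHom) a.surjective, Sylow.coe_mapSurjective _ _⟩
    rw [show omegaOne p ((S : Subgroup G) ⊓ Subgroup.centralizer ((S : Subgroup G) : Set G)) =
      omegaCenterOf p (S : Subgroup G) from rfl,
      map_omegaCenterOf a.toMonoidHom (fun x _ hx => a.injective (hx.trans (map_one a).symm)), ← hT]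
    exact le_iSup (fun S : Sylow p G =>
      omegaOne p ((S : Subgroup G) ⊓ Subgroup.centralizer ((S : Subgroup G) : Set G))) T
  refine le_antisymm (key e) ?_
  intro x hx
  exact ⟨e.symm x, key e.symm ⟨x, hx, rfl⟩, e.apply_symm_apply x⟩

theorem map_centralizer_aut (e : MulAut G) (A : Subgroup G) :
    (Subgroup.centralizer (A : Set G)).map e.toMonoidHom =
      Subgroup.centralizer ((A.map e.toMonoidHom : Subgroup G) : Set G) := by
  ext x
  constructor
  · rintro ⟨y, hy, rfl⟩
    rw [Subgroup.mem_centralizer_iff]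
    rintro _ ⟨a, ha, rfl⟩
    rw [← map_mul, ← map_mul, Subgroup.mem_centralizer_iff.mp hy a ha]
  · intro hx
    refine ⟨e.symm x, Subgroup.mem_centralizer_iff.mpr fun a ha => ?_, e.apply_symm_apply x⟩
    have h := Subgroup.mem_centralizer_iff.mp hx _ ⟨a, ha, rfl⟩
    have h' := congrArg e.symm h
    simpa using h'

theorem apply_thompsonL [Finite G] [Fact p.Prime] (e : MulAut G) :
    (thompsonL p G).map e.toMonoidHom = thompsonL p G := by
  haveI : (thompsonSubgroup p G).Characteristic := thompsonSubgroup_characteristic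
  rw [thompsonL, Subgroup.map_sup, map_centralizer_aut, apply_centralClosure,
    Subgroup.characteristic_iff_map_eq.mp inferInstance e]

/-- Automorphisms permute the planes. -/
theorem IsThompsonPlane.map [Finite G] [Fact p.Prime] {U : Subgroup G} (hU : IsThompsonPlane p U)
    (e : MulAut G) : IsThompsonPlane p (U.map e.toMonoidHom) := by
  obtain ⟨h1, h2, h3, h4⟩ := hU
  have hL := apply_thompsonL (p := p) e
  refine ⟨(Subgroup.map_mono h1).trans (apply_centralClosure e).le, ?_, ?_, ?_⟩
  · rw [← h2]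
    exact (Nat.card_congr (U.equivMapOfInjective e.toMonoidHom e.injective).toEquiv).symm
  · rw [← hL]
    exact (Subgroup.map_mono h3).trans (Subgroup.le_normalizer_map _)
  · rw [← hL, ← map_centralizer_aut, ← Subgroup.map_inf _ _ e.toMonoidHom e.injective, h4,
      Subgroup.map_bot]

variable [Finite G] [Fact p.Prime] {q : ℕ} [Fact q.Prime]

/-- `q` is at least 5 as soon as there is a plane. -/
theorem five_le_of_plane (hsep : IsPSolvable p G) (hO : pPrimeCore p G = ⊥) (hq : ¬ q ∣ Nat.card G)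
    {U : Subgroup G} (hU : IsThompsonPlane p U) : 5 ≤ q := by
  obtain ⟨E, F⟩ := exists_planeFacts hsep hO hU
  obtain ⟨β, hβ, -⟩ := F.exists_hom
  have hd : Nat.card (SL2 (ZMod p)) ∣ Nat.card G :=
    (Subgroup.card_dvd_of_surjective β hβ).trans (Subgroup.card_subgroup_dvd_card _)
  have h6 : 6 ∣ Nat.card G := by
    rcases F.p_eq with rfl | rfl
    · rw [H10.card_SL2_two] at hd; exact hd
    · rw [H10.card_SL2_three] at hd; exact (by norm_num : 6 ∣ 24).trans hd
  have := (Fact.out : q.Prime).two_le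
  by_contra h5
  have : q = 2 ∨ q = 3 ∨ q = 4 := by omega
  rcases this with rfl | rfl | rfl
  · exact hq ((by norm_num : 2 ∣ 6).trans h6)
  · exact hq ((by norm_num : 3 ∣ 6).trans h6)
  · exact absurd (Fact.out : Nat.Prime 4) (by norm_num)

variable (φ : X →* MulAut G)

/-- An operator normalising a plane fixes it elementwise. -/
theorem apply_eq_of_map_eq (hsep : IsPSolvable p G) (hO : pPrimeCore p G = ⊥)
    (hq : ¬ q ∣ Nat.card G) (hX : IsPGroup q X) {U : Subgroup G} (hU : IsThompsonPlane p U)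
    {x : X} (hx : U.map (φ x).toMonoidHom = U) {w : G} (hw : w ∈ U) : φ x w = w := by
  have hq5 := five_le_of_plane hsep hO hq hU
  obtain ⟨E, F⟩ := exists_planeFacts hsep hO hU
  let σ : Equiv.Perm U := Equiv.subtypeEquiv (φ x).toEquiv fun y => ⟨fun hy => hx.le ⟨y, hy, rfl⟩,
    fun hy => by
      obtain ⟨z, hz, he⟩ := hx.ge hy
      rwa [← (φ x).injective he]⟩
  obtain ⟨k, hk⟩ := hX x
  have hσpow : ∀ (n : ℕ) (y : U), (((σ ^ n) y : U) : G) = φ (x ^ n) (y : G) := by
    intro n
    induction n with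
    | zero => intro y; simp
    | succ n ih =>
      intro y
      rw [pow_succ, Equiv.Perm.mul_apply, ih, pow_succ, map_mul]
      rfl
  have hσq : σ ^ q ^ k = 1 := by
    refine Equiv.ext fun y => Subtype.ext ?_
    rw [hσpow, hk, map_one]
    rfl
  have hσgrp : IsPGroup q ↥(Subgroup.zpowers σ) := by
    rintro ⟨τ, n, rfl⟩
    refine ⟨k, Subtype.ext ?_⟩
    show (σ ^ n) ^ (q ^ k) = 1
    rw [← zpow_natCast, ← zpow_mul, mul_comm, zpow_mul, zpow_natCast, hσq, one_zpow]
  have hmod := hσgrp.card_modEq_card_fixedPoints (α := U)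
  let Fx : Subgroup G :=
    { carrier := {w | w ∈ U ∧ φ x w = w}
      one_mem' := ⟨one_mem _, map_one _⟩
      mul_mem' := fun ha hb => ⟨mul_mem ha.1 hb.1, by rw [map_mul, ha.2, hb.2]⟩
      inv_mem' := fun ha => ⟨inv_mem ha.1, by rw [map_inv, ha.2]⟩ }
  have hfix : ∀ y : U, y ∈ MulAction.fixedPoints (Subgroup.zpowers σ) U ↔ (y : G) ∈ Fx := by
    intro y
    constructor
    · intro h
      exact ⟨y.2, congrArg Subtype.val (h ⟨σ, Subgroup.mem_zpowers σ⟩)⟩
    · intro h
      rintro ⟨τ, n, rfl⟩
      exact Equiv.Perm.zpow_apply_eq_self_of_apply_eq_self (Subtype.ext h.2) n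
  have hcF : Nat.card (MulAction.fixedPoints (Subgroup.zpowers σ) U) = Nat.card Fx :=
    Nat.card_congr
      { toFun := fun y => ⟨_, (hfix y.1).mp y.2⟩
        invFun := fun y => ⟨⟨y.1, y.2.1⟩, (hfix ⟨y.1, y.2.1⟩).mpr y.2⟩
        left_inv := fun y => rfl
        right_inv := fun y => rfl }
  rw [hcF, hU.2.1] at hmod
  have hle : Fx ≤ U := fun y hy => hy.1
  obtain ⟨i, hi, hic⟩ := (Nat.dvd_prime_pow (Fact.out : p.Prime)).mp
    (hU.2.1 ▸ Subgroup.card_dvd_of_le hle)
  have hi2 : i = 2 := by
    by_contra hne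
    rw [hic] at hmod
    have hd := (Nat.modEq_iff_dvd' (Nat.pow_le_pow_right (Fact.out : p.Prime).pos hi)).mp hmod.symm
    have hpos : 0 < p ^ 2 - p ^ i :=
      Nat.sub_pos_of_lt (Nat.pow_lt_pow_right (Fact.out : p.Prime).one_lt (by omega))
    have hqle := Nat.le_of_dvd hpos hd
    have hq' := (Fact.out : q.Prime)
    interval_cases i
    · rcases F.p_eq with rfl | rfl
      · norm_num at hqle; omega
      · norm_num at hqle hd
        interval_cases q <;> revert hd hq' <;> norm_num
    · rcases F.p_eq with rfl | rfl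
      · norm_num at hqle; omega
      · norm_num at hqle hd
        interval_cases q <;> revert hd hq' <;> norm_num
    · exact hne rfl
  have hFU : Fx = U := Subgroup.eq_of_le_of_card_ge hle (by rw [hic, hi2, hU.2.1])
  exact (hFU.ge hw).2

/-- Every element of `J(G) C_G(V)` acts on a given plane as a fixed element does. -/
theorem exists_fixed_cover (hsep : IsPSolvable p G) (hO : pPrimeCore p G = ⊥)
    (hq : ¬ q ∣ Nat.card G) [Finite X] (hX : IsPGroup q X) {U : Subgroup G}
    (hU : IsThompsonPlane p U) {h : G} (hh : h ∈ thompsonL p G) :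
    ∃ d ∈ thompsonL p G, (∀ x, φ x d = d) ∧ d⁻¹ * h ∈ Subgroup.centralizer (U : Set G) := by
  classical
  set L := thompsonL p G with hLdef
  have happL : ∀ (x : X) {g : G}, g ∈ L → φ x g ∈ L := fun x g hg =>
    (apply_thompsonL (p := p) (φ x)).le ⟨g, hg, rfl⟩
  let W : X → Subgroup G := fun x => U.map (φ x).toMonoidHom
  have hW : ∀ x, IsThompsonPlane p (W x) := fun x => hU.map (φ x)
  have hWW : ∀ x y, (W x).map (φ y).toMonoidHom = W (y * x) := by
    intro x y
    show (U.map _).map _ = U.map _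
    rw [Subgroup.map_map, map_mul]
    rfl
  have hCn : ∀ U' : Subgroup G, IsThompsonPlane p U' →
      L ≤ Subgroup.normalizer (Subgroup.centralizer (U' : Set G) : Set G) := fun U' hU' =>
    H8.le_normalizer_centralizer_of_le_normalizer hU'.2.2.1
  have hwd : ∀ x y, W x = W y →
      (φ x h)⁻¹ * φ y h ∈ Subgroup.centralizer (W x : Set G) := by
    intro x y hxy
    have hz : U.map (φ (x⁻¹ * y)).toMonoidHom = U := by
      show W (x⁻¹ * y) = U
      rw [← hWW, ← hxy, hWW, inv_mul_cancel]
      show U.map (φ 1).toMonoidHom = U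
      rw [map_one]
      exact Subgroup.map_id U
    have hz' : h⁻¹ * φ (x⁻¹ * y) h ∈ Subgroup.centralizer (U : Set G) := by
      rw [Subgroup.mem_centralizer_iff]
      intro w hw
      have h1 : h * w * h⁻¹ ∈ U := (Subgroup.mem_normalizer_iff.mp (hU.2.2.1 hh) w).mp hw
      have h2 := apply_eq_of_map_eq φ hsep hO hq hX hU hz h1
      rw [map_mul, map_mul, map_inv, apply_eq_of_map_eq φ hsep hO hq hX hU hz hw] at h2
      calc w * (h⁻¹ * φ (x⁻¹ * y) h) = h⁻¹ * (h * w * h⁻¹) * φ (x⁻¹ * y) h := by group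
        _ = h⁻¹ * (φ (x⁻¹ * y) h * w * (φ (x⁻¹ * y) h)⁻¹) * φ (x⁻¹ * y) h := by rw [h2]
        _ = _ := by group
    have : φ x (h⁻¹ * φ (x⁻¹ * y) h) ∈ Subgroup.centralizer (W x : Set G) :=
      (map_centralizer_aut (φ x) U).le ⟨_, hz', rfl⟩
    rwa [map_mul, map_inv, ← MulAut.mul_apply, ← map_mul, mul_inv_cancel_left] at this
  -- an element doing the right thing on finitely many planes
  have key : ∀ s : Finset (Subgroup G), (∀ U' ∈ s, ∃ x, W x = U') → ∃ k ∈ L,
      (∀ x, W x ∈ s → k⁻¹ * φ x h ∈ Subgroup.centralizer (W x : Set G)) ∧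
      ∀ U', IsThompsonPlane p U' → U' ∉ s → k ∈ Subgroup.centralizer (U' : Set G) := by
    intro s
    induction s using Finset.induction_on with
    | empty =>
      exact fun _ => ⟨1, one_mem _, fun x hx => absurd hx (Finset.notMem_empty _),
        fun _ _ _ => one_mem _⟩
    | @insert U₁ s hns ih =>
      intro hs
      obtain ⟨x₀, rfl⟩ := hs U₁ (Finset.mem_insert_self _ _)
      obtain ⟨k, hk, hk1, hk2⟩ := ih fun U' hU' => hs U' (Finset.mem_insert_of_mem hU')
      obtain ⟨E, F⟩ := exists_planeFacts hsep hO (hW x₀)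
      obtain ⟨e, he, he'⟩ := F.cover _ (happL x₀ hh)
      refine ⟨k * e, mul_mem hk (F.le he), ?_, ?_⟩
      · intro x hx
        by_cases hxe : W x = W x₀
        · rw [hxe]
          have h1 := (Subgroup.mem_normalizer_iff.mp
            (hCn _ (hW x₀) (inv_mem (F.le he))) _).mp (inv_mem (hk2 _ (hW x₀) hns))
          have h2 := mul_mem (mul_mem h1 he') (hwd x₀ x hxe.symm)
          simpa [mul_assoc] using h2
        · have hxs : W x ∈ s := (Finset.mem_insert.mp hx).resolve_left hxe
          rw [mul_inv_rev, mul_assoc]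
          exact mul_mem (inv_mem (F.other _ (hW x) hxe he)) (hk1 x hxs)
      · intro U' hU' hns'
        rw [Finset.mem_insert, not_or] at hns'
        exact mul_mem (hk2 U' hU' hns'.2) (F.other _ hU' hns'.1 he)
  haveI := Fintype.ofFinite X
  obtain ⟨k₀, hk₀, hk₀', -⟩ := key (Finset.univ.image W) fun U' hU' => by
    obtain ⟨x, -, rfl⟩ := Finset.mem_image.mp hU'
    exact ⟨x, rfl⟩
  let T : Set G := {k | k ∈ L ∧ ∀ x, k⁻¹ * φ x h ∈ Subgroup.centralizer (W x : Set G)}
  let N : Subgroup G := L ⊓ ⨅ x, Subgroup.centralizer (W x : Set G)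
  have hk₀T : k₀ ∈ T := ⟨hk₀, fun x => hk₀' x (Finset.mem_image.mpr ⟨x, Finset.mem_univ x, rfl⟩)⟩
  have hNT : Nat.card N = Nat.card T := by
    refine Nat.card_congr
      { toFun := fun n => ⟨k₀ * n, ?_⟩
        invFun := fun k => ⟨k₀⁻¹ * k, ?_⟩
        left_inv := fun n => Subtype.ext (inv_mul_cancel_left _ _)
        right_inv := fun k => Subtype.ext (mul_inv_cancel_left _ _) }
    · obtain ⟨hn, hn'⟩ := Subgroup.mem_inf.mp n.2
      refine ⟨mul_mem hk₀ hn, fun x => ?_⟩
      rw [mul_inv_rev, mul_assoc]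
      exact mul_mem (inv_mem (Subgroup.mem_iInf.mp hn' x)) (hk₀T.2 x)
    · refine Subgroup.mem_inf.mpr ⟨mul_mem (inv_mem hk₀) k.2.1, Subgroup.mem_iInf.mpr fun x => ?_⟩
      have := mul_mem (hk₀T.2 x) (inv_mem (k.2.2 x))
      simpa [mul_assoc] using this
  letI act : MulAction X T :=
    { smul := fun y k => ⟨φ y k.1, happL y k.2.1, fun x => by
        have h1 : φ y (k.1⁻¹ * φ (y⁻¹ * x) h) ∈
            (Subgroup.centralizer (W (y⁻¹ * x) : Set G)).map (φ y).toMonoidHom :=
          ⟨_, k.2.2 _, rfl⟩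
        rw [map_centralizer_aut, hWW, mul_inv_cancel_left, map_mul, map_inv, ← MulAut.mul_apply,
          ← map_mul, mul_inv_cancel_left] at h1
        exact h1⟩
      one_smul := fun k => Subtype.ext (by show φ 1 k.1 = k.1; rw [map_one]; rfl)
      mul_smul := fun y z k => Subtype.ext (by
        show φ (y * z) k.1 = φ y (φ z k.1); rw [map_mul]; rfl) }
  have hne : (MulAction.fixedPoints X T).Nonempty := by
    refine hX.nonempty_fixed_point_of_prime_not_dvd_card T ?_
    rw [← hNT]
    exact fun hd => hq (hd.trans (Subgroup.card_subgroup_dvd_card N))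
  obtain ⟨d, hd⟩ := hne
  refine ⟨d.1, d.2.1, fun x => congrArg Subtype.val (hd x), ?_⟩
  have h1 := d.2.2 1
  have hW1 : W 1 = U := by
    show U.map (φ 1).toMonoidHom = U
    rw [map_one]
    exact Subgroup.map_id U
  rwa [hW1, map_one, MulAut.one_apply] at h1

/-- The subgroup of elements fixed by all operators. -/
def fixedSubgroup (φ : X →* MulAut G) : Subgroup G where
  carrier := {g | ∀ x, φ x g = g}
  one_mem' := fun x => map_one _
  mul_mem' := fun ha hb x => by rw [map_mul, ha x, hb x]
  inv_mem' := fun ha x => by rw [map_inv, ha x]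

/-- `G` is generated by the Thompson normalizer, the centralizer of `Ω₁(Z(S))` and the fixed
points of a coprime `q`-group of operators. -/
theorem normalizer_sup_centralizer_sup_fixed_eq_top (hsep : IsPSolvable p G)
    (hO : pPrimeCore p G = ⊥) (hq : ¬ q ∣ Nat.card G) [Finite X] (hX : IsPGroup q X)
    (S : Sylow p G) :
    Subgroup.normalizer (thompsonSubgroupOf p (S : Subgroup G) : Set G) ⊔
      Subgroup.centralizer (omegaCenterOf p (S : Subgroup G) : Set G) ⊔ fixedSubgroup φ = ⊤ := by
  set T := Subgroup.normalizer (thompsonSubgroupOf p (S : Subgroup G) : Set G) ⊔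
    Subgroup.centralizer (omegaCenterOf p (S : Subgroup G) : Set G) ⊔ fixedSubgroup φ with hT
  set L := thompsonL p G
  haveI hLn : L.Normal := thompsonL_normal
  have hC : Subgroup.centralizer (centralClosure p G : Set G) ≤ T :=
    (Subgroup.centralizer_le (SetLike.coe_subset_coe.mpr
      (le_iSup (fun S : Sylow p G =>
        omegaOne p ((S : Subgroup G) ⊓ Subgroup.centralizer ((S : Subgroup G) : Set G))) S))).trans
      (le_sup_right.trans le_sup_left)
  have hS : (S : Subgroup G) ≤ T := by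
    refine le_trans ?_ (le_sup_left.trans le_sup_left)
    intro s hs
    refine mem_normalizer_of_map_le ?_
    have hinj : ∀ x ∈ (S : Subgroup G), (MulAut.conj s).toMonoidHom x = 1 → x = 1 :=
      fun x _ hx => (MulAut.conj s).injective (hx.trans (map_one _).symm)
    rw [map_thompsonSubgroupOf _ hinj, map_conj_eq_self (Subgroup.le_normalizer hs)]
  have hJS : thompsonSubgroupOf p (S : Subgroup G) ≤ L := by
    rw [H11.thompsonSubgroupOf_eq]
    refine sSup_le fun A hA => le_sup_of_le_left ?_
    rw [thompsonSubgroup_eq]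
    exact le_sSup (maxFam_sylow S hA)
  have hN : Subgroup.normalizer (((S : Subgroup G) ⊓ L : Subgroup G) : Set G) ≤
      Subgroup.normalizer (thompsonSubgroupOf p (S : Subgroup G) : Set G) := by
    intro n hn
    refine mem_normalizer_of_map_le ?_
    rw [H11.thompsonSubgroupOf_eq, Subgroup.map_le_iff_le_comap]
    refine sSup_le fun A hA => Subgroup.map_le_iff_le_comap.mp ?_
    have hAT : A ≤ (S : Subgroup G) ⊓ L :=
      le_inf hA.1 ((H11.thompsonSubgroupOf_eq (p := p) (S : Subgroup G) ▸ le_sSup hA).trans hJS)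
    exact le_sSup (H11.maxFam_subset_of_mem inf_le_left hA hAT
      (conj_mem_maxFam (H11.replProp_elem p) hn (H11.mem_maxFam_of_mem inf_le_left hA hAT)))
  have hLT : L ≤ T := by
    refine thompsonL_le hsep hO hC fun U E hU F y hy hyp => ?_
    obtain ⟨k, hk⟩ := hyp
    have hyP : IsPGroup p ↥(Subgroup.zpowers y) := by
      rintro ⟨z, n, rfl⟩
      refine ⟨k, Subtype.ext ?_⟩
      show (y ^ n) ^ (p ^ k) = 1
      rw [← zpow_natCast, ← zpow_mul, mul_comm, zpow_mul, zpow_natCast, hk, one_zpow]
    obtain ⟨S₁, hS₁⟩ := hyP.exists_le_sylow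
    obtain ⟨g, hg⟩ := MulAction.exists_smul_eq G S S₁
    have hgy : g⁻¹ * y * g ∈ (S : Subgroup G) := by
      have h1 : y ∈ (S₁ : Subgroup G) := hS₁ (Subgroup.mem_zpowers y)
      rw [← hg, Sylow.smul_def, Sylow.pointwise_smul_def] at h1
      obtain ⟨z, hz, hzy⟩ := h1
      have hzy' : g * z * g⁻¹ = y := hzy
      have hz2 : g⁻¹ * y * g = z := by rw [← hzy']; group
      exact hz2 ▸ hz
    obtain ⟨n, hn, l, hl, hgn⟩ := H10.exists_mul_of_mem_sup
      (show Subgroup.normalizer (((S : Subgroup G) ⊓ L : Subgroup G) : Set G) ≤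
        Subgroup.normalizer (L : Set G) from Subgroup.le_normalizer_of_normal)
      (show g ∈ Subgroup.normalizer (((S : Subgroup G) ⊓ L : Subgroup G) : Set G) ⊔ L by
        rw [H32.frattini_inf]; exact Subgroup.mem_top g)
    set h := n * l * n⁻¹ with hh
    have hhL : h ∈ L := hLn.conj_mem l hl n
    have hgh : g = h * n := by rw [hgn, hh, inv_mul_cancel_right]
    have hyL : g⁻¹ * y * g ∈ (S : Subgroup G) ⊓ L :=
      Subgroup.mem_inf.mpr ⟨hgy, by simpa using hLn.conj_mem y (F.le hy) g⁻¹⟩
    have hs : h⁻¹ * y * h ∈ (S : Subgroup G) ⊓ L := by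
      have := (Subgroup.mem_normalizer_iff.mp hn _).mp hyL
      rw [hgh] at this
      simpa [mul_assoc] using this
    have hsE : h⁻¹ * y * h ∈ E := by
      simpa using (Subgroup.mem_normalizer_iff.mp (F.norm (inv_mem hhL)) y).mp hy
    obtain ⟨d, hdL, hdfix, hd⟩ := exists_fixed_cover φ hsep hO hq hX hU hhL
    set s := h⁻¹ * y * h with hsdef
    set m := d⁻¹ * h with hm
    have hmL : m ∈ L := mul_mem (inv_mem hdL) hhL
    have hc : m * s * m⁻¹ * s⁻¹ ∈ Subgroup.centralizer (centralClosure p G : Set G) := by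
      refine F.inf_cent (Subgroup.mem_inf.mpr ⟨mul_mem
        ((Subgroup.mem_normalizer_iff.mp (F.norm hmL) s).mp hsE) (inv_mem hsE), ?_⟩)
      have h1 := (Subgroup.mem_normalizer_iff.mp
        (H8.le_normalizer_centralizer_of_le_normalizer hU.2.2.1 hs.2) m⁻¹).mp (inv_mem hd)
      have h2 := mul_mem hd h1
      simpa [mul_assoc] using h2
    have hy' : y = d * ((m * s * m⁻¹ * s⁻¹) * s) * d⁻¹ := by
      rw [hm, hsdef]; group
    have hdT : d ∈ T := (le_sup_right : fixedSubgroup φ ≤ T) hdfix
    rw [hy']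
    exact mul_mem (mul_mem hdT (mul_mem (hC hc) (hS hs.1))) (inv_mem hdT)
  rw [eq_top_iff, ← H32.frattini_inf S L]
  exact sup_le (hN.trans (le_sup_left.trans le_sup_left)) hLT

/-- When the Thompson factorization fails, a plane of fixed points carries `SL(2, p)` induced by
fixed points. -/
theorem exists_fixed_plane (hsep : IsPSolvable p G) (hO : pPrimeCore p G = ⊥)
    (hq : ¬ q ∣ Nat.card G) [Finite X] (hX : IsPGroup q X)
    (hnf : ¬ IsThompsonFactorizable p G) :
    (p = 2 ∨ p = 3) ∧ ∃ W D : Subgroup G, W ≤ fixedSubgroup φ ∧ D ≤ fixedSubgroup φ ∧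
      IsElementaryAbelian p W ∧ Nat.card W = p ^ 2 ∧ D ≤ Subgroup.normalizer (W : Set G) ∧
      ∃ γ : ↥D →* SL2 (ZMod p), Function.Surjective γ ∧
        ∀ x : ↥D, γ x = 1 ↔ (x : G) ∈ Subgroup.centralizer (W : Set G) := by
  classical
  obtain ⟨U, hU⟩ := exists_thompsonPlane hsep hO hnf
  obtain ⟨E, F⟩ := exists_planeFacts hsep hO hU
  have hV : IsElementaryAbelian p (centralClosure p G) :=
    centralClosure_elementaryAbelian (centralizer_pCore_le hsep hO)
  haveI : (centralClosure p G).Normal := centralClosure_normal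
  haveI := Fintype.ofFinite X
  set V := centralClosure p G with hVdef
  letI : CommGroup V :=
    { (inferInstance : Group V) with
      mul_comm := fun a b => Subtype.ext (comm_of_elem hV a.2 b.2) }
  let D : Subgroup G := thompsonL p G ⊓ fixedSubgroup φ
  have hmem : ∀ (x : X) {w : G}, w ∈ V → φ x w ∈ V := fun x w hw =>
    (apply_centralClosure (φ x)).le ⟨w, hw, rfl⟩
  let f : X → (↥(U.subgroupOf V) →* V) := fun x =>
    { toFun := fun w => ⟨φ x ((w : V) : G), hmem x (w : V).2⟩
      map_one' := Subtype.ext (map_one (φ x))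
      map_mul' := fun a b => Subtype.ext (map_mul (φ x) _ _) }
  let N : ↥(U.subgroupOf V) →* G := V.subtype.comp
    { toFun := fun w => ∏ x, f x w
      map_one' := by simp
      map_mul' := fun a b => by simp [Finset.prod_mul_distrib] }
  have hNfix : ∀ w, N w ∈ fixedSubgroup φ := by
    intro w y
    let ψ : V →* V :=
      { toFun := fun v => ⟨φ y (v : G), hmem y v.2⟩
        map_one' := Subtype.ext (map_one (φ y))
        map_mul' := fun a b => Subtype.ext (map_mul (φ y) _ _) }
    have h1 : ψ (∏ x, f x w) = ∏ x, f x w := by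
      rw [map_prod]
      have h2 : ∀ x, ψ (f x w) = f (y * x) w := fun x => Subtype.ext (by
        show φ y (φ x _) = φ (y * x) _
        rw [map_mul]; rfl)
      simp only [h2]
      exact Equiv.prod_comp (Equiv.mulLeft y) (fun x => f x w)
    exact congrArg Subtype.val h1
  -- the stabilizer of the plane
  let Y : Subgroup X :=
    { carrier := {x | U.map (φ x).toMonoidHom = U}
      one_mem' := by
        show U.map (φ 1).toMonoidHom = U
        rw [map_one]; exact Subgroup.map_id U
      mul_mem' := by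
        intro a b ha hb
        show U.map (φ (a * b)).toMonoidHom = U
        rw [map_mul]
        show U.map ((φ a).toMonoidHom.comp (φ b).toMonoidHom) = U
        rw [← Subgroup.map_map, hb, ha]
      inv_mem' := by
        intro a ha
        show U.map (φ a⁻¹).toMonoidHom = U
        conv_lhs => rw [← ha]
        rw [Subgroup.map_map, map_inv]
        convert Subgroup.map_id U using 2
        ext g
        simp }
  have hNinj : ∀ w, N w = 1 → w = 1 := by
    intro w hw
    have hw' : (∏ x, f x w) = 1 := Subtype.ext hw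
    rw [← Finset.prod_filter_mul_prod_filter_not Finset.univ (fun x => x ∈ Y)] at hw'
    have hY : (∏ x ∈ Finset.univ.filter (fun x => x ∈ Y), f x w) =
        (w : V) ^ Nat.card Y := by
      rw [Finset.prod_eq_pow_card (b := (w : V)), Nat.card_eq_fintype_card, Fintype.card_subtype]
      intro x hx
      exact Subtype.ext (apply_eq_of_map_eq φ hsep hO hq hX hU (Finset.mem_filter.mp hx).2 w.2)
    have hrest : ((∏ x ∈ Finset.univ.filter (fun x => ¬ x ∈ Y), f x w : V) : G) ∈
        Subgroup.centralizer (E : Set G) := by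
      have : (∏ x ∈ Finset.univ.filter (fun x => ¬ x ∈ Y), f x w) ∈
          (Subgroup.centralizer (E : Set G)).subgroupOf V := by
        refine Subgroup.prod_mem _ fun x hx => ?_
        refine Subgroup.mem_subgroupOf.mpr ?_
        rw [Subgroup.mem_centralizer_iff]
        intro e he
        exact (Subgroup.mem_centralizer_iff.mp (F.other _ (hU.map (φ x))
          (Finset.mem_filter.mp hx).2 he) _ ⟨_, w.2, rfl⟩).symm
      exact this
    have hwY : ((w : V) : G) ^ Nat.card Y ∈ U ⊓ Subgroup.centralizer (E : Set G) := by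
      refine Subgroup.mem_inf.mpr ⟨pow_mem w.2 _, ?_⟩
      have h1 := eq_inv_of_mul_eq_one_left hw'
      rw [hY] at h1
      rw [← Subgroup.coe_pow, h1]
      exact inv_mem hrest
    rw [F.inf_fix, Subgroup.mem_bot] at hwY
    obtain ⟨i, hi⟩ := (hX.to_subgroup Y).exists_card_eq
    rw [hi] at hwY
    have hqp : Nat.Coprime p (q ^ i) := by
      refine ((Nat.coprime_primes (Fact.out : p.Prime) (Fact.out : q.Prime)).mpr ?_).pow_right i
      intro e
      have h5 := five_le_of_plane hsep hO hq hU
      rcases F.p_eq with h | h <;> omega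
    have h2 : orderOf ((w : V) : G) = 1 := Nat.eq_one_of_dvd_coprimes hqp
      (orderOf_dvd_of_pow_eq_one (hV.2 _ (w : V).2)) (orderOf_dvd_of_pow_eq_one hwY)
    exact Subtype.ext (Subtype.ext (orderOf_eq_one_iff.mp h2))
  have hN_inj : Function.Injective N := (injective_iff_map_eq_one N).mpr hNinj
  have hUn : ∀ {d : G}, d ∈ D → ∀ w : ↥(U.subgroupOf V),
      ∃ w' : ↥(U.subgroupOf V), ((w' : V) : G) = d * ((w : V) : G) * d⁻¹ ∧
        N w' = d * N w * d⁻¹ := by
    intro d hd w
    refine ⟨⟨⟨d * ((w : V) : G) * d⁻¹, (inferInstance : V.Normal).conj_mem _ (w : V).2 d⟩, ?_⟩,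
      rfl, ?_⟩
    · exact (Subgroup.mem_normalizer_iff.mp (hU.2.2.1 hd.1) _).mp w.2
    · let c : V →* V :=
        { toFun := fun v => ⟨d * (v : G) * d⁻¹, (inferInstance : V.Normal).conj_mem _ v.2 d⟩
          map_one' := Subtype.ext (by simp)
          map_mul' := fun a b => Subtype.ext (by simp [mul_assoc]) }
      have h1 : ∀ x, f x ⟨⟨d * ((w : V) : G) * d⁻¹, (inferInstance : V.Normal).conj_mem _ (w : V).2 d⟩,
          (Subgroup.mem_normalizer_iff.mp (hU.2.2.1 hd.1) _).mp w.2⟩ = c (f x w) := fun x =>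
        Subtype.ext (by
          show φ x (d * _ * d⁻¹) = d * φ x _ * d⁻¹
          rw [map_mul, map_mul, map_inv, hd.2 x])
      show ((∏ x, f x _ : V) : G) = d * ((∏ x, f x w : V) : G) * d⁻¹
      simp only [h1, ← map_prod]
      rfl
  have hcent : ∀ {d : G}, d ∈ D →
      (d ∈ Subgroup.centralizer (N.range : Set G) ↔ d ∈ Subgroup.centralizer (U : Set G)) := by
    intro d hd
    rw [Subgroup.mem_centralizer_iff, Subgroup.mem_centralizer_iff]
    constructor
    · intro h u hu
      obtain ⟨w', hw', hN'⟩ := hUn hd ⟨⟨u, hU.1 hu⟩, hu⟩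
      rw [← h _ ⟨_, rfl⟩, mul_inv_cancel_right] at hN'
      rw [hN_inj hN'] at hw'
      exact eq_mul_inv_iff_mul_eq.mp hw'
    · rintro h _ ⟨w, rfl⟩
      obtain ⟨w', hw', hN'⟩ := hUn hd w
      have : w' = w := by
        refine Subtype.ext (Subtype.ext ?_)
        have hw2 : ((w : V) : G) ∈ U := w.2
        rw [hw', ← h _ hw2, mul_inv_cancel_right]
      rw [this] at hN'
      exact eq_mul_inv_iff_mul_eq.mp hN'
  have hcard : Nat.card N.range = p ^ 2 := by
    rw [← hU.2.1, ← Nat.card_congr (MonoidHom.ofInjective hN_inj).toEquiv,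
      Nat.card_congr (Subgroup.subgroupOfEquivOfLe hU.1).toEquiv]
  obtain ⟨β, hβ, hβ'⟩ := F.exists_hom
  refine ⟨F.p_eq, N.range, D, ?_, inf_le_right, ?_, hcard, ?_,
    β.comp (Subgroup.inclusion (inf_le_left : D ≤ thompsonL p G)), ?_, ?_⟩
  · rintro _ ⟨w, rfl⟩
    exact hNfix w
  · exact elementaryAbelian_of_le hV (by rintro _ ⟨w, rfl⟩; exact SetLike.coe_mem _)
  · intro d hd
    refine mem_normalizer_of_map_le ?_
    rintro _ ⟨_, ⟨w, rfl⟩, rfl⟩
    obtain ⟨w', -, hN'⟩ := hUn hd w
    exact ⟨w', hN'⟩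
  · intro s
    obtain ⟨h, rfl⟩ := hβ s
    obtain ⟨d, hdL, hdfix, hd⟩ := exists_fixed_cover φ hsep hO hq hX hU h.2
    refine ⟨⟨d, hdL, hdfix⟩, ?_⟩
    show β ⟨d, hdL⟩ = β h
    rw [← inv_mul_eq_one, ← map_inv, ← map_mul, hβ']
    exact hd
  · intro x
    rw [hcent x.2]
    exact hβ' _

end H8

namespace H8

open H10

variable {G : Type*} [Group G] [Finite G] {p : ℕ} [Fact p.Prime] {q : ℕ} [Fact q.Prime]

/-- The operators on `K` given by a subgroup normalising it. -/
noncomputable abbrev operatorHom (K X : Subgroup G) (hXK : X ≤ Subgroup.normalizer (K : Set G)) :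
    ↥X →* MulAut ↥K :=
  (Subgroup.normalizerMonoidHom K).comp (Subgroup.inclusion hXK)

theorem fixedSubgroup_operatorHom (K X : Subgroup G)
    (hXK : X ≤ Subgroup.normalizer (K : Set G)) :
    fixedSubgroup (operatorHom K X hXK) = (Subgroup.centralizer (X : Set G)).subgroupOf K := by
  ext k
  rw [Subgroup.mem_subgroupOf, Subgroup.mem_centralizer_iff]
  constructor
  · intro h x hx
    have := congrArg Subtype.val (h ⟨x, hx⟩)
    exact mul_inv_eq_iff_eq_mul.mp this
  · intro h x
    exact Subtype.ext (mul_inv_eq_iff_eq_mul.mpr (h x x.2))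

end H8
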