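import Cfsg.Agent.H10.NonFactorizable

/-!
The planes of a `p`-soluble group in which the Thompson factorization fails, read inside the
group itself.
-/

set_option autoImplicit false
set_option linter.style.haveILetI false

open Cfsg
open scoped commutatorElement

namespace H8

open H10

variable {G : Type*} [Group G] {p : ℕ}

/-- `J(G) C_G(V)` for `V` the central closure. -/
abbrev thompsonL (p : ℕ) (G : Type*) [Group G] : Subgroup G :=
  thompsonSubgroup p G ⊔ Subgroup.centralizer (centralClosure p G : Set G)

/-- An intrinsic description of the planes. -/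
def IsThompsonPlane (p : ℕ) {G : Type*} [Group G] (U : Subgroup G) : Prop :=
  U ≤ centralClosure p G ∧ Nat.card U = p ^ 2 ∧
    thompsonL p G ≤ Subgroup.normalizer (U : Set G) ∧
    U ⊓ Subgroup.centralizer (thompsonL p G : Set G) = ⊥

/-- What is used about the factor `E` of a plane `U`. -/
structure PlaneFacts (p : ℕ) {G : Type*} [Group G] (U E : Subgroup G) : Prop where
  le : E ≤ thompsonL p G
  norm : thompsonL p G ≤ Subgroup.normalizer (E : Set G)
  other : ∀ U' : Subgroup G, IsThompsonPlane p U' → U' ≠ U → E ≤ Subgroup.centralizer (U' : Set G)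
  inf_fix : U ⊓ Subgroup.centralizer (E : Set G) = ⊥
  inf_cent : E ⊓ Subgroup.centralizer (U : Set G) ≤
    Subgroup.centralizer (centralClosure p G : Set G)
  cover : ∀ h ∈ thompsonL p G, ∃ e ∈ E, e⁻¹ * h ∈ Subgroup.centralizer (U : Set G)
  p_eq : p = 2 ∨ p = 3
  exists_hom : ∃ β : ↥(thompsonL p G) →* SL2 (ZMod p), Function.Surjective β ∧
    ∀ x : ↥(thompsonL p G), β x = 1 ↔ (x : G) ∈ Subgroup.centralizer (U : Set G)

section transport

variable {V : Subgroup G} [V.Normal]

/-- A subgroup of `V` inside the model. -/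
abbrev inModel (V U : Subgroup G) [V.Normal] : Subgroup (Model V) :=
  (U.subgroupOf V).map (ofV V)

theorem inModel_le (U : Subgroup G) : inModel V U ≤ modelV V :=
  Subgroup.map_le_range _ _

theorem card_inModel {U : Subgroup G} (hU : U ≤ V) : Nat.card (inModel V U) = Nat.card U := by
  rw [← Nat.card_congr (Subgroup.equivMapOfInjective _ _ ofV_injective).toEquiv,
    Nat.card_congr (Subgroup.subgroupOfEquivOfLe hU).toEquiv]

theorem toModel_mem_centralizer_inModel {U : Subgroup G} (hU : U ≤ V) {g : G} :
    toModel V g ∈ Subgroup.centralizer (inModel V U : Set (Model V)) ↔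
      g ∈ Subgroup.centralizer (U : Set G) := by
  constructor
  · intro h
    rw [Subgroup.mem_centralizer_iff]
    intro v hv
    have h1 := Subgroup.mem_centralizer_iff.mp h (ofV V ⟨v, hU hv⟩) ⟨⟨v, hU hv⟩, hv, rfl⟩
    have h2 : ofV V (MulAut.conjNormal g ⟨v, hU hv⟩) = ofV V ⟨v, hU hv⟩ := by
      rw [← toModel_conj, ← h1, mul_inv_cancel_right]
    have h3 := congrArg Subtype.val (ofV_injective h2)
    rw [MulAut.conjNormal_apply] at h3
    exact (mul_inv_eq_iff_eq_mul.mp h3).symm
  · intro h
    rw [Subgroup.mem_centralizer_iff]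
    rintro _ ⟨v, hv, rfl⟩
    rw [eq_comm, ← mul_inv_eq_iff_eq_mul, toModel_conj]
    congr 1
    refine Subtype.ext ?_
    have hv' : (v : G) ∈ U := hv
    rw [MulAut.conjNormal_apply, ← Subgroup.mem_centralizer_iff.mp h _ hv', mul_inv_cancel_right]

theorem toModel_conj_inModel {U : Subgroup G} {g : G}
    (h : g ∈ Subgroup.normalizer (U : Set G)) {x : Model V} (hx : x ∈ inModel V U) :
    toModel V g * x * (toModel V g)⁻¹ ∈ inModel V U := by
  obtain ⟨v, hv, rfl⟩ := hx
  rw [toModel_conj]
  refine ⟨_, ?_, rfl⟩
  rw [SetLike.mem_coe, Subgroup.mem_subgroupOf, MulAut.conjNormal_apply]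
  exact (Subgroup.mem_normalizer_iff.mp h _).mp hv

/-- A subgroup of the module, back in the group. -/
abbrev fromModel (V : Subgroup G) [V.Normal] (W : Subgroup (Model V)) : Subgroup G :=
  (W.comap (ofV V)).map V.subtype

theorem fromModel_le (W : Subgroup (Model V)) : fromModel V W ≤ V := Subgroup.map_subtype_le _

theorem inModel_fromModel {W : Subgroup (Model V)} (hW : W ≤ modelV V) :
    inModel V (fromModel V W) = W := by
  have h : (fromModel V W).subgroupOf V = W.comap (ofV V) :=
    Subgroup.comap_map_eq_self_of_injective V.subtype_injective _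
  rw [inModel, h]
  exact Subgroup.map_comap_eq_self hW

theorem ofV_mem_inModel {U : Subgroup G} {v : V} : ofV V v ∈ inModel V U ↔ (v : G) ∈ U := by
  constructor
  · rintro ⟨w, hw, e⟩
    rw [← ofV_injective e]
    exact hw
  · exact fun h => ⟨v, h, rfl⟩

theorem ofV_mem_centralizer_map {A : Subgroup G} {v : V}
    (h : (v : G) ∈ Subgroup.centralizer (A : Set G)) :
    ofV V v ∈ Subgroup.centralizer (A.map (toModel V) : Set (Model V)) := by
  rw [Subgroup.mem_centralizer_iff]
  rintro _ ⟨a, ha, rfl⟩
  rw [← mul_inv_eq_iff_eq_mul, toModel_conj]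
  congr 1
  refine Subtype.ext ?_
  rw [MulAut.conjNormal_apply]
  exact mul_inv_eq_iff_eq_mul.mpr (Subgroup.mem_centralizer_iff.mp h a ha)

end transport

variable [Finite G] [Fact p.Prime]

theorem thompsonL_normal : (thompsonL p G).Normal := by
  haveI : (centralClosure p G).Normal := centralClosure_normal
  haveI : (thompsonSubgroup p G).Characteristic := thompsonSubgroup_characteristic
  infer_instance

theorem toModel_thompsonL [(centralClosure p G).Normal] :
    ((thompsonSubgroup p G).map (toModel (centralClosure p G))).comap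
      (toModel (centralClosure p G)) = thompsonL p G := by
  have hker : (toModel (centralClosure p G)).ker =
      Subgroup.centralizer (centralClosure p G : Set G) :=
    Subgroup.ext fun g => MonoidHom.mem_ker.trans toModel_eq_one_iff
  rw [Subgroup.comap_map_eq, hker]

section model

variable [(centralClosure p G).Normal]

/-- The group induced by `J(G)`. -/
abbrev modelH (p : ℕ) (G : Type*) [Group G] [(centralClosure p G).Normal] :
    Subgroup (Model (centralClosure p G)) :=
  (thompsonSubgroup p G).map (toModel (centralClosure p G))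

theorem modelH_ffHyp (hsep : IsPSolvable p G) (hO : pPrimeCore p G = ⊥) :
    FFHyp p (modelV (centralClosure p G)) (modelH p G) := by
  haveI : (thompsonSubgroup p G).Characteristic := thompsonSubgroup_characteristic
  exact ffHyp_model (centralClosure_elementaryAbelian (centralizer_pCore_le hsep hO))
    (isPSolvable_subgroup hsep _) (pCore_quotient_centralClosure p G)

theorem le_sSup_tv_modelH (hsep : IsPSolvable p G) (hO : pPrimeCore p G = ⊥) :
    modelH p G ≤ sSup {B | IsTv p (modelV (centralClosure p G)) (modelH p G) B} :=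
  (modelH_ffHyp hsep hO).le_sSup_tv (thompson_model_generated _
    (centralClosure_elementaryAbelian (centralizer_pCore_le hsep hO)) (modelH_ffHyp hsep hO))

/-- An intrinsic plane is the plane of a transvection subgroup. -/
theorem exists_tv_of_plane (hsep : IsPSolvable p G) (hO : pPrimeCore p G = ⊥) {U : Subgroup G}
    (hU : IsThompsonPlane p U) :
    ∃ B, IsTv p (modelV (centralClosure p G)) (modelH p G) B ∧
      planeOf p (modelV (centralClosure p G)) (modelH p G) B = inModel (centralClosure p G) U := by
  set V := centralClosure p G with hVdef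
  have hff := modelH_ffHyp hsep hO
  have hL := toModel_thompsonL (p := p) (G := G)
  obtain ⟨hUV, hUc, hUn, hUf⟩ := hU
  have hHn : modelH p G ≤ Subgroup.normalizer (inModel V U : Set (Model V)) := by
    rintro _ ⟨g, hg, rfl⟩
    refine mem_normalizer_of_map_le ?_
    rintro _ ⟨x, hx, rfl⟩
    exact toModel_conj_inModel (hUn (Subgroup.mem_sup_left hg)) hx
  by_contra hno
  push Not at hno
  have hUne : U ≠ ⊥ := fun e => by
    rw [e, Subgroup.card_bot] at hUc
    exact absurd hUc (Nat.one_lt_pow two_ne_zero (Fact.out : p.Prime).one_lt).ne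
  apply hUne
  rw [eq_bot_iff, ← hUf]
  refine le_inf le_rfl ?_
  rw [Subgroup.le_centralizer_iff]
  intro g hg
  rw [← toModel_mem_centralizer_inModel (V := V) hUV]
  have hg' : toModel V g ∈ modelH p G := by rw [← Subgroup.mem_comap, hL]; exact hg
  refine (le_sSup_tv_modelH hsep hO).trans (sSup_le fun B hB => ?_) hg'
  have F := hff.factorFacts hB
  refine (le_sup_right : B ≤ eGroup p (modelH p G) B).trans ?_
  by_contra hc
  apply hno B hB
  have hQ : oppCore p (modelH p G) ≤
      Subgroup.normalizer (planeOf p (modelV V) (modelH p G) B : Set (Model V)) :=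
    fun q hq => hff.plane_norm_of_normalizer (oppCore_le hq) (F.normQ hq)
  have hne : inModel V U ⊓ planeOf p (modelV V) (modelH p G) B ≠ ⊥ := by
    intro e
    apply hc
    rw [Subgroup.le_centralizer_iff, ← Subgroup.commutator_eq_bot_iff_le_centralizer, eq_bot_iff,
      ← e]
    exact le_inf (H1.commutator_le_left_of_le_normalizer (F.le.trans hHn))
      (Subgroup.commutator_mono (inModel_le U) le_rfl)
  have h1 := F.irred _ inf_le_right (H8.le_normalizer_inf (oppCore_le.trans hHn) hQ) hne
  refine Subgroup.eq_of_le_of_card_ge (h1.ge.trans inf_le_left) ?_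
  rw [card_inModel hUV, hUc, F.card_plane]

/-- The facts about the factor of a transvection subgroup. -/
theorem planeFacts_of_tv (hsep : IsPSolvable p G) (hO : pPrimeCore p G = ⊥) {U : Subgroup G}
    (hUV : U ≤ centralClosure p G) {B : Subgroup (Model (centralClosure p G))}
    (hB : IsTv p (modelV (centralClosure p G)) (modelH p G) B)
    (hW : planeOf p (modelV (centralClosure p G)) (modelH p G) B =
      inModel (centralClosure p G) U) :
    PlaneFacts p U
      ((eGroup p (modelH p G) B).comap (toModel (centralClosure p G))) := by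
  set V := centralClosure p G with hVdef
  set π := toModel V with hπ
  have hff := modelH_ffHyp hsep hO
  have hS3 := thompson_model_generated V
    (centralClosure_elementaryAbelian (centralizer_pCore_le hsep hO)) hff
  have F := hff.factorFacts hB
  obtain ⟨hn, hK, hOE, hinf, hsup, -⟩ := hff.decomposition hS3 hB
  set H := modelH p G with hH
  set E := eGroup p H B with hE
  set O := H ⊓ Subgroup.centralizer (planeOf p (modelV V) H B : Set (Model V)) with hOdef
  have hL : H.comap π = thompsonL p G := toModel_thompsonL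
  have hEH : E ≤ H := F.le
  have hsurj : ∀ y ∈ H, ∃ g, π g = y := by rintro _ ⟨g, -, rfl⟩; exact ⟨g, rfl⟩
  have hOn : H ≤ Subgroup.normalizer (O : Set (Model V)) := by
    refine H8.le_normalizer_inf Subgroup.le_normalizer
      (H8.le_normalizer_centralizer_of_le_normalizer ?_)
    exact fun y hy => hff.plane_norm_of_normalizer hy (hn hy)
  have hcov : ∀ y ∈ H, ∃ e ∈ E, e⁻¹ * y ∈ O := by
    intro y hy
    obtain ⟨e, he, o, ho, rfl⟩ := H10.exists_mul_of_mem_sup (hEH.trans hOn)
      (show y ∈ E ⊔ O by rw [hE, hOdef, hsup]; exact hy)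
    exact ⟨e, he, by simpa using ho⟩
  refine ⟨?_, ?_, ?_, ?_, ?_, ?_, F.p_eq, ?_⟩
  · exact (Subgroup.comap_mono hEH).trans hL.le
  · rw [← hL]
    exact (Subgroup.comap_mono hn).trans (Subgroup.le_normalizer_comap _)
  · intro U' hU' hne g hg
    rw [← toModel_mem_centralizer_inModel (V := V) hU'.1]
    obtain ⟨B', hB', hW'⟩ := exists_tv_of_plane hsep hO hU'
    have hne' : planeOf p (modelV V) H B' ≠ planeOf p (modelV V) H B := by
      rw [hW', hW]
      intro e
      apply hne
      ext x
      constructor
      · intro hx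
        have := e.le ((ofV_mem_inModel (v := (⟨x, hU'.1 hx⟩ : V))).mpr hx)
        exact ofV_mem_inModel.mp this
      · intro hx
        have := e.ge ((ofV_mem_inModel (v := (⟨x, hUV hx⟩ : V))).mpr hx)
        exact ofV_mem_inModel.mp this
    rw [← hW']
    exact hff.le_centralizer_plane hB' hB hne' hg
  · rw [eq_bot_iff]
    intro v hv
    have h1 : ofV V ⟨v, hUV hv.1⟩ ∈ planeOf p (modelV V) H B ⊓ fixOf p (modelV V) H B := by
      refine ⟨hW.ge (ofV_mem_inModel.mpr hv.1), ⟨⟨_, rfl⟩, ?_⟩⟩
      have := ofV_mem_centralizer_map (V := V) (v := (⟨v, hUV hv.1⟩ : V)) hv.2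
      rwa [Subgroup.map_comap_eq_self (hEH.trans (Subgroup.map_le_range _ _))] at this
    rw [F.inf_fix, Subgroup.mem_bot] at h1
    have h2 : (⟨v, hUV hv.1⟩ : V) = 1 := ofV_injective (h1.trans (map_one _).symm)
    exact Subgroup.mem_bot.mpr (congrArg Subtype.val h2)
  · intro g hg
    refine toModel_eq_one_iff.mp (F.eq_one _ (hEH hg.1) ?_ ?_)
    · rw [hW]
      exact (toModel_mem_centralizer_inModel (V := V) hUV).mpr hg.2
    · exact Subgroup.le_centralizer_iff.mp inf_le_right hg.1
  · intro h hh
    obtain ⟨e, he, ho⟩ := hcov (π h) (by rw [← Subgroup.mem_comap, hL]; exact hh)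
    obtain ⟨g, rfl⟩ := hsurj e (hEH he)
    refine ⟨g, he, ?_⟩
    rw [← toModel_mem_centralizer_inModel (V := V) hUV, ← hW, map_mul, map_inv]
    exact ho.2
  · obtain ⟨iso⟩ := F.iso
    haveI : (O.subgroupOf H).Normal :=
      (Subgroup.normal_subgroupOf_iff_le_normalizer inf_le_left).mpr hOn
    let f : ↥E →* ↥H ⧸ O.subgroupOf H :=
      (QuotientGroup.mk' (O.subgroupOf H)).comp (Subgroup.inclusion hEH)
    have hf : Function.Bijective f := by
      refine ⟨(injective_iff_map_eq_one f).mpr fun e he => ?_, fun y => ?_⟩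
      · have hm : Subgroup.inclusion hEH e ∈ O.subgroupOf H :=
          (QuotientGroup.eq_one_iff (N := O.subgroupOf H) _).mp he
        have h1 : (e : Model V) ∈ E ⊓ O := ⟨e.2, hm⟩
        rw [hinf, Subgroup.mem_bot] at h1
        exact Subtype.ext h1
      · induction y using QuotientGroup.induction_on with
        | _ y =>
          obtain ⟨e, he, ho⟩ := hcov y y.2
          exact ⟨⟨e, he⟩, QuotientGroup.eq.mpr ho⟩
    let eqv : ↥H ⧸ O.subgroupOf H ≃* SL2 (ZMod p) := (MulEquiv.ofBijective f hf).symm.trans iso
    let πL : ↥(thompsonL p G) →* ↥H :=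
      (π.comp (thompsonL p G).subtype).codRestrict H fun x => by
        show π (x : G) ∈ H
        rw [← Subgroup.mem_comap, hL]; exact x.2
    refine ⟨eqv.toMonoidHom.comp ((QuotientGroup.mk' (O.subgroupOf H)).comp πL), ?_, ?_⟩
    · refine eqv.surjective.comp ((QuotientGroup.mk'_surjective _).comp ?_)
      rintro ⟨y, hy⟩
      obtain ⟨g, hg, rfl⟩ := hy
      exact ⟨⟨g, Subgroup.mem_sup_left hg⟩, rfl⟩
    · intro x
      show eqv (QuotientGroup.mk' (O.subgroupOf H) (πL x)) = 1 ↔ _
      rw [EmbeddingLike.map_eq_one_iff, QuotientGroup.mk'_apply, QuotientGroup.eq_one_iff,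
        Subgroup.mem_subgroupOf, ← toModel_mem_centralizer_inModel (V := V) hUV, ← hW]
      exact ⟨fun h => h.2, fun h => ⟨(πL x).2, h⟩⟩

/-- The plane of a transvection subgroup is intrinsic. -/
theorem isThompsonPlane_of_tv (hsep : IsPSolvable p G) (hO : pPrimeCore p G = ⊥)
    {B : Subgroup (Model (centralClosure p G))}
    (hB : IsTv p (modelV (centralClosure p G)) (modelH p G) B) :
    IsThompsonPlane p
      (fromModel (centralClosure p G) (planeOf p (modelV (centralClosure p G)) (modelH p G) B)) := by
  set V := centralClosure p G with hVdef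
  have hff := modelH_ffHyp hsep hO
  have F := hff.factorFacts hB
  obtain ⟨hn, -⟩ := hff.decomposition (thompson_model_generated V
    (centralClosure_elementaryAbelian (centralizer_pCore_le hsep hO)) hff) hB
  set W := planeOf p (modelV V) (modelH p G) B with hW
  have hU : inModel V (fromModel V W) = W := inModel_fromModel F.plane_le
  refine ⟨fromModel_le W, ?_, ?_, ?_⟩
  · rw [← card_inModel (V := V) (fromModel_le W), hU, F.card_plane]
  · intro g hg
    refine mem_normalizer_of_map_le ?_
    rintro _ ⟨_, ⟨v, hv, rfl⟩, rfl⟩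
    refine ⟨MulAut.conjNormal g v, ?_, ?_⟩
    · show ofV V (MulAut.conjNormal g v) ∈ W
      rw [← toModel_conj]
      have hgH : toModel V g ∈ modelH p G := by
        rw [← Subgroup.mem_comap, toModel_thompsonL]; exact hg
      exact (Subgroup.mem_normalizer_iff.mp (hff.plane_norm_of_normalizer hgH (hn hgH)) _).mp hv
    · exact MulAut.conjNormal_apply g v
  · have F2 := planeFacts_of_tv hsep hO (fromModel_le W) hB hU.symm
    rw [eq_bot_iff, ← F2.inf_fix]
    exact inf_le_inf_left _ (Subgroup.centralizer_le (SetLike.coe_subset_coe.mpr F2.le))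

end model

theorem exists_planeFacts (hsep : IsPSolvable p G) (hO : pPrimeCore p G = ⊥) {U : Subgroup G}
    (hU : IsThompsonPlane p U) : ∃ E, PlaneFacts p U E := by
  haveI : (centralClosure p G).Normal := centralClosure_normal
  obtain ⟨B, hB, hW⟩ := exists_tv_of_plane hsep hO hU
  exact ⟨_, planeFacts_of_tv hsep hO hU.1 hB hW⟩

theorem exists_thompsonPlane (hsep : IsPSolvable p G) (hO : pPrimeCore p G = ⊥)
    (hnf : ¬ IsThompsonFactorizable p G) : ∃ U : Subgroup G, IsThompsonPlane p U := by
  haveI : (centralClosure p G).Normal := centralClosure_normal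
  by_contra hemp
  apply hnf
  rw [isThompsonFactorizable_iff hO]
  intro j hj
  have h1 : toModel (centralClosure p G) j ∈ (⊥ : Subgroup (Model (centralClosure p G))) :=
    (le_sSup_tv_modelH hsep hO).trans
      (sSup_le fun B hB => absurd ⟨_, isThompsonPlane_of_tv hsep hO hB⟩ hemp) ⟨j, hj, rfl⟩
  exact toModel_eq_one_iff.mp (Subgroup.mem_bot.mp h1)

/-- `J(G) C_G(V)` is generated over `C_G(V)` by the `p`-elements of the factors. -/
theorem thompsonL_le (hsep : IsPSolvable p G) (hO : pPrimeCore p G = ⊥) {T : Subgroup G}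
    (hC : Subgroup.centralizer (centralClosure p G : Set G) ≤ T)
    (hT : ∀ U E : Subgroup G, IsThompsonPlane p U → PlaneFacts p U E →
      ∀ y ∈ E, (∃ k : ℕ, y ^ p ^ k = 1) → y ∈ T) :
    thompsonL p G ≤ T := by
  haveI : (centralClosure p G).Normal := centralClosure_normal
  set V := centralClosure p G
  have hker : (toModel V).ker ≤ T := fun g hg =>
    hC (toModel_eq_one_iff.mp (MonoidHom.mem_ker.mp hg))
  have hle : modelH p G ≤ T.map (toModel V) := by
    refine (le_sSup_tv_modelH hsep hO).trans (sSup_le fun B hB b hb => ?_)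
    obtain ⟨g, -, rfl⟩ := hB.1 hb
    have F := planeFacts_of_tv hsep hO (fromModel_le _) hB
      (inModel_fromModel ((modelH_ffHyp hsep hO).factorFacts hB).plane_le).symm
    have hbp : toModel V g ^ p = 1 := (elementaryAbelian_of_card_prime hB.2.1).2 _ hb
    have hg0 : orderOf g ≠ 0 := (orderOf_pos g).ne'
    set a := (orderOf g).factorization p with ha
    set r := orderOf g / p ^ a with hr
    have hco : r.Coprime p :=
      (Nat.coprime_ordCompl (Fact.out : p.Prime) hg0).symm
    obtain ⟨k, hk⟩ : ∃ k : ℕ, r * k % p = 1 := by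
      obtain ⟨k, -, hk⟩ := Nat.exists_mul_mod_eq_one_of_coprime hco (Fact.out : p.Prime).one_lt
      exact ⟨k, hk⟩
    have himg : toModel V (g ^ (r * k)) = toModel V g := by
      rw [map_pow, ← Nat.mod_add_div (r * k) p, hk, pow_add, pow_mul, hbp, one_pow, mul_one,
        pow_one]
    refine ⟨g ^ (r * k), ?_, himg⟩
    refine hT _ _ (isThompsonPlane_of_tv hsep hO hB) F _ ?_ ⟨a, ?_⟩
    · rw [Subgroup.mem_comap, himg]
      exact Subgroup.mem_sup_right hb
    · rw [← pow_mul, show r * k * p ^ a = r * p ^ a * k by ring,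
        Nat.div_mul_cancel (Nat.ordProj_dvd _ _), pow_mul, pow_orderOf_eq_one, one_pow]
  rw [← toModel_thompsonL]
  refine (Subgroup.comap_mono hle).trans ?_
  rw [Subgroup.comap_map_eq]
  exact sup_le le_rfl hker

end H8
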